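import Groth.Agent.CurvesA.KAS
import Groth.Prelude.Def_Curves
import Mathlib.RingTheory.Spectrum.Prime.Topology
import Mathlib.Topology.LocallyConstant.Algebra

/-!
# Differences of locally constant functions on closed subsets of the spectrum of an absolutely integrally closed ring
-/

set_option autoImplicit false
universe u

open Finset Groth.Agent.CurvesA.KAS PrimeSpectrum

namespace Groth.Agent.CurvesA.AICGlue

variable {R : Type u} [CommRing R] {p : ℕ} [Fact p.Prime]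

/-- an element `v` with `ψ v` vanishing on `A` defines a locally constant function on `A`. -/
theorem exists_lc {ζ : R} (hζ : IsRt p ζ) (A : Set (PrimeSpectrum R)) (v : R)
    (hv : ∀ x ∈ A, ψ p ζ v ∈ x.asIdeal) :
    ∃ a : LocallyConstant A (ZMod p), ∀ x : A, v - q p ζ (a x) ∈ x.1.asIdeal := by
  have h1 : ∀ x : A, ∃ a : ZMod p, v - q p ζ a ∈ x.1.asIdeal := by
    intro x
    obtain ⟨a, -, ha⟩ := (x.1.isPrime.prod_mem_iff).1 (hv x.1 x.2)
    exact ⟨a, ha⟩
  choose a ha using h1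
  have huniq : ∀ (x : PrimeSpectrum R) (b c : ZMod p), v - q p ζ b ∈ x.asIdeal →
      v - q p ζ c ∈ x.asIdeal → b = c := by
    intro x b c hb hc
    by_contra hbc
    have h2 : q p ζ c - q p ζ b ∈ x.asIdeal := by
      have := x.asIdeal.sub_mem hb hc
      rwa [sub_sub_sub_cancel_left] at this
    exact x.isPrime.ne_top (Ideal.eq_top_of_isUnit_mem _ h2 (hζ.isUnit_sub (Ne.symm hbc)))
  refine ⟨⟨a, ?_⟩, ha⟩
  rw [IsLocallyConstant.iff_isOpen_fiber]
  intro b
  have hcl : ∀ c : ZMod p, IsClosed (a ⁻¹' {c}) := by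
    intro c
    have : a ⁻¹' {c} = Subtype.val ⁻¹' (zeroLocus {v - q p ζ c}) := by
      ext x
      simp only [Set.mem_preimage, Set.mem_singleton_iff, mem_zeroLocus, Set.singleton_subset_iff,
        SetLike.mem_coe]
      constructor
      · rintro rfl
        exact ha x
      · intro h
        exact huniq x.1 _ _ (ha x) h
    rw [this]
    exact (isClosed_zeroLocus _).preimage continuous_subtype_val
  have : a ⁻¹' {b} = (⋃ c ∈ (univ.erase b : Finset (ZMod p)), a ⁻¹' {c})ᶜ := by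
    ext x
    simp only [Set.mem_preimage, Set.mem_singleton_iff, mem_erase, mem_univ, and_true, Set.mem_compl_iff,
      Set.mem_iUnion, exists_prop, not_exists, not_and]
    constructor
    · rintro h i hi rfl
      exact hi h
    · intro h
      by_contra hne
      exact h _ hne rfl
  rw [this, isOpen_compl_iff]
  exact isClosed_biUnion_finset fun c _ => hcl c

theorem unique_val {ζ : R} (hζ : IsRt p ζ) {x : PrimeSpectrum R} {b c : ZMod p}
    (h : q p ζ b - q p ζ c ∈ x.asIdeal) : b = c := by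
  by_contra hbc
  exact x.isPrime.ne_top (Ideal.eq_top_of_isUnit_mem _ h (hζ.isUnit_sub hbc))

/-- The element with prescribed values `q (c x)` and `ψ E = 0`. -/
theorem exists_E_quot {S : Type u} [CommRing S] {ζ : S} (c : LocallyConstant (PrimeSpectrum S) (ZMod p)) :
    ∃ E : S, ψ p ζ E = 0 ∧ ∀ y : PrimeSpectrum S, E - q p ζ (c y) ∈ y.asIdeal := by
  have h1 : ∀ a : ZMod p, ∃ e : S, IsIdempotentElem e ∧ c ⁻¹' {a} = basicOpen e := fun a =>
    exists_idempotent_basicOpen_eq_of_isClopen (c.isLocallyConstant.isClopen_fiber a)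
  choose e he hC using h1
  have hmem : ∀ (a : ZMod p) (y : PrimeSpectrum S), c y = a ↔ e a ∉ y.asIdeal := by
    intro a y
    have : y ∈ c ⁻¹' {a} ↔ y ∈ (basicOpen (e a) : Set (PrimeSpectrum S)) := by rw [hC]
    exact this
  have hzero : ∀ z : S, IsIdempotentElem z → (∀ y : PrimeSpectrum S, z ∈ y.asIdeal) → z = 0 := by
    intro z hz h
    obtain ⟨n, hn⟩ := nilpotent_iff_mem_prime.2 (fun J hJ => h ⟨J, hJ⟩)
    rw [← hz.pow_succ_eq n, pow_succ, hn, zero_mul]
  have horth : ∀ a b, a ≠ b → e a * e b = 0 := by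
    intro a b hab
    refine hzero _ ((he a).mul (he b)) fun y => ?_
    by_cases h : c y = a
    · refine y.asIdeal.mul_mem_left _ ?_
      by_contra h2
      exact hab (h.symm.trans ((hmem b y).2 h2))
    · refine y.asIdeal.mul_mem_right _ ?_
      by_contra h2
      exact h ((hmem a y).2 h2)
  have hprod : ∀ (a : ZMod p) (f : ZMod p → S), e a * ∑ b, e b * f b = e a * f a := by
    intro a f
    rw [mul_sum, sum_eq_single a]
    · rw [← mul_assoc, he a]
    · intro b _ hb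
      rw [← mul_assoc, horth a b hb.symm, zero_mul]
    · intro h
      exact (h (mem_univ _)).elim
  have hsum : ∑ a, e a = 1 := by
    have hs : IsIdempotentElem (∑ a, e a) := by
      unfold IsIdempotentElem
      rw [sum_mul]
      refine sum_congr rfl fun a _ => ?_
      have := hprod a (fun _ => 1)
      simpa using this
    have := hzero _ hs.one_sub (fun y => by
      have h2 : e (c y) ∉ y.asIdeal := (hmem _ y).1 rfl
      have h3 : e (c y) * (1 - ∑ a, e a) = 0 := by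
        have := hprod (c y) (fun _ => 1)
        simp only [mul_one] at this
        rw [mul_sub, this, mul_one, sub_self]
      exact (y.isPrime.mem_or_mem (by rw [h3]; exact y.asIdeal.zero_mem)).resolve_left h2)
    exact (sub_eq_zero.1 this).symm
  refine ⟨∑ a, e a * q p ζ a, ?_, ?_⟩
  · have h2 : ∀ a, e a * ψ p ζ (∑ a, e a * q p ζ a) = 0 := by
      intro a
      unfold ψ
      rw [← mul_prod_erase univ _ (mem_univ a), ← mul_assoc, mul_sub, hprod, sub_self, zero_mul]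
    rw [← one_mul (ψ p ζ _), ← hsum, sum_mul]
    exact sum_eq_zero fun a _ => h2 a
  · intro y
    have h2 : e (c y) ∉ y.asIdeal := (hmem _ y).1 rfl
    have h3 : e (c y) * (∑ a, e a * q p ζ a - q p ζ (c y)) = 0 := by
      rw [mul_sub, hprod, sub_self]
    exact (y.isPrime.mem_or_mem (by rw [h3]; exact y.asIdeal.zero_mem)).resolve_left h2

theorem exists_E (ζ : R) (K : Ideal R) (c : LocallyConstant (zeroLocus (K : Set R)) (ZMod p)) :
    ∃ E : R, ψ p ζ E ∈ K ∧ ∀ x : zeroLocus (K : Set R), E - q p ζ (c x) ∈ x.1.asIdeal := by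
  let π : R →+* R ⧸ K := Ideal.Quotient.mk K
  have hπ : ∀ y : PrimeSpectrum (R ⧸ K), comap π y ∈ zeroLocus (K : Set R) := by
    intro y r hr
    change π r ∈ y.asIdeal
    rw [(Ideal.Quotient.eq_zero_iff_mem.2 hr : π r = 0)]
    exact y.asIdeal.zero_mem
  let g : C(PrimeSpectrum (R ⧸ K), zeroLocus (K : Set R)) :=
    ⟨fun y => ⟨comap π y, hπ y⟩, by
      apply Continuous.subtype_mk
      exact continuous_comap π⟩
  obtain ⟨E', h1, h2⟩ := exists_E_quot (ζ := π ζ) (c.comap g)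
  obtain ⟨E, rfl⟩ := Ideal.Quotient.mk_surjective E'
  refine ⟨E, ?_, ?_⟩
  · rw [← Ideal.Quotient.eq_zero_iff_mem]
    exact (map_ψ ζ π E).trans h1
  · rintro ⟨x, hx⟩
    have h3 : x ∈ Set.range (comap π) := by
      rw [range_comap_of_surjective _ π Ideal.Quotient.mk_surjective, Ideal.mk_ker]
      exact hx
    obtain ⟨y, rfl⟩ := h3
    have h4 := h2 y
    change π (E - q p ζ (c ⟨comap π y, hx⟩)) ∈ y.asIdeal
    rw [map_sub, map_q]
    exact h4

theorem exists_E' (ζ : R) (K : Ideal R) {C : Set (PrimeSpectrum R)} (hC : zeroLocus (K : Set R) = C)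
    (c : LocallyConstant C (ZMod p)) :
    ∃ E : R, ψ p ζ E ∈ K ∧ ∀ x : C, E - q p ζ (c x) ∈ x.1.asIdeal := by
  subst hC
  exact exists_E ζ K c

/-- existence of `ζ` -/
theorem exists_isRt (hR : Curves.IsAIC R) [Nontrivial R] : ∃ ζ : R, IsRt p ζ := by
  have hp := (Fact.out : p.Prime)
  obtain ⟨ζ, h⟩ := hR (Polynomial.cyclotomic p R) (Polynomial.cyclotomic.monic p R) (by
    rw [Polynomial.natDegree_cyclotomic, Nat.totient_prime hp]
    have := hp.two_le
    omega)
  rw [Polynomial.cyclotomic_prime, Polynomial.eval_finsetSum] at h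
  exact ⟨ζ, by simpa [IsRt] using h⟩

/-- the auxiliary root: `s` is a unit modulo `J` -/
theorem exists_inv {J : Ideal R} {ζ E x h : R} (hh : (ζ - 1) * h = (1 + (ζ - 1) * E) ^ p - 1)
    (hF : (x - E) ^ p + h * x ^ (p - 1) ∈ J) : ∃ t : R, (1 + (ζ - 1) * x) * t - 1 ∈ J := by
  have hp := (Fact.out : p.Prime)
  obtain ⟨m, rfl⟩ : ∃ m, p = m + 1 := ⟨p - 1, by have := hp.two_le; omega⟩
  rw [Nat.add_sub_cancel] at hF
  set s := 1 + (ζ - 1) * x with hs
  set g := 1 + (ζ - 1) * E with hg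
  have h1 : (s - g) ^ (m + 1) + (g ^ (m + 1) - 1) * (s - 1) ^ m ∈ J := by
    have h2 : (s - g) ^ (m + 1) + (g ^ (m + 1) - 1) * (s - 1) ^ m =
        (ζ - 1) ^ (m + 1) * ((x - E) ^ (m + 1) + h * x ^ m) := by
      rw [← hh]
      have e1 : s - g = (ζ - 1) * (x - E) := by rw [hs, hg]; ring
      have e2 : s - 1 = (ζ - 1) * x := by rw [hs]; ring
      rw [e1, e2, mul_pow, mul_pow]
      ring
    rw [h2]
    exact J.mul_mem_left _ hF
  obtain ⟨k₁, hk₁⟩ : s ∣ (s - g) ^ (m + 1) - (-g) ^ (m + 1) := by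
    have := sub_dvd_pow_sub_pow (s - g) (-g) (m + 1)
    rwa [sub_neg_eq_add, sub_add_cancel] at this
  obtain ⟨k₂, hk₂⟩ : s ∣ (s - 1) ^ m - (-1) ^ m := by
    have := sub_dvd_pow_sub_pow (s - 1) (-1) m
    rwa [sub_neg_eq_add, sub_add_cancel] at this
  have h3 : (s - g) ^ (m + 1) + (g ^ (m + 1) - 1) * (s - 1) ^ m =
      (-1) ^ (m + 1) + s * (k₁ + (g ^ (m + 1) - 1) * k₂) := by
    have e1 : (s - g) ^ (m + 1) = (-g) ^ (m + 1) + s * k₁ := by rw [← hk₁]; ring
    have e2 : (s - 1) ^ m = (-1) ^ m + s * k₂ := by rw [← hk₂]; ring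
    rw [e1, e2, neg_pow g (m + 1)]
    ring
  refine ⟨-(-1) ^ (m + 1) * (k₁ + (g ^ (m + 1) - 1) * k₂), ?_⟩
  have h4 : s * (-(-1) ^ (m + 1) * (k₁ + (g ^ (m + 1) - 1) * k₂)) - 1 =
      -(-1) ^ (m + 1) * ((s - g) ^ (m + 1) + (g ^ (m + 1) - 1) * (s - 1) ^ m) := by
    rw [h3]
    have e3 : ((-1 : R) ^ (m + 1)) * (-1) ^ (m + 1) = 1 := by
      rw [← mul_pow]
      simp
    linear_combination e3
  rw [h4]
  exact J.mul_mem_left _ h1

theorem exists_sub (hR : Curves.IsAIC R) (A B : Set (PrimeSpectrum R)) (cA : IsClosed A)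
    (cB : IsClosed B) (c : LocallyConstant (A ∩ B : Set (PrimeSpectrum R)) (ZMod p)) :
    ∃ (a : LocallyConstant A (ZMod p)) (b : LocallyConstant B (ZMod p)),
      ∀ (x : PrimeSpectrum R) (hA : x ∈ A) (hB : x ∈ B), c ⟨x, hA, hB⟩ = a ⟨x, hA⟩ - b ⟨x, hB⟩ := by
  rcases subsingleton_or_nontrivial R with hR0 | hR0
  · exact ⟨0, 0, fun x => (IsEmpty.false x).elim⟩
  have hp := (Fact.out : p.Prime)
  obtain ⟨ζ, hζ⟩ := exists_isRt (p := p) hR
  let I := vanishingIdeal A
  let J := vanishingIdeal B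
  have hI : I.IsRadical := isRadical_vanishingIdeal A
  have zI : zeroLocus (I : Set R) = A := by
    rw [zeroLocus_vanishingIdeal_eq_closure, cA.closure_eq]
  have zJ : zeroLocus (J : Set R) = B := by
    rw [zeroLocus_vanishingIdeal_eq_closure, cB.closure_eq]
  have hIx : ∀ x ∈ A, ∀ r ∈ I, r ∈ x.asIdeal := by
    intro x hx r hr
    rw [← zI] at hx
    exact hx hr
  have hJx : ∀ x ∈ B, ∀ r ∈ J, r ∈ x.asIdeal := by
    intro x hx r hr
    rw [← zJ] at hx
    exact hx hr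
  have zK : zeroLocus ((I ⊔ J : Ideal R) : Set R) = A ∩ B := by
    rw [zeroLocus_sup, zI, zJ]
  obtain ⟨E, hE1, hE2⟩ := exists_E' ζ (I ⊔ J) zK c
  -- the element `h = (ζ - 1)^(p-1) ψ E = a₀ + b₀`
  have hh1 : (ζ - 1) ^ (p - 1) * ψ p ζ E ∈ I ⊔ J := Ideal.mul_mem_left _ _ hE1
  obtain ⟨a₀, ha₀, b₀, hb₀, hab⟩ := Submodule.mem_sup.1 hh1
  have hh2 : (ζ - 1) * ((ζ - 1) ^ (p - 1) * ψ p ζ E) = (1 + (ζ - 1) * E) ^ p - 1 := by
    rw [hζ.one_add_pow, ← mul_assoc, ← pow_succ', Nat.sub_add_cancel hp.one_le]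
    ring
  -- the root `α`
  obtain ⟨α, hα⟩ : ∃ α : R, α ^ p + a₀ * (E + α) ^ (p - 1) = 0 := by
    let P : Polynomial R := Polynomial.C a₀ * (Polynomial.C E + Polynomial.X) ^ (p - 1)
    have hdeg : P.degree < (Polynomial.X ^ p : Polynomial R).degree := by
      rw [Polynomial.degree_X_pow]
      refine lt_of_le_of_lt (Polynomial.degree_mul_le _ _) ?_
      refine lt_of_le_of_lt (add_le_add Polynomial.degree_C_le (Polynomial.degree_pow_le _ _)) ?_
      rw [zero_add]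
      have h1 : (Polynomial.C E + Polynomial.X : Polynomial R).degree = 1 := by
        rw [add_comm]
        exact Polynomial.degree_X_add_C E
      rw [h1]
      have h2 : p - 1 < p := by have := hp.two_le; omega
      rw [nsmul_one]
      exact_mod_cast h2
    have hm : (Polynomial.X ^ p + P).Monic := (Polynomial.monic_X_pow p).add_of_left hdeg
    obtain ⟨α, hα⟩ := hR _ hm (by
      rw [Polynomial.natDegree_add_eq_left_of_degree_lt hdeg, Polynomial.natDegree_X_pow]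
      exact hp.pos)
    exact ⟨α, by simpa [P] using hα⟩
  have hαI : α ∈ I := by
    refine hI ⟨p, ?_⟩
    have : α ^ p = - (a₀ * (E + α) ^ (p - 1)) := eq_neg_of_add_eq_zero_left hα
    rw [this]
    exact I.neg_mem (I.mul_mem_right _ ha₀)
  set x₀ := E + α with hx₀
  obtain ⟨t, ht⟩ := exists_inv (J := J) (x := x₀) hh2 (by
    have : (x₀ - E) ^ p + (ζ - 1) ^ (p - 1) * ψ p ζ E * x₀ ^ (p - 1) = b₀ * x₀ ^ (p - 1) := by
      rw [← hab]
      have e1 : x₀ - E = α := by rw [hx₀]; ring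
      rw [e1]
      linear_combination hα
    rw [this]
    exact J.mul_mem_right _ hb₀)
  -- `ψ x₀ = y + z`
  have hψx : ψ p ζ x₀ ∈ I ⊔ J := by
    rw [← Ideal.Quotient.eq_zero_iff_mem, map_ψ]
    have e1 : Ideal.Quotient.mk (I ⊔ J) x₀ = Ideal.Quotient.mk (I ⊔ J) E := by
      rw [Ideal.Quotient.eq]
      have : x₀ - E = α := by rw [hx₀]; ring
      rw [this]
      exact Ideal.mem_sup_left hαI
    rw [e1, ← map_ψ, Ideal.Quotient.eq_zero_iff_mem]
    exact hE1
  obtain ⟨y, hy, z, hz, hyz⟩ := Submodule.mem_sup.1 hψx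
  -- the root `v`
  obtain ⟨v, hv⟩ : ∃ v : R, ψ p ζ v = y := by
    let P : Polynomial R := ∏ a : ZMod p, (Polynomial.X - Polynomial.C (q p ζ a))
    have hPm : P.Monic := Polynomial.monic_prod_X_sub_C _ _
    have hPd : P.natDegree = p := by
      rw [Polynomial.natDegree_prod_of_monic _ _ (fun a _ => Polynomial.monic_X_sub_C _)]
      simp [ZMod.card]
    have hdeg : (-Polynomial.C y).degree < P.degree := by
      rw [Polynomial.degree_neg]
      refine lt_of_le_of_lt Polynomial.degree_C_le ?_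
      rw [Polynomial.degree_eq_natDegree hPm.ne_zero, hPd]
      exact_mod_cast hp.pos
    obtain ⟨v, hv⟩ := hR _ (hPm.add_of_left hdeg) (by
      rw [Polynomial.natDegree_add_eq_left_of_degree_lt hdeg, hPd]
      exact hp.pos)
    refine ⟨v, ?_⟩
    rw [Polynomial.eval_add, Polynomial.eval_neg, Polynomial.eval_C, Polynomial.eval_prod] at hv
    simp only [Polynomial.eval_sub, Polynomial.eval_X, Polynomial.eval_C] at hv
    exact sub_eq_zero.1 (by rw [sub_eq_add_neg]; exact hv)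
  let w := (v - x₀) * t
  have hvw : v - (x₀ + w + (ζ - 1) * x₀ * w) ∈ J := by
    have : v - (x₀ + w + (ζ - 1) * x₀ * w) = -(v - x₀) * ((1 + (ζ - 1) * x₀) * t - 1) := by
      simp only [w]
      ring
    rw [this]
    exact J.mul_mem_left _ ht
  have hψw : ψ p ζ w ∈ J := by
    have e1 : Ideal.Quotient.mk J v = Ideal.Quotient.mk J (x₀ + w + (ζ - 1) * x₀ * w) :=
      (Ideal.Quotient.eq).2 hvw
    have e2 : Ideal.Quotient.mk J (ψ p ζ v) = Ideal.Quotient.mk J (ψ p ζ (x₀ + w + (ζ - 1) * x₀ * w)) := by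
      rw [map_ψ, map_ψ, e1]
    rw [Ideal.Quotient.eq, hζ.ψ_mul, hv] at e2
    have e3 : (1 + (ζ - 1) * x₀) ^ p * ψ p ζ w ∈ J := by
      have : (1 + (ζ - 1) * x₀) ^ p * ψ p ζ w = -(z + (y - (ψ p ζ x₀ + ψ p ζ w +
          (ζ - 1) ^ p * ψ p ζ x₀ * ψ p ζ w))) := by
        rw [hζ.one_add_pow]
        linear_combination hyz
      rw [this]
      exact J.neg_mem (J.add_mem hz e2)
    have e4 : ((1 + (ζ - 1) * x₀) * t) ^ p - 1 ∈ J := by
      obtain ⟨k, hk⟩ := sub_one_dvd_pow_sub_one ((1 + (ζ - 1) * x₀) * t) p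
      rw [hk]
      exact J.mul_mem_right _ ht
    have e5 : ψ p ζ w = t ^ p * ((1 + (ζ - 1) * x₀) ^ p * ψ p ζ w) -
        ψ p ζ w * (((1 + (ζ - 1) * x₀) * t) ^ p - 1) := by
      rw [mul_pow]
      ring
    rw [e5]
    exact J.sub_mem (J.mul_mem_left _ e3) (J.mul_mem_left _ e4)
  obtain ⟨a, ha⟩ := exists_lc hζ A v (fun x hx => hIx x hx _ (by rw [hv]; exact hy))
  obtain ⟨b, hb⟩ := exists_lc hζ B w (fun x hx => hJx x hx _ hψw)
  refine ⟨a, b, fun x hA hB => ?_⟩
  have h1 : v - q p ζ (a ⟨x, hA⟩) ∈ x.asIdeal := ha ⟨x, hA⟩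
  have h2 : w - q p ζ (b ⟨x, hB⟩) ∈ x.asIdeal := hb ⟨x, hB⟩
  have h3 : E - q p ζ (c ⟨x, hA, hB⟩) ∈ x.asIdeal := hE2 ⟨x, hA, hB⟩
  have h4 : α ∈ x.asIdeal := hIx x hA _ hαI
  have h5 := hJx x hB _ hvw
  rw [eq_sub_iff_add_eq]
  symm
  refine unique_val hζ (x := x) ?_
  rw [hζ.q_add]
  rw [← Ideal.Quotient.eq_zero_iff_mem] at h1 h2 h3 h4 h5 ⊢
  simp only [map_sub, map_add, map_mul, map_one] at h1 h2 h3 h4 h5 ⊢
  rw [hx₀] at h5
  rw [map_add, h4] at h5
  rw [sub_eq_zero] at h1 h2 h3 h5 ⊢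
  rw [← h1, ← h2, ← h3, h5]
  ring

/-! ### Finite coefficient groups -/

/-- Locally constant functions on the intersection of two closed subsets are differences. -/
def DiffProp (Y : Type*) [TopologicalSpace Y] (G : Type*) [AddCommGroup G] : Prop :=
  ∀ (A B : Set Y), IsClosed A → IsClosed B → ∀ c : LocallyConstant (A ∩ B : Set Y) G,
    ∃ (a : LocallyConstant A G) (b : LocallyConstant B G),
      ∀ (x : Y) (hA : x ∈ A) (hB : x ∈ B), c ⟨x, hA, hB⟩ = a ⟨x, hA⟩ - b ⟨x, hB⟩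

theorem DiffProp.of_subsingleton {Y : Type*} [TopologicalSpace Y] {G : Type*} [AddCommGroup G]
    [Subsingleton G] : DiffProp Y G :=
  fun _ _ _ _ _ => ⟨0, 0, fun _ _ _ => Subsingleton.elim _ _⟩

theorem DiffProp.of_exact {Y : Type*} [TopologicalSpace Y] {G' G G'' : Type*} [AddCommGroup G']
    [AddCommGroup G] [AddCommGroup G''] (f : G' →+ G) (g : G →+ G'')
    (hg : Function.Surjective g) (hfg : ∀ x, g x = 0 → ∃ y, f y = x) (h' : DiffProp Y G')
    (h'' : DiffProp Y G'') : DiffProp Y G := by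
  intro A B cA cB c
  obtain ⟨a'', b'', e''⟩ := h'' A B cA cB (c.map g)
  let a₀ : LocallyConstant A G := a''.map (Function.surjInv hg)
  let b₀ : LocallyConstant B G := b''.map (Function.surjInv hg)
  have ha₀ : ∀ x, g (a₀ x) = a'' x := fun x => Function.surjInv_eq hg _
  have hb₀ : ∀ x, g (b₀ x) = b'' x := fun x => Function.surjInv_eq hg _
  let iA : C((A ∩ B : Set Y), A) := ⟨fun x => ⟨x.1, x.2.1⟩, by fun_prop⟩
  let iB : C((A ∩ B : Set Y), B) := ⟨fun x => ⟨x.1, x.2.2⟩, by fun_prop⟩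
  let d : LocallyConstant (A ∩ B : Set Y) G := c - a₀.comap iA + b₀.comap iB
  have hd : ∀ x, g (d x) = 0 := by
    intro x
    have h1 : d x = c x - a₀ ⟨x.1, x.2.1⟩ + b₀ ⟨x.1, x.2.2⟩ := rfl
    have h2 : g (c x) = a'' ⟨x.1, x.2.1⟩ - b'' ⟨x.1, x.2.2⟩ := e'' x.1 x.2.1 x.2.2
    rw [h1, map_add, map_sub, ha₀, hb₀, h2]
    abel
  classical
  let τ : G → G' := fun x => if h : g x = 0 then (hfg x h).choose else 0
  have hτ : ∀ x, g x = 0 → f (τ x) = x := by
    intro x hx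
    simp only [τ, dif_pos hx]
    exact (hfg x hx).choose_spec
  obtain ⟨a', b', e'⟩ := h' A B cA cB (d.map τ)
  refine ⟨a₀ + a'.map f, b₀ + b'.map f, fun x hA hB => ?_⟩
  have h1 : f (τ (d ⟨x, hA, hB⟩)) = f (a' ⟨x, hA⟩ - b' ⟨x, hB⟩) := congrArg f (e' x hA hB)
  rw [hτ _ (hd _), map_sub] at h1
  have h2 : d ⟨x, hA, hB⟩ = c ⟨x, hA, hB⟩ - a₀ ⟨x, hA⟩ + b₀ ⟨x, hB⟩ := rfl
  rw [h2] at h1
  have h3 : (a₀ + a'.map f) ⟨x, hA⟩ = a₀ ⟨x, hA⟩ + f (a' ⟨x, hA⟩) := rfl
  have h4 : (b₀ + b'.map f) ⟨x, hB⟩ = b₀ ⟨x, hB⟩ + f (b' ⟨x, hB⟩) := rfl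
  rw [h3, h4]
  have h5 := eq_add_of_sub_eq (eq_sub_of_add_eq h1)
  rw [h5]
  abel

theorem DiffProp.of_addEquiv {Y : Type*} [TopologicalSpace Y] {G G' : Type*} [AddCommGroup G]
    [AddCommGroup G'] (e : G ≃+ G') (h : DiffProp Y G) : DiffProp Y G' := by
  intro A B cA cB c
  obtain ⟨a, b, h⟩ := h A B cA cB (c.map e.symm)
  refine ⟨a.map e, b.map e, fun x hA hB => ?_⟩
  have h1 := congrArg e (h x hA hB)
  rw [map_sub] at h1
  refine Eq.trans ?_ h1
  exact (e.apply_symm_apply _).symm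

theorem diffProp_of_finite {Y : Type*} [TopologicalSpace Y]
    (hY : ∀ p : ℕ, [Fact p.Prime] → DiffProp Y (ZMod p)) (n : ℕ) :
    ∀ (G : Type) [AddCommGroup G] [Finite G], Nat.card G = n → DiffProp Y G := by
  induction n using Nat.strong_induction_on with
  | _ n ih =>
    intro G _ _ hn
    rcases subsingleton_or_nontrivial G with hG | hG
    · exact DiffProp.of_subsingleton
    obtain ⟨p, hp, hpd⟩ := Nat.exists_prime_and_dvd (Finite.one_lt_card (α := G)).ne'
    have : Fact p.Prime := ⟨hp⟩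
    obtain ⟨x, hx⟩ := exists_prime_addOrderOf_dvd_card' p hpd
    let H : AddSubgroup G := AddSubgroup.zmultiples x
    have hH : Nat.card H = p := by rw [← hx]; exact Nat.card_zmultiples x
    have e : ZMod p ≃+ H := addEquivOfPrimeCardEq (p := p) (Nat.card_zmod p) hH
    have hc : Nat.card G = Nat.card (G ⧸ H) * Nat.card H := AddSubgroup.card_eq_card_quotient_mul_card_addSubgroup H
    have hlt : Nat.card (G ⧸ H) < n := by
      rw [← hn, hc, hH]
      have h0 : 0 < Nat.card (G ⧸ H) := Nat.card_pos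
      have := hp.two_le
      nlinarith
    refine DiffProp.of_exact H.subtype (QuotientAddGroup.mk' H) (QuotientAddGroup.mk'_surjective H) ?_
      ((hY p).of_addEquiv e) (ih _ hlt (G ⧸ H) rfl)
    intro y hy
    exact ⟨⟨y, (QuotientAddGroup.eq_zero_iff y).1 hy⟩, rfl⟩

theorem diffProp (hR : Curves.IsAIC R) (G : Type) [AddCommGroup G] [Finite G] :
    DiffProp (PrimeSpectrum R) G :=
  diffProp_of_finite (fun _ _ A B cA cB c => exists_sub hR A B cA cB c) _ G rfl

end Groth.Agent.CurvesA.AICGlue
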