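import Groth.Agent.CurvesA.ConstPres911
import Groth.Agent.EtpbcA.CharPInd
import Groth.Agent.EtpbcA.KilledBy
import Groth.Agent.S0134

/-!
# Cohomological dimension `≤ 1` from the vanishing of `H²(X, j_! ℤ/n)`
-/

set_option autoImplicit false
universe u
open CategoryTheory CategoryTheory.Limits AlgebraicGeometry Opposite

namespace Groth.Agent.CurvesA.AffCdGlue

open Groth.Agent.EtpbcA Groth.Agent.EtpbcA.Present Groth.Agent.EtpbcA.CharPInd

variable {X : Scheme.{u}}

/-- `X` qcqs, normal and integral. If `H^q(X, j_! ℤ/n) = 0` for all `j : U ⟶ X` étale, `U` affine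
integral, and `H^{q+1}(X, F) = 0` for `F` torsion, then `H^q(X, F) = 0` for all torsion `F`. -/
theorem subsingleton_H_of_torsion [IsIntegral X] (hX : Pi1.IsNormalScheme X) [CompactSpace X]
    [QuasiSeparatedSpace X] (q : ℕ)
    (h2 : ∀ (U : X.Etale) (_ : IsAffine U.left) (_ : IsIntegral U.left) (n : ℕ), 0 < n →
      Subsingleton (EtCoh.H X (EtPBC.extZeroConst U (ZMod n)) q))
    (h3 : ∀ F : EtCoh.Ab X, EtCoh.IsTorsion F → Subsingleton (EtCoh.H X F (q + 1)))
    (F : EtCoh.Ab X) (hF : EtCoh.IsTorsion F) : Subsingleton (EtCoh.H X F q) := by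
  obtain ⟨J, _, _, D, c, hc, hD, ⟨e⟩⟩ := Groth.Agent.S0134.result X F hF
  refine subsingleton_of_iso e q (subsingleton_of_colimit q hc fun j => ?_)
  obtain ⟨n, hn, hk⟩ := KilledBy.exists_killedBy_of_isConstructible (hD j)
  obtain ⟨b, U, hU1, hU2, p, hp⟩ := ConstPres.exists_epi_integral hX (hD j) hk
  have h1 : EtCoh.KilledBy n (⨁ fun i => EtPBC.extZeroConst (U i) (ZMod n)) :=
    killedBy_biproduct _ (fun i => killedBy_extZeroConst _ _)
  have h4 : EtCoh.KilledBy n (kernel p) := killedBy_of_mono (kernel.ι p) h1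
  let S : ShortComplex (EtCoh.Ab X) := ShortComplex.mk (kernel.ι p) p (kernel.condition _)
  have hS : S.ShortExact :=
    { exact := ShortComplex.exact_of_f_is_kernel _ (kernelIsKernel p)
      mono_f := inferInstanceAs (Mono (kernel.ι p))
      epi_g := hp }
  refine CdLeray.ext_right hS _ q ?_ ?_
  · exact subsingleton_biproduct q b _ fun i => h2 (U i) (hU1 i) (hU2 i) n hn
  · refine h3 _ fun V s x => ⟨V, 𝟙 V, ⟨x, rfl⟩, ?_⟩
    rw [isOfFinAddOrder_iff_nsmul_eq_zero]
    exact ⟨n, hn, h4 _ _⟩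

/-- `X` qcqs, normal and integral with `H²(X, j_! ℤ/n) = 0` for all `j : U ⟶ X` étale, `U` affine
integral, and no cohomology of torsion sheaves in degrees `≥ 3`: then `cd(X) ≤ 1`. -/
theorem cohDimLE_one [IsIntegral X] (hX : Pi1.IsNormalScheme X) [CompactSpace X]
    [QuasiSeparatedSpace X]
    (h2 : ∀ (U : X.Etale) (_ : IsAffine U.left) (_ : IsIntegral U.left) (n : ℕ), 0 < n →
      Subsingleton (EtCoh.H X (EtPBC.extZeroConst U (ZMod n)) 2))
    (h3 : ∀ F : EtCoh.Ab X, EtCoh.IsTorsion F → ∀ q : ℕ, 3 ≤ q → Subsingleton (EtCoh.H X F q)) :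
    EtCoh.CohDimLE X 1 := by
  intro F hF q hq
  obtain rfl | h : q = 2 ∨ 3 ≤ q := by omega
  · exact subsingleton_H_of_torsion hX 2 h2 (fun G hG => h3 G hG 3 le_rfl) F hF
  · exact h3 F hF q h

end Groth.Agent.CurvesA.AffCdGlue
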