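import Groth.Agent.VarietyA.Dim1Pole
import Groth.Agent.VarietyA.Dim1Alg2
import Groth.Agent.VarietyA.Dim1Ring

/-!
# Local heart of Stacks 09NN

`X` separated, `U`, `V` affine opens, `x ∈ V \ U` a point with Noetherian local ring of dimension
`≤ 1`, `U ∩ V = D(g)` with `g ∈ Γ(V)`, `t ∈ Γ(U)` invertible at all proper generizations of `x`.
Then after shrinking `V` around `x` there are `a ∈ Γ(U)`, `b ∈ Γ(V)` with `a t b = 1` on `U ∩ V`,
and `b` vanishes outside `U`.
-/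

set_option autoImplicit false

universe u v w

open CategoryTheory CategoryTheory.Limits AlgebraicGeometry TopologicalSpace Opposite

namespace Groth.Agent.CurvesA.AffHeart

open Groth.Agent.Fdesc.LocGen Groth.Agent.VarietyA Groth.Agent.VarietyA.Dim1Top
  Groth.Agent.VarietyA.Dim1Pole

variable {X : Scheme.{u}}

/-- An affine open `V ∋ z` such that `U ∩ V = D(g)`. -/
structure Nbhd (U : X.Opens) (z : X) where
  /-- the affine open -/
  V : X.Opens
  hV : IsAffineOpen V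
  hz : z ∈ V
  /-- the function -/
  g : Γ(X, V)
  hg : U ⊓ V = X.basicOpen g

section Point

variable {U : X.Opens} {z : X} (G : Nbhd U z)

/-- the punctured local ring -/
abbrev Qz : Type u := Localization.Away (gm G.V G.hz G.g)

theorem hle (_G : Nbhd U z) : U ⊓ _G.V ≤ U := inf_le_left
theorem hle' (_G : Nbhd U z) : U ⊓ _G.V ≤ _G.V := inf_le_right

theorem isLoc : @IsLocalization.Away Γ(X, G.V) _ G.g Γ(X, U ⊓ G.V) _ (ores (hle' G)).toAlgebra :=
  G.hV.isLocalization_of_eq_basicOpen G.g (homOfLE inf_le_right) G.hg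

theorem exists_psi : ∃ ψ : Γ(X, U ⊓ G.V) →+* Qz G,
    ∀ a : Γ(X, G.V), ψ (ores (hle' G) a) = algebraMap (Bz z) (Qz G) (gm G.V G.hz a) := by
  let := (ores (hle' G)).toAlgebra
  have := isLoc G
  have hu : IsUnit (((algebraMap (Bz z) (Qz G)).comp (gm G.V G.hz)) G.g) :=
    IsLocalization.Away.algebraMap_isUnit (gm G.V G.hz G.g)
  exact ⟨IsLocalization.Away.lift (S := Γ(X, U ⊓ G.V)) G.g hu,
    fun a => IsLocalization.Away.lift_eq G.g hu a⟩

theorem psi_eq_zero (ψ : Γ(X, U ⊓ G.V) →+* Qz G)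
    (hψ : ∀ a : Γ(X, G.V), ψ (ores (hle' G) a) = algebraMap (Bz z) (Qz G) (gm G.V G.hz a))
    (e : Γ(X, U ⊓ G.V)) (he : ψ e = 0) :
    ∃ (V' : X.Opens) (h : V' ≤ G.V), z ∈ V' ∧ ores (show U ⊓ V' ≤ U ⊓ G.V from inf_le_inf_left _ h) e = 0 := by
  let := (ores (hle' G)).toAlgebra
  have hloc := isLoc G
  have halg : ∀ a : Γ(X, G.V), algebraMap Γ(X, G.V) Γ(X, U ⊓ G.V) a = ores (hle' G) a :=
    fun _ => rfl
  obtain ⟨n, e', he'⟩ := IsLocalization.Away.surj G.g e
  rw [halg, halg] at he'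
  have h1 : algebraMap (Bz z) (Qz G) (gm G.V G.hz e') = 0 := by
    rw [← hψ, ← he', map_mul, he, zero_mul]
  rw [IsLocalization.map_eq_zero_iff (Submonoid.powers (gm G.V G.hz G.g))] at h1
  obtain ⟨⟨_, m, rfl⟩, hm⟩ := h1
  change gm G.V G.hz G.g ^ m * gm G.V G.hz e' = 0 at hm
  rw [← map_pow, ← map_mul] at hm
  obtain ⟨V', hzV', i, j, hij⟩ := X.presheaf.germ_eq z G.hz G.hz (G.g ^ m * e') 0
    (by
      change gm G.V G.hz _ = gm G.V G.hz 0
      rw [hm, map_zero])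
  have hV' : V' ≤ G.V := leOfHom i
  have hij' : ores hV' (G.g ^ m * e') = 0 := by
    have : ores hV' (G.g ^ m * e') = ores hV' 0 := hij
    rw [this, map_zero]
  refine ⟨V', hV', hzV', ?_⟩
  have hu : IsUnit (ores (show U ⊓ V' ≤ G.V from inf_le_right.trans hV') G.g) := by
    have h2 : IsUnit (ores (hle' G) G.g) := IsLocalization.Away.algebraMap_isUnit (S := Γ(X, U ⊓ G.V)) G.g
    have := h2.map (ores (show U ⊓ V' ≤ U ⊓ G.V from inf_le_inf_left _ hV'))
    rwa [ores_ores] at this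
  have h3 := congrArg (ores (show U ⊓ V' ≤ V' from inf_le_right)) hij'
  rw [ores_ores, map_zero, map_mul, map_pow] at h3
  have h4 := congrArg (ores (show U ⊓ V' ≤ U ⊓ G.V from inf_le_inf_left _ hV')) he'
  rw [map_mul, ores_ores, map_pow, ores_ores] at h4
  rw [← h4] at h3
  have h5 : IsUnit (ores (show U ⊓ V' ≤ G.V from inf_le_right.trans hV') G.g ^ m *
      ores (show U ⊓ V' ≤ G.V from inf_le_right.trans hV') G.g ^ n) :=
    (hu.pow m).mul (hu.pow n)
  have h6 : (ores (show U ⊓ V' ≤ G.V from inf_le_right.trans hV') G.g ^ m *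
      ores (show U ⊓ V' ≤ G.V from inf_le_right.trans hV') G.g ^ n) *
      ores (show U ⊓ V' ≤ U ⊓ G.V from inf_le_inf_left _ hV') e = 0 := by
    rw [← h3]; ring
  exact (h5.mul_right_eq_zero).mp h6

/-- From the inverse in the punctured local ring to a neighbourhood. -/
theorem exists_nbhd (ψ : Γ(X, U ⊓ G.V) →+* Qz G)
    (hψ : ∀ a : Γ(X, G.V), ψ (ores (hle' G) a) = algebraMap (Bz z) (Qz G) (gm G.V G.hz a))
    (a : Γ(X, U)) (b : Bz z)
    (h : ψ (ores (hle G) a) * algebraMap (Bz z) (Qz G) (gm G.V G.hz G.g * b) = 1) :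
    ∃ (V' : X.Opens) (_ : V' ≤ G.V), z ∈ V' ∧ ∃ h : Γ(X, V'),
      ores (show U ⊓ V' ≤ U from inf_le_left) a * ores (show U ⊓ V' ≤ V' from inf_le_right) h = 1 ∧
      X.basicOpen h ≤ U := by
  let := X.presheaf.algebra_section_stalk (⟨z, G.hz⟩ : G.V)
  have hloc := G.hV.isLocalization_stalk ⟨z, G.hz⟩
  obtain ⟨⟨b1, s1⟩, hbs⟩ := IsLocalization.surj (G.hV.primeIdealOf ⟨z, G.hz⟩).asIdeal.primeCompl b
  change b * gm G.V G.hz s1 = gm G.V G.hz b1 at hbs
  have h1 : ψ (ores (hle G) a * ores (hle' G) (G.g * b1) - ores (hle' G) s1) = 0 := by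
    rw [map_sub, map_mul, hψ, hψ, map_mul, ← hbs, sub_eq_zero]
    have : gm G.V G.hz G.g * (b * gm G.V G.hz s1) =
      (gm G.V G.hz G.g * b) * gm G.V G.hz s1 := by ring
    rw [this, map_mul, ← mul_assoc, h, one_mul]
  obtain ⟨V₁, hV₁, hzV₁, hV₁0⟩ := psi_eq_zero G ψ hψ _ h1
  -- shrink so that s1 is a unit
  have hzs : z ∈ X.basicOpen (s1 : Γ(X, G.V)) := (mem_basicOpen_iff G.hV z G.hz _).mpr s1.2
  let V' : X.Opens := V₁ ⊓ X.basicOpen (s1 : Γ(X, G.V))
  have hV' : V' ≤ G.V := inf_le_left.trans hV₁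
  have hu : IsUnit (ores hV' (s1 : Γ(X, G.V))) := by
    have := X.toRingedSpace.isUnit_res_basicOpen (s1 : Γ(X, G.V))
    have h2 : IsUnit (ores (X.basicOpen_le (s1 : Γ(X, G.V))) (s1 : Γ(X, G.V))) := this
    have h3 := h2.map (ores (show V' ≤ X.basicOpen (s1 : Γ(X, G.V)) from inf_le_right))
    rwa [ores_ores] at h3
  obtain ⟨t, ht⟩ := hu.exists_right_inv
  refine ⟨V', hV', ⟨hzV₁, hzs⟩, ores hV' (G.g * b1) * t, ?_, ?_⟩
  · have h4 := congrArg (ores (show U ⊓ V' ≤ U ⊓ V₁ from inf_le_inf_left _ inf_le_left)) hV₁0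
    rw [ores_ores, map_zero, map_sub, map_mul, ores_ores, ores_ores, ores_ores, sub_eq_zero] at h4
    have h5 := congrArg (ores (show U ⊓ V' ≤ V' from inf_le_right)) ht
    rw [map_mul, ores_ores, map_one] at h5
    rw [map_mul, ores_ores, ← mul_assoc]
    rw [h4, h5]
  · intro y hy
    rw [Scheme.basicOpen_mul] at hy
    have h6 : y ∈ X.basicOpen (ores hV' (G.g * b1)) := hy.1
    have h7 : X.basicOpen (ores hV' (G.g * b1)) = V' ⊓ X.basicOpen (G.g * b1) :=
      X.basicOpen_res _ (homOfLE hV').op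
    rw [h7, Scheme.basicOpen_mul, ← G.hg] at h6
    exact h6.2.1.1

/-- The point of `X` defined by a prime of the stalk. -/
theorem exists_point (q : Ideal (Bz z)) (hq : q.IsPrime) :
    ∃ y, ∃ hy : y ∈ G.V, y ⤳ z ∧
      (G.hV.primeIdealOf ⟨y, hy⟩).asIdeal = q.comap (gm G.V G.hz) ∧
      (y = z → q = IsLocalRing.maximalIdeal (Bz z)) := by
  let := X.presheaf.algebra_section_stalk (⟨z, G.hz⟩ : G.V)
  have hloc := G.hV.isLocalization_stalk ⟨z, G.hz⟩
  have hcom : (q.comap (gm G.V G.hz)).IsPrime := Ideal.comap_isPrime _ _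
  let p : PrimeSpectrum Γ(X, G.V) := ⟨q.comap (gm G.V G.hz), hcom⟩
  let y : X := G.hV.fromSpec p
  have hy : y ∈ G.V := by
    have h1 : y ∈ Set.range G.hV.fromSpec := ⟨p, rfl⟩
    rwa [G.hV.range_fromSpec] at h1
  have hinj : Function.Injective G.hV.fromSpec := G.hV.fromSpec.isOpenEmbedding.injective
  have hp : G.hV.primeIdealOf ⟨y, hy⟩ = p := hinj (G.hV.fromSpec_primeIdealOf ⟨y, hy⟩)
  have hmax : (IsLocalRing.maximalIdeal (Bz z)).comap (gm G.V G.hz) =
      (G.hV.primeIdealOf ⟨z, G.hz⟩).asIdeal :=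
    IsLocalization.AtPrime.under_maximalIdeal (Bz z) (G.hV.primeIdealOf ⟨z, G.hz⟩).asIdeal
  refine ⟨y, hy, ?_, congrArg PrimeSpectrum.asIdeal hp, fun hyz ↦ ?_⟩
  · have h1 : p ⤳ G.hV.primeIdealOf ⟨z, G.hz⟩ := by
      rw [← PrimeSpectrum.le_iff_specializes]
      change q.comap (gm G.V G.hz) ≤ (G.hV.primeIdealOf ⟨z, G.hz⟩).asIdeal
      rw [← hmax]
      exact Ideal.comap_mono (IsLocalRing.le_maximalIdeal hq.ne_top)
    have h2 := h1.map G.hV.fromSpec.continuous
    rwa [G.hV.fromSpec_primeIdealOf ⟨z, G.hz⟩] at h2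
  · have h3 : q.comap (gm G.V G.hz) = (IsLocalRing.maximalIdeal (Bz z)).comap (gm G.V G.hz) := by
      rw [hmax]
      have : G.hV.primeIdealOf ⟨z, G.hz⟩ = p := by
        rw [← hp]
        exact congrArg _ (Subtype.ext hyz.symm)
      rw [this]
    have h4 := congrArg (Ideal.map (gm G.V G.hz)) h3
    have e1 : (q.comap (gm G.V G.hz)).map (gm G.V G.hz) = q :=
      Dim1Ring.map_comap_loc (G.hV.primeIdealOf ⟨z, G.hz⟩).asIdeal.primeCompl (Bz z) q
    have e2 : ((IsLocalRing.maximalIdeal (Bz z)).comap (gm G.V G.hz)).map (gm G.V G.hz) =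
        IsLocalRing.maximalIdeal (Bz z) :=
      Dim1Ring.map_comap_loc (G.hV.primeIdealOf ⟨z, G.hz⟩).asIdeal.primeCompl (Bz z) _
    rwa [e1, e2] at h4

/-- **Heart**, for a given neighbourhood datum. -/
theorem heart_aux [X.IsSeparated] (hU : IsAffineOpen U) (hzU : z ∉ U)
    (hN : IsNoetherianRing (X.presheaf.stalk z)) (hd : ringKrullDim (X.presheaf.stalk z) ≤ 1)
    (t : Γ(X, U)) (hgen : ∀ y, y ⤳ z → y ≠ z → y ∈ X.basicOpen t) :
    ∃ (V' : X.Opens) (_ : V' ≤ G.V), z ∈ V' ∧ ∃ (a : Γ(X, U)) (b : Γ(X, V')),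
      ores (show U ⊓ V' ≤ U from inf_le_left) (a * t) *
        ores (show U ⊓ V' ≤ V' from inf_le_right) b = 1 ∧
      X.basicOpen b ≤ U := by
  classical
  have hN' : IsNoetherianRing (Bz z) := hN
  have hK : Ring.KrullDimLE 1 (Bz z) := by
    rw [Ring.KrullDimLE, Order.krullDimLE_iff]
    exact hd
  obtain ⟨ψ, hψ⟩ := exists_psi G
  set B := Bz z with hB
  set γ : B := gm G.V G.hz G.g with hγ
  have hγm : γ ∈ IsLocalRing.maximalIdeal B := by
    by_contra hcon
    have hu : IsUnit γ := by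
      by_contra hc
      exact hcon ((IsLocalRing.mem_maximalIdeal _).mpr hc)
    have h1 : z ∈ X.basicOpen G.g := (X.mem_basicOpen G.g z G.hz).mpr hu
    rw [← G.hg] at h1
    exact hzU h1.1
  -- generizations of `z` different from `z` lie in `U`, hence in `D(g)`
  have hgenU : ∀ y, y ⤳ z → y ≠ z → y ∈ X.basicOpen G.g := by
    intro y h1 h2
    rw [← G.hg]
    exact ⟨X.basicOpen_le t (hgen y h1 h2), h1.mem_open G.V.isOpen G.hz⟩
  have h1 : ∀ q : Ideal B, q.IsPrime → γ ∈ q → q = IsLocalRing.maximalIdeal B := by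
    intro q hq hgq
    obtain ⟨y, hy, hyz, hpq, hqm⟩ := exists_point G q hq
    by_contra hcon
    have hne : y ≠ z := fun h ↦ hcon (hqm h)
    have h2 := (mem_basicOpen_iff G.hV y hy G.g).mp (hgenU y hyz hne)
    rw [hpq] at h2
    exact h2 hgq
  have h2 : ∀ q : Ideal B, q.IsPrime → γ ∉ q → q ∈ minimalPrimes B := by
    intro q hq hgq
    refine (Ring.krullDimLE_one_iff.mp hK q hq).resolve_right fun hm ↦ hgq ?_
    rw [IsLocalRing.eq_maximalIdeal hm]
    exact hγm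
  have hart : IsArtinianRing (Qz G) := Dim1Ring.isArtinianRing_away γ _ h2
  have hug : IsUnit (ores (hle' G) G.g) := by
    let := (ores (hle' G)).toAlgebra
    have := isLoc G
    exact IsLocalization.Away.algebraMap_isUnit (S := Γ(X, U ⊓ G.V)) G.g
  obtain ⟨a0, ha0⟩ := Dim1Alg2.exists_common_inverse (A := Γ(X, U)) (Z := Unit)
    (B := fun _ => B) (Q := fun _ => Qz G) (fun _ => γ)
    (fun _ => Dim1Ring.length_ne_top _ h1)
    (fun _ => Dim1Ring.isUnit_one_sub _ hγm)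
    (fun _ => ψ.comp (ores (hle G)))
    (fun _ => by
      obtain ⟨γ', hγ'⟩ := hug.exists_left_inv
      obtain ⟨s, b, hb⟩ := exists_finset_sum (ores (hle G)) (ores (hle' G))
        (Dim1Sep.closure_eq_top hU G.hV) γ'
      refine ⟨s, fun x => gm G.V G.hz (b x), ?_⟩
      have h1 : ∑ x ∈ s, (ψ.comp (ores (hle G))) x *
          algebraMap B (Qz G) (gm G.V G.hz (b x)) = ψ γ' := by
        rw [hb, map_sum]
        refine Finset.sum_congr rfl fun x _ => ?_
        rw [map_mul, hψ]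
        rfl
      rw [h1, ← hψ, ← map_mul, hγ', map_one])
  obtain ⟨b0, hb0⟩ := ha0 ()
  change ψ (ores (hle G) a0) * algebraMap B (Qz G) (γ * b0) = 1 at hb0
  -- `t` becomes a unit in `Qz`
  have htu : IsUnit (ψ (ores (hle G) t)) := by
    let := (ores (hle' G)).toAlgebra
    have hloc := isLoc G
    obtain ⟨n, s, hs⟩ := IsLocalization.Away.surj G.g (ores (hle G) t)
    change ores (hle G) t * ores (hle' G) G.g ^ n = ores (hle' G) s at hs
    have h3 : IsUnit (algebraMap B (Qz G) (gm G.V G.hz s)) := by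
      by_contra hcon
      obtain ⟨m, hm, hsm⟩ := exists_max_ideal_of_mem_nonunits hcon
      have hmp : (m.comap (algebraMap B (Qz G))).IsPrime :=
        Ideal.comap_isPrime _ _
      obtain ⟨y, hy, hyz, hpq, hqm⟩ := exists_point G _ hmp
      have hgm : γ ∉ m.comap (algebraMap B (Qz G)) := by
        intro hg
        rw [Ideal.mem_comap] at hg
        exact hm.ne_top (Ideal.eq_top_of_isUnit_mem _ hg (IsLocalization.Away.algebraMap_isUnit γ))
      have hne : y ≠ z := fun h ↦ hgm (by rw [hqm h]; exact hγm)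
      have hyt := hgen y hyz hne
      have hyU : y ∈ U := X.basicOpen_le t hyt
      have hyUV : y ∈ U ⊓ G.V := ⟨hyU, hy⟩
      have hy1 : y ∈ X.basicOpen (ores (hle G) t) := by
        have : X.basicOpen (ores (hle G) t) = (U ⊓ G.V) ⊓ X.basicOpen t :=
          X.basicOpen_res _ (homOfLE (hle G)).op
        rw [this]
        exact ⟨hyUV, hyt⟩
      have hy2 : y ∈ X.basicOpen (ores (hle' G) G.g ^ n) := by
        rw [X.mem_basicOpen _ y hyUV]
        exact (hug.pow n).map (gm (U ⊓ G.V) hyUV)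
      have hy3 : y ∈ X.basicOpen (ores (hle' G) s) := by
        rw [← hs, Scheme.basicOpen_mul]
        exact ⟨hy1, hy2⟩
      have hy4 : y ∈ X.basicOpen s := by
        have : X.basicOpen (ores (hle' G) s) = (U ⊓ G.V) ⊓ X.basicOpen s :=
          X.basicOpen_res _ (homOfLE (hle' G)).op
        rw [this] at hy3
        exact hy3.2
      rw [mem_basicOpen_iff G.hV y hy, hpq] at hy4
      exact hy4 hsm
    have h4 := congrArg ψ hs
    rw [map_mul, hψ] at h4
    rw [← h4] at h3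
    exact isUnit_of_mul_isUnit_left h3
  obtain ⟨c, hc⟩ := htu.exists_right_inv
  obtain ⟨k, c', hc'⟩ := IsLocalization.Away.surj γ c
  -- the element
  have hfin : ψ (ores (hle G) (a0 ^ (k + 1) * t)) *
      algebraMap B (Qz G) (gm G.V G.hz G.g * (b0 ^ (k + 1) * c')) = 1 := by
    rw [map_mul, map_mul, map_pow, map_pow]
    rw [show gm G.V G.hz G.g * (b0 ^ (k + 1) * c') = γ * b0 ^ (k + 1) * c' by rw [hγ]; ring]
    rw [map_mul, ← hc']
    calc _ = (ψ (ores (hle G) a0) * algebraMap B (Qz G) (γ * b0)) ^ (k + 1) *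
          (ψ (ores (hle G) t) * c) := by
          rw [map_mul, map_mul, map_pow]; ring
      _ = 1 := by rw [hb0, hc, one_pow, one_mul]
  obtain ⟨V', hV', hzV', b, hb, hbU⟩ := exists_nbhd G ψ hψ (a0 ^ (k + 1) * t) _ hfin
  exact ⟨V', hV', hzV', a0 ^ (k + 1), b, hb, hbU⟩

end Point

/-- **Heart of Stacks 09NN.** -/
theorem heart [X.IsSeparated] {U V : X.Opens} (hU : IsAffineOpen U)
    (hV : IsAffineOpen V) (x : X) (hx : x ∈ V) (hxU : x ∉ U) (g : Γ(X, V))
    (hg : U ⊓ V = X.basicOpen g) (hN : IsNoetherianRing (X.presheaf.stalk x))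
    (hd : ringKrullDim (X.presheaf.stalk x) ≤ 1) (t : Γ(X, U))
    (hgen : ∀ y, y ⤳ x → y ≠ x → y ∈ X.basicOpen t) :
    ∃ (V' : X.Opens) (_ : V' ≤ V), x ∈ V' ∧ ∃ (a : Γ(X, U)) (b : Γ(X, V')),
      ores (show U ⊓ V' ≤ U from inf_le_left) (a * t) *
        ores (show U ⊓ V' ≤ V' from inf_le_right) b = 1 ∧
      x ∉ X.basicOpen b ∧ X.basicOpen b ≤ U := by
  obtain ⟨V', hV', hxV', a, b, hab, hbU⟩ :=
    heart_aux (z := x) ⟨V, hV, hx, g, hg⟩ hU hxU hN hd t hgen
  exact ⟨V', hV', hxV', a, b, hab, fun h ↦ hxU (hbU h), hbU⟩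

end Groth.Agent.CurvesA.AffHeart
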