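import Mathlib.Topology.Spectral.Prespectral
import Mathlib.Topology.QuasiSeparated
import Mathlib.Topology.ContinuousOn
import Mathlib.Topology.Irreducible
import Mathlib.Order.Zorn
import Mathlib.Topology.Connected.Clopen
import Mathlib.Topology.Connected.TotallyDisconnected
import Mathlib.Algebra.Group.Basic

/-!
# Mayer-Vietoris for two opens from Mayer-Vietoris for closed subsets

`split`: let `X` be a prespectral quasi-separated space and `A` a finite discrete abelian group such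
that for all closed `Z₁ Z₂` every locally constant function `Z₁ ∩ Z₂ → A` is the difference of
locally constant functions on `Z₁` and `Z₂`.  Then for compact opens `U V` covering `X`
every locally constant function `U ∩ V → A` is the difference of locally constant functions on
`U` and `V`.

Locally constant functions on a subset `s` are encoded as functions `h : X → A` with
`ContinuousOn h s` (for the discrete topology on `A`).
-/

set_option autoImplicit false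

open Set Topology

namespace Groth.Agent.CurvesA.AicZorn112

variable {X A : Type*} [TopologicalSpace X] [TopologicalSpace A]

/-- `h` splits over `Z`. -/
def S [AddCommGroup A] (U V : Set X) (h : X → A) (Z : Set X) : Prop :=
  ∃ h₁ h₂ : X → A, ContinuousOn h₁ (U ∩ Z) ∧ ContinuousOn h₂ (V ∩ Z) ∧
    ∀ x ∈ U ∩ V ∩ Z, h x = h₁ x - h₂ x

/-- Level sets of a locally constant function on `K ∩ Z`, `K` compact open and `Z` closed, are cut out
by compact opens. -/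
theorem exists_level [DiscreteTopology A] [PrespectralSpace X] {K Z : Set X} (hK : IsCompact K) (hKo : IsOpen K)
    (hZ : IsClosed Z) (g : X → A) (hg : ContinuousOn g (K ∩ Z)) (a : A) :
    ∃ W : Set X, IsCompact W ∧ IsOpen W ∧ W ⊆ K ∧ ∀ x ∈ K ∩ Z, x ∈ W ↔ g x = a := by
  -- the level set is open in `K ∩ Z`
  obtain ⟨O, hO, hO'⟩ := continuousOn_iff'.mp hg {a} (isOpen_discrete _)
  -- and compact
  have hLc : IsCompact ((K ∩ Z) ∩ g ⁻¹' {a}) := by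
    obtain ⟨C, hC, hC'⟩ := continuousOn_iff_isClosed.mp hg {a} (isClosed_discrete _)
    rw [inter_comm, hC']
    rw [← inter_assoc, inter_comm C K, inter_assoc]
    exact hK.inter_right (hC.inter hZ)
  have hLO : (K ∩ Z) ∩ g ⁻¹' {a} ⊆ O ∩ K := by
    rw [inter_comm, hO']
    exact fun x hx => ⟨hx.1, hx.2.1⟩
  obtain ⟨W, hWc, hWo, h1, h2⟩ := PrespectralSpace.exists_isCompact_and_isOpen_between hLc
    (hO.inter hKo) hLO
  refine ⟨W, hWc, hWo, fun x hx => (h2 hx).2, fun x hx => ⟨fun hxW => ?_, fun hxa => h1 ⟨hx, hxa⟩⟩⟩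
  have h3 : x ∈ g ⁻¹' {a} ∩ (K ∩ Z) := by
    rw [hO']
    exact ⟨(h2 hxW).1, hx⟩
  exact h3.1

/-- Finite description of a splitting: it persists to a member of a chain of closed sets. -/
theorem exists_compact [DiscreteTopology A] [AddCommGroup A] [Finite A] [PrespectralSpace X] [QuasiSeparatedSpace X]
    {U V : Set X} (hU : IsOpen U) (hUc : IsCompact U) (hV : IsOpen V) (hVc : IsCompact V)
    (h : X → A) (hh : ContinuousOn h (U ∩ V)) {Z : Set X} (hZ : IsClosed Z) (hS : S U V h Z) :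
    ∃ K : Set X, IsCompact K ∧ K ∩ Z = ∅ ∧ ∀ Z' : Set X, K ∩ Z' = ∅ → S U V h Z' := by
  classical
  obtain ⟨h₁, h₂, hh₁, hh₂, h12⟩ := hS
  have hUV : IsCompact (U ∩ V) := QuasiSeparatedSpace.inter_isCompact U V hU hUc hV hVc
  choose W hWc hWo hWU hW using exists_level hUc hU hZ h₁ hh₁
  choose W' hWc' hWo' hWU' hW' using exists_level hVc hV hZ h₂ hh₂
  have hh' : ContinuousOn h ((U ∩ V) ∩ univ) := by rwa [inter_univ]
  choose H hHc hHo hHU hH using exists_level hUV (hU.inter hV) isClosed_univ h hh'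
  -- the compact set
  let K₁ : Set X := U ∩ (⋃ a, W a)ᶜ
  let K₂ : Set X := V ∩ (⋃ a, W' a)ᶜ
  let K₃ : Set X := ⋃ p : {p : A × A // p.1 ≠ p.2}, W p.1.1 ∩ W p.1.2
  let K₄ : Set X := ⋃ p : {p : A × A // p.1 ≠ p.2}, W' p.1.1 ∩ W' p.1.2
  let K₅ : Set X := ⋃ p : {p : A × A × A // p.1 ≠ p.2.1 - p.2.2}, H p.1.1 ∩ (W p.1.2.1 ∩ W' p.1.2.2)
  have hK₁ : IsCompact K₁ := hUc.inter_right (isOpen_iUnion hWo).isClosed_compl
  have hK₂ : IsCompact K₂ := hVc.inter_right (isOpen_iUnion hWo').isClosed_compl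
  have hK₃ : IsCompact K₃ := isCompact_iUnion fun p =>
    QuasiSeparatedSpace.inter_isCompact _ _ (hWo _) (hWc _) (hWo _) (hWc _)
  have hK₄ : IsCompact K₄ := isCompact_iUnion fun p =>
    QuasiSeparatedSpace.inter_isCompact _ _ (hWo' _) (hWc' _) (hWo' _) (hWc' _)
  have hK₅ : IsCompact K₅ := isCompact_iUnion fun p =>
    QuasiSeparatedSpace.inter_isCompact _ _ (hHo _) (hHc _) ((hWo _).inter (hWo' _))
      (QuasiSeparatedSpace.inter_isCompact _ _ (hWo _) (hWc _) (hWo' _) (hWc' _))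
  refine ⟨K₁ ∪ (K₂ ∪ (K₃ ∪ (K₄ ∪ K₅))), hK₁.union (hK₂.union (hK₃.union (hK₄.union hK₅))), ?_, ?_⟩
  · rw [eq_empty_iff_forall_notMem]
    rintro x ⟨hx | hx | hx | hx | hx, hxZ⟩
    · exact hx.2 (mem_iUnion.mpr ⟨h₁ x, (hW _ x ⟨hx.1, hxZ⟩).mpr rfl⟩)
    · exact hx.2 (mem_iUnion.mpr ⟨h₂ x, (hW' _ x ⟨hx.1, hxZ⟩).mpr rfl⟩)
    · obtain ⟨⟨p, hp⟩, hx1, hx2⟩ := mem_iUnion.mp hx
      have hxU := hWU _ hx1
      exact hp (((hW _ x ⟨hxU, hxZ⟩).mp hx1).symm.trans ((hW _ x ⟨hxU, hxZ⟩).mp hx2))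
    · obtain ⟨⟨p, hp⟩, hx1, hx2⟩ := mem_iUnion.mp hx
      have hxU := hWU' _ hx1
      exact hp (((hW' _ x ⟨hxU, hxZ⟩).mp hx1).symm.trans ((hW' _ x ⟨hxU, hxZ⟩).mp hx2))
    · obtain ⟨⟨p, hp⟩, hx0, hx1, hx2⟩ := mem_iUnion.mp hx
      have hxU := hWU _ hx1
      have hxV := hWU' _ hx2
      apply hp
      rw [← (hH _ x ⟨⟨hxU, hxV⟩, trivial⟩).mp hx0, ← (hW _ x ⟨hxU, hxZ⟩).mp hx1,
        ← (hW' _ x ⟨hxV, hxZ⟩).mp hx2]
      exact h12 x ⟨⟨hxU, hxV⟩, hxZ⟩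
  · intro Z' hZ'
    rw [eq_empty_iff_forall_notMem] at hZ'
    have e₁ : ∀ x ∈ U ∩ Z', ∃ a, x ∈ W a := by
      intro x hx
      by_contra hcon
      exact hZ' x ⟨Or.inl ⟨hx.1, fun h => hcon (mem_iUnion.mp h)⟩, hx.2⟩
    have e₂ : ∀ x ∈ V ∩ Z', ∃ a, x ∈ W' a := by
      intro x hx
      by_contra hcon
      exact hZ' x ⟨Or.inr (Or.inl ⟨hx.1, fun h => hcon (mem_iUnion.mp h)⟩), hx.2⟩
    have e₃ : ∀ a b, ∀ x ∈ Z', x ∈ W a → x ∈ W b → a = b := by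
      intro a b x hx hxa hxb
      by_contra hab
      exact hZ' x ⟨Or.inr (Or.inr (Or.inl (mem_iUnion.mpr ⟨⟨(a, b), hab⟩, hxa, hxb⟩))), hx⟩
    have e₄ : ∀ a b, ∀ x ∈ Z', x ∈ W' a → x ∈ W' b → a = b := by
      intro a b x hx hxa hxb
      by_contra hab
      exact hZ' x ⟨Or.inr (Or.inr (Or.inr (Or.inl (mem_iUnion.mpr ⟨⟨(a, b), hab⟩, hxa, hxb⟩)))), hx⟩
    have e₅ : ∀ a b c, ∀ x ∈ Z', x ∈ H a → x ∈ W b → x ∈ W' c → a = b - c := by
      intro a b c x hx hxa hxb hxc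
      by_contra hab
      exact hZ' x ⟨Or.inr (Or.inr (Or.inr (Or.inr
        (mem_iUnion.mpr ⟨⟨(a, b, c), hab⟩, hxa, hxb, hxc⟩)))), hx⟩
    -- the two functions
    have hcont : ∀ (W : A → Set X) (hWo : ∀ a, IsOpen (W a)) (s : Set X)
        (_ : ∀ x ∈ s, ∃ a, x ∈ W a) (_ : ∀ a b, ∀ x ∈ s, x ∈ W a → x ∈ W b → a = b),
        ∃ g : X → A, ContinuousOn g s ∧ ∀ x ∈ s, x ∈ W (g x) := by
      intro W hWo s hs1 hs2
      refine ⟨fun x => if hx : ∃ a, x ∈ W a then hx.choose else 0, ?_, ?_⟩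
      · intro x hx
        have hxa := hs1 x hx
        have h3 : ∀ᶠ y in 𝓝[s] x, (fun x => if hx : ∃ a, x ∈ W a then hx.choose else 0) y =
            (hxa.choose : A) := by
          filter_upwards [mem_nhdsWithin_of_mem_nhds ((hWo hxa.choose).mem_nhds hxa.choose_spec),
            self_mem_nhdsWithin] with y hy hys
          have hy' : ∃ a, y ∈ W a := ⟨_, hy⟩
          simp only [hy', dif_pos]
          exact hs2 _ _ y hys hy'.choose_spec hy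
        have h4 := (continuousWithinAt_const (s := s) (x := x) (b := (hxa.choose : A)))
        refine h4.congr_of_eventuallyEq h3 ?_
        simp only [hxa, dif_pos]
      · intro x hx
        have hxa := hs1 x hx
        simp only [hxa, dif_pos]
        exact hxa.choose_spec
    obtain ⟨g₁, hg₁, hg₁'⟩ := hcont W hWo (U ∩ Z') e₁ fun a b x hx => e₃ a b x hx.2
    obtain ⟨g₂, hg₂, hg₂'⟩ := hcont W' hWo' (V ∩ Z') e₂ fun a b x hx => e₄ a b x hx.2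
    refine ⟨g₁, g₂, hg₁, hg₂, ?_⟩
    rintro x ⟨⟨hxU, hxV⟩, hxZ⟩
    exact e₅ (h x) (g₁ x) (g₂ x) x hxZ ((hH _ x ⟨⟨hxU, hxV⟩, trivial⟩).mpr rfl)
      (hg₁' x ⟨hxU, hxZ⟩) (hg₂' x ⟨hxV, hxZ⟩)

/-- Gluing of locally constant functions along closed sets. -/
theorem continuousOn_union {s Z₁ Z₂ : Set X} (hZ₁ : IsClosed Z₁) (hZ₂ : IsClosed Z₂) (g : X → A)
    (h₁ : ContinuousOn g (s ∩ Z₁)) (h₂ : ContinuousOn g (s ∩ Z₂)) :
    ContinuousOn g (s ∩ (Z₁ ∪ Z₂)) := by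
  intro x hx
  rw [inter_union_distrib_left]
  refine ContinuousWithinAt.union ?_ ?_
  · by_cases h : x ∈ Z₁
    · exact h₁ x ⟨hx.1, h⟩
    · refine continuousWithinAt_of_notMem_closure fun h' => h ?_
      exact hZ₁.closure_subset_iff.mpr inter_subset_right h'
  · by_cases h : x ∈ Z₂
    · exact h₂ x ⟨hx.1, h⟩
    · refine continuousWithinAt_of_notMem_closure fun h' => h ?_
      exact hZ₂.closure_subset_iff.mpr inter_subset_right h'

/-- Mayer-Vietoris surjectivity for closed subsets. -/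
def P (X A : Type*) [TopologicalSpace X] [TopologicalSpace A] [AddCommGroup A] : Prop :=
  ∀ Z₁ Z₂ : Set X, IsClosed Z₁ → IsClosed Z₂ → ∀ δ : X → A, ContinuousOn δ (Z₁ ∩ Z₂) →
    ∃ e₁ e₂ : X → A, ContinuousOn e₁ Z₁ ∧ ContinuousOn e₂ Z₂ ∧ ∀ x ∈ Z₁ ∩ Z₂, δ x = e₁ x - e₂ x

theorem S_union [DiscreteTopology A] [AddCommGroup A] (hP : P X A) {U V : Set X} (hU : IsOpen U) (hV : IsOpen V)
    (hUV : U ∪ V = univ) (h : X → A) {Z₁ Z₂ : Set X} (hZ₁ : IsClosed Z₁) (hZ₂ : IsClosed Z₂)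
    (h₁ : S U V h Z₁) (h₂ : S U V h Z₂) : S U V h (Z₁ ∪ Z₂) := by
  classical
  have hsub : ∀ {s : Set X} {f g : X → A}, ContinuousOn f s → ContinuousOn g s →
      ContinuousOn (fun x => f x - g x) s := by
    intro s f g hf hg
    exact (continuous_of_discreteTopology (f := fun p : A × A => p.1 - p.2)).comp_continuousOn
      (hf.prodMk hg)
  obtain ⟨a₁, b₁, ha₁, hb₁, hab₁⟩ := h₁
  obtain ⟨a₂, b₂, ha₂, hb₂, hab₂⟩ := h₂
  -- the difference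
  let δ : X → A := fun x => if x ∈ U then a₁ x - a₂ x else b₁ x - b₂ x
  have hδU : ∀ x ∈ U, δ x = a₁ x - a₂ x := fun x hx => if_pos hx
  have hδV : ∀ x ∈ V, x ∈ Z₁ ∩ Z₂ → δ x = b₁ x - b₂ x := by
    intro x hx hxZ
    by_cases hxU : x ∈ U
    · rw [hδU x hxU]
      have e1 := hab₁ x ⟨⟨hxU, hx⟩, hxZ.1⟩
      have e2 := hab₂ x ⟨⟨hxU, hx⟩, hxZ.2⟩
      rw [e1] at e2
      rw [sub_eq_sub_iff_add_eq_add] at e2 ⊢
      rw [e2, add_comm]
    · exact if_neg hxU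
  have hδ : ContinuousOn δ (Z₁ ∩ Z₂) := by
    intro x hx
    have hxUV : x ∈ U ∪ V := by rw [hUV]; trivial
    rcases hxUV with hxU | hxV
    · have h1 : ContinuousWithinAt (fun x => a₁ x - a₂ x) (U ∩ (Z₁ ∩ Z₂)) x :=
        hsub (ha₁.mono fun y hy => ⟨hy.1, hy.2.1⟩) (ha₂.mono fun y hy => ⟨hy.1, hy.2.2⟩) x ⟨hxU, hx⟩
      have h2 : ContinuousWithinAt δ (U ∩ (Z₁ ∩ Z₂)) x :=
        h1.congr (fun y hy => hδU y hy.1) (hδU x hxU)
      rw [inter_comm] at h2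
      exact (continuousWithinAt_inter (hU.mem_nhds hxU)).mp h2
    · have h1 : ContinuousWithinAt (fun x => b₁ x - b₂ x) (V ∩ (Z₁ ∩ Z₂)) x :=
        hsub (hb₁.mono fun y hy => ⟨hy.1, hy.2.1⟩) (hb₂.mono fun y hy => ⟨hy.1, hy.2.2⟩) x ⟨hxV, hx⟩
      have h2 : ContinuousWithinAt δ (V ∩ (Z₁ ∩ Z₂)) x :=
        h1.congr (fun y hy => hδV y hy.1 hy.2) (hδV x hxV hx)
      rw [inter_comm] at h2
      exact (continuousWithinAt_inter (hV.mem_nhds hxV)).mp h2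
  obtain ⟨e₁, e₂, he₁, he₂, he⟩ := hP Z₁ Z₂ hZ₁ hZ₂ δ hδ
  -- glue
  have key : ∀ (s : Set X) (a₁ a₂ : X → A), ContinuousOn a₁ (s ∩ Z₁) → ContinuousOn a₂ (s ∩ Z₂) →
      (∀ x ∈ s, x ∈ Z₁ ∩ Z₂ → δ x = a₁ x - a₂ x) →
      ∃ g : X → A, ContinuousOn g (s ∩ (Z₁ ∪ Z₂)) ∧ (∀ x ∈ s ∩ Z₁, g x = a₁ x - e₁ x) ∧
        (∀ x ∈ s ∩ Z₂, g x = a₂ x - e₂ x) := by
    intro s a₁ a₂ ha₁ ha₂ hs
    let g : X → A := fun x => if x ∈ Z₁ then a₁ x - e₁ x else a₂ x - e₂ x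
    have hg₁ : ∀ x ∈ s ∩ Z₁, g x = a₁ x - e₁ x := fun x hx => if_pos hx.2
    have hg₂ : ∀ x ∈ s ∩ Z₂, g x = a₂ x - e₂ x := by
      intro x hx
      by_cases hx1 : x ∈ Z₁
      · rw [hg₁ x ⟨hx.1, hx1⟩]
        have e3 := hs x hx.1 ⟨hx1, hx.2⟩
        rw [he x ⟨hx1, hx.2⟩] at e3
        rw [sub_eq_sub_iff_add_eq_add] at e3 ⊢
        rw [← e3, add_comm]
      · exact if_neg hx1
    refine ⟨g, continuousOn_union hZ₁ hZ₂ g ?_ ?_, hg₁, hg₂⟩
    · exact (hsub ha₁ (he₁.mono inter_subset_right)).congr hg₁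
    · exact (hsub ha₂ (he₂.mono inter_subset_right)).congr hg₂
  obtain ⟨g, hg, hg₁, hg₂⟩ := key U a₁ a₂ ha₁ ha₂ fun x hx _ => hδU x hx
  obtain ⟨g', hg', hg₁', hg₂'⟩ := key V b₁ b₂ hb₁ hb₂ hδV
  refine ⟨g, g', hg, hg', ?_⟩
  rintro x ⟨⟨hxU, hxV⟩, hxZ | hxZ⟩
  · rw [hg₁ x ⟨hxU, hxZ⟩, hg₁' x ⟨hxV, hxZ⟩, hab₁ x ⟨⟨hxU, hxV⟩, hxZ⟩]
    exact (sub_sub_sub_cancel_right _ _ _).symm
  · rw [hg₂ x ⟨hxU, hxZ⟩, hg₂' x ⟨hxV, hxZ⟩, hab₂ x ⟨⟨hxU, hxV⟩, hxZ⟩]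
    exact (sub_sub_sub_cancel_right _ _ _).symm

/-- On an irreducible closed set everything splits. -/
theorem S_irreducible [DiscreteTopology A] [AddCommGroup A] {U V : Set X} (hU : IsOpen U) (hV : IsOpen V)
    (h : X → A) (hh : ContinuousOn h (U ∩ V)) {Z : Set X} (hZ : IsPreirreducible Z) :
    S U V h Z := by
  classical
  by_cases hne : (Z ∩ (U ∩ V)).Nonempty
  · obtain ⟨x₀, hx₀Z, hx₀⟩ := hne
    refine ⟨fun _ => h x₀, fun _ => 0, continuousOn_const, continuousOn_const, ?_⟩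
    rintro x ⟨hx, hxZ⟩
    rw [sub_zero]
    have hpre : IsPreirreducible (Z ∩ (U ∩ V)) := by
      rintro u v hu hv ⟨x, ⟨hx1, hx2⟩, hx3⟩ ⟨y, ⟨hy1, hy2⟩, hy3⟩
      obtain ⟨z, hz, hz1, hz2⟩ := hZ ((U ∩ V) ∩ u) ((U ∩ V) ∩ v) ((hU.inter hV).inter hu)
        ((hU.inter hV).inter hv) ⟨x, hx1, hx2, hx3⟩ ⟨y, hy1, hy2, hy3⟩
      exact ⟨z, ⟨hz, hz1.1⟩, hz1.2, hz2.2⟩
    exact hpre.isPreconnected.constant (hh.mono inter_subset_right) ⟨hxZ, hx⟩ ⟨hx₀Z, hx₀⟩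
  · refine ⟨fun _ => 0, fun _ => 0, continuousOn_const, continuousOn_const, ?_⟩
    rintro x ⟨hx, hxZ⟩
    exact absurd ⟨x, hxZ, hx⟩ hne

theorem split [DiscreteTopology A] [AddCommGroup A] [Finite A] [PrespectralSpace X] [QuasiSeparatedSpace X]
    (hP : P X A) {U V : Set X} (hU : IsOpen U) (hUc : IsCompact U) (hV : IsOpen V)
    (hVc : IsCompact V) (hUV : U ∪ V = univ) (h : X → A) (hh : ContinuousOn h (U ∩ V)) :
    ∃ h₁ h₂ : X → A, ContinuousOn h₁ U ∧ ContinuousOn h₂ V ∧ ∀ x ∈ U ∩ V, h x = h₁ x - h₂ x := by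
  have hS : S U V h univ := by
    by_contra hcon
    obtain ⟨m, -, hm⟩ := zorn_superset_nonempty {Z : Set X | IsClosed Z ∧ ¬ S U V h Z} (by
      intro c hc hchain hne
      refine ⟨⋂₀ c, ⟨isClosed_sInter fun Z hZ => (hc hZ).1, ?_⟩, fun s hs => sInter_subset_of_mem hs⟩
      intro hS
      obtain ⟨K, hK, hKc, hKS⟩ := exists_compact hU hUc hV hVc h hh
        (isClosed_sInter fun Z hZ => (hc hZ).1) hS
      have : Nonempty c := hne.to_subtype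
      obtain ⟨⟨Z, hZ⟩, hKZ⟩ := hK.elim_directed_family_closed (fun Z : c => (Z : Set X))
        (fun Z => (hc Z.2).1) (by rw [← sInter_eq_iInter]; exact hKc)
        (by
          intro Z₁ Z₂
          rcases hchain.total Z₁.2 Z₂.2 with h | h
          · exact ⟨Z₁, subset_rfl, h⟩
          · exact ⟨Z₂, h, subset_rfl⟩)
      exact (hc hZ).2 (hKS Z hKZ)) univ ⟨isClosed_univ, hcon⟩
    obtain ⟨⟨hmc, hmS⟩, hmin⟩ := hm
    have hnot : ¬ IsPreirreducible m := fun hirr => hmS (S_irreducible hU hV h hh hirr)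
    rw [isPreirreducible_iff_isClosed_union_isClosed] at hnot
    push Not at hnot
    obtain ⟨Z₁, Z₂, hZ₁, hZ₂, hm12, hm1, hm2⟩ := hnot
    have hS1 : S U V h (m ∩ Z₁) := by
      by_contra hc1
      exact hm1 fun x hx => (hmin ⟨hmc.inter hZ₁, hc1⟩ inter_subset_left hx).2
    have hS2 : S U V h (m ∩ Z₂) := by
      by_contra hc2
      exact hm2 fun x hx => (hmin ⟨hmc.inter hZ₂, hc2⟩ inter_subset_left hx).2
    apply hmS
    have := S_union hP hU hV hUV h (hmc.inter hZ₁) (hmc.inter hZ₂) hS1 hS2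
    rwa [← inter_union_distrib_left, inter_eq_self_of_subset_left hm12] at this
  obtain ⟨h₁, h₂, a, b, c⟩ := hS
  rw [inter_univ] at a b c
  exact ⟨h₁, h₂, a, b, c⟩

end Groth.Agent.CurvesA.AicZorn112
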