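import Groth.Prelude.Def_Curve
import Groth.Agent.Ega2.GeoRelDim
import Groth.Agent.UnramA.SmoothFibreDim
import Groth.Agent.Picfga.CurveRelDim

/-!
# The dimension of the fibres of a smooth morphism over an irreducible base
-/

set_option autoImplicit false
universe u

open CategoryTheory CategoryTheory.Limits AlgebraicGeometry

namespace Groth.Agent.CurvesA.CSpecD1

/-- A nonempty scheme smooth of relative dimension `n` over a field has dimension `n`. -/
theorem topologicalKrullDim_eq_of_smoothOfRelativeDimension {k : Type u} [Field k] (n : ℕ)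
    {Z : Scheme.{u}} (g : Z ⟶ Spec (.of k)) [SmoothOfRelativeDimension n g] [Nonempty Z] :
    topologicalKrullDim Z = n := by
  rw [VarietyB.DimTop.topologicalKrullDim_eq_iSup_localDim]
  simp only [UnramA.SmoothFibreDim.localDim_eq n g, ciSup_const]

/-- Smooth morphism to an irreducible scheme, one fibre over the generic point integral of dimension
`n` : the morphism is smooth of relative dimension `n`. -/
theorem smoothOfRelativeDimension_of_generic {X S X' : Scheme.{u}} [IrreducibleSpace S] (n : ℕ)
    (f : X ⟶ S) [Smooth f] {k : Type u} [Field k] (g : Spec (.of k) ⟶ S) (g' : X' ⟶ X)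
    (f' : X' ⟶ Spec (.of k)) (H : IsPullback g' f' f g) [IsIntegral X']
    (hdim : topologicalKrullDim X' = n) (s : Spec (.of k)) (hs : g s = genericPoint S) :
    SmoothOfRelativeDimension n f := by
  have : Smooth f' := MorphismProperty.of_isPullback H inferInstance
  exact Ega2.GeoRelDim.smoothOfRelativeDimension_of_generic n f g g' f' H
    (Picfga.CurveRelDim.smoothOfRelativeDimension_of_topologicalKrullDim_eq k X' f' n hdim) s hs

/-- (D1) The dimension of the fibres of a smooth morphism over a domain. -/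
theorem topologicalKrullDim_eq {R : Type u} [CommRing R] [IsDomain R] {Y Y₁ Y₂ : Scheme.{u}}
    (f : Y ⟶ Spec (.of R)) [Smooth f] {F F' : Type u} [Field F] [Field F'] (φ : R →+* F)
    (hφ : Function.Injective φ) (φ' : R →+* F') {g₁ : Y₁ ⟶ Y} {f₁ : Y₁ ⟶ Spec (.of F)}
    (H₁ : IsPullback g₁ f₁ f (Spec.map (CommRingCat.ofHom φ))) {g₂ : Y₂ ⟶ Y}
    {f₂ : Y₂ ⟶ Spec (.of F')} (H₂ : IsPullback g₂ f₂ f (Spec.map (CommRingCat.ofHom φ')))
    [IsIntegral Y₁] (n : ℕ) (hdim : topologicalKrullDim Y₁ = n) [Nonempty Y₂] :
    topologicalKrullDim Y₂ = n := by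
  have : IrreducibleSpace (Spec (CommRingCat.of R)) :=
    inferInstanceAs (IrreducibleSpace (PrimeSpectrum R))
  have h1 : SmoothOfRelativeDimension n f := by
    refine smoothOfRelativeDimension_of_generic n f _ g₁ f₁ H₁ hdim (⊥ : PrimeSpectrum F) ?_
    have h2 : (Spec.map (CommRingCat.ofHom φ)) (⊥ : PrimeSpectrum F) = (⊥ : PrimeSpectrum R) := by
      apply PrimeSpectrum.ext
      change Ideal.comap φ ⊥ = ⊥
      exact (RingHom.injective_iff_ker_eq_bot φ).mp hφ
    rw [h2]
    have : IsIntegral (Spec (CommRingCat.of R)) := inferInstance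
    exact (genericPoint_eq_bot_of_affine (CommRingCat.of R)).symm
  have h2 : SmoothOfRelativeDimension n f₂ := Ega2.GeoRelDim.relDim_of_isPullback H₂ h1
  exact topologicalKrullDim_eq_of_smoothOfRelativeDimension n f₂

end Groth.Agent.CurvesA.CSpecD1
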