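import Groth.Agent.CurvesA.EndDim
import Mathlib.Algebra.Central.Basic
import Mathlib.Algebra.Central.TensorProduct
import Mathlib.RingTheory.TensorProduct.Basic
import Mathlib.Algebra.Algebra.Subalgebra.Centralizer
import Mathlib.Algebra.Algebra.Opposite

set_option autoImplicit false

namespace Groth.Agent.CurvesA.Centralizer

open scoped TensorProduct
open Module MulOpposite

universe u v

section

variable (k : Type u) [Field k] (A : Type v) [Ring A] [Algebra k A] (B : Subalgebra k A)

/-- `A` as a module over `B ⊗ Aᵐᵒᵖ`, by left and right multiplication. -/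
@[instance_reducible]
noncomputable def bimod : Module (B ⊗[k] Aᵐᵒᵖ) A := TensorProduct.Algebra.module

attribute [local instance] bimod

theorem bimod_smul (b : B) (a : Aᵐᵒᵖ) (x : A) : (b ⊗ₜ[k] a) • x = b * (x * a.unop) := rfl

instance : IsScalarTower k (B ⊗[k] Aᵐᵒᵖ) A where
  smul_assoc c r x := by
    induction r using TensorProduct.induction_on with
    | zero => rw [smul_zero, zero_smul (B ⊗[k] Aᵐᵒᵖ) x, smul_zero]
    | tmul b a =>
      rw [TensorProduct.smul_tmul', bimod_smul, bimod_smul]
      simp
    | add r s hr hs => rw [smul_add, add_smul, hr, hs, add_smul, smul_add]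

/-- Endomorphisms of `A` as a `B ⊗ Aᵐᵒᵖ`-module are left multiplications by elements of the
centralizer of `B`. -/
noncomputable def endEquiv :
    Subalgebra.centralizer k (B : Set A) ≃ₐ[k] Module.End (B ⊗[k] Aᵐᵒᵖ) A where
  toFun c :=
    { toFun := fun x => c * x
      map_add' := fun x y => mul_add _ _ _
      map_smul' := fun r x => by
        induction r using TensorProduct.induction_on with
        | zero =>
          simp only [RingHom.id_apply]
          rw [zero_smul (B ⊗[k] Aᵐᵒᵖ) x, mul_zero]
          exact (zero_smul (B ⊗[k] Aᵐᵒᵖ) ((c : A) * x)).symm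
        | tmul b a =>
          have hc := (Subalgebra.mem_centralizer_iff k).1 c.2 b b.2
          simp only [RingHom.id_apply]
          rw [bimod_smul, bimod_smul, ← mul_assoc, ← hc, mul_assoc, mul_assoc]
        | add r s hr hs => rw [add_smul, mul_add, hr, hs]; simp only [RingHom.id_apply]; rw [add_smul] }
  invFun f := ⟨f 1, by
    rw [Subalgebra.mem_centralizer_iff]
    intro b hb
    have h1 : f (((⟨b, hb⟩ : B) ⊗ₜ[k] (1 : Aᵐᵒᵖ)) • (1 : A)) = b * f 1 := by
      rw [map_smul, bimod_smul]; simp
    have h2 : f (((1 : B) ⊗ₜ[k] (op b)) • (1 : A)) = f 1 * b := by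
      rw [map_smul, bimod_smul]; simp
    rw [bimod_smul] at h1 h2
    simp only [unop_one, mul_one, unop_op, one_mul, OneMemClass.coe_one] at h1 h2
    rw [← h1, ← h2]⟩
  left_inv c := by ext; simp
  right_inv f := by
    ext x
    have h2 : f (((1 : B) ⊗ₜ[k] (op x)) • (1 : A)) = f 1 * x := by
      rw [map_smul, bimod_smul]; simp
    rw [bimod_smul] at h2
    simp only [unop_op, one_mul, OneMemClass.coe_one] at h2
    simp [h2]
  map_mul' c d := by ext x; simp [mul_assoc]
  map_add' c d := by ext x; simp [add_mul]
  commutes' r := by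
    ext x
    simp [Algebra.smul_def]

end

instance isCentral_op (k : Type u) [Field k] (A : Type v) [Ring A] [Algebra k A]
    [Algebra.IsCentral k A] : Algebra.IsCentral k Aᵐᵒᵖ where
  out x hx := by
    have : x.unop ∈ Subalgebra.center k A := by
      rw [Subalgebra.mem_center_iff] at hx ⊢
      intro b
      exact congrArg unop (hx (op b)).symm
    obtain ⟨r, hr⟩ := Algebra.IsCentral.out this
    exact ⟨r, congrArg op hr⟩

section

variable (k : Type u) [Field k] (A : Type v) [Ring A] [Algebra k A] (B : Subalgebra k A)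
  [Algebra.IsCentral k A] [IsSimpleRing A] [FiniteDimensional k A] [IsSimpleRing B]

attribute [local instance] bimod

omit [Algebra.IsCentral k A] [IsSimpleRing B] in
theorem main (hs : IsSimpleRing (B ⊗[k] Aᵐᵒᵖ)) :
    IsSimpleRing (Subalgebra.centralizer k (B : Set A)) ∧
    finrank k A = finrank k B * finrank k (Subalgebra.centralizer k (B : Set A)) := by
  have : Module.Finite k B := Module.Finite.of_injective B.val.toLinearMap Subtype.val_injective
  have : Module.Finite k Aᵐᵒᵖ := Module.Finite.equiv (MulOpposite.opLinearEquiv k)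
  have hfin : Module.Finite (B ⊗[k] Aᵐᵒᵖ) A := by
    exact Module.Finite.of_restrictScalars_finite k _ _
  obtain ⟨h1, h2, h3⟩ := EndDim.finrank_sq_and_isSimpleRing k (B ⊗[k] Aᵐᵒᵖ) A
  refine ⟨IsSimpleRing.of_ringEquiv (endEquiv k A B).symm.toRingEquiv h2, ?_⟩
  have h4 : finrank k (B ⊗[k] Aᵐᵒᵖ) = finrank k B * finrank k A := by
    rw [Module.finrank_tensorProduct, (MulOpposite.opLinearEquiv k : A ≃ₗ[k] Aᵐᵒᵖ).finrank_eq]
  rw [h4, ← (endEquiv k A B).toLinearEquiv.finrank_eq] at h1
  have h5 : 0 < finrank k A := Module.finrank_pos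
  have : finrank k A * finrank k A = finrank k A * (finrank k B * finrank k (Subalgebra.centralizer k (B : Set A))) := by
    rw [← sq, h1]; ring
  exact Nat.eq_of_mul_eq_mul_left h5 this

end

end Groth.Agent.CurvesA.Centralizer
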