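import Groth.Agent.CohtopA.ColimCohomology
import Groth.Agent.CohtopA.Flasque
import Mathlib.Topology.LocallyConstant.Algebra
import Mathlib.Topology.Irreducible
import Mathlib.Topology.Connected.TotallyDisconnected

/-!
# Locally constant functions on closed subsets

For `Z ⊆ X` the sheaf `S M Z` on `X` of locally constant `M`-valued functions on `Z` (the direct image of the
constant sheaf on `Z`).

* `subsingleton_ext` : if `X` is compact, prespectral and quasi-separated and if for all closed `A`, `B` every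
  locally constant function on `A ∩ B` is the difference of restrictions of locally constant functions on `A`
  and on `B`, then `H^(q+1)(X, S M Z) = 0` for all closed `Z`.
-/

set_option autoImplicit false
set_option linter.unusedSectionVars false
set_option linter.unusedVariables false
universe u

open CategoryTheory Abelian Limits Opposite TopologicalSpace
open Groth.Agent.CohtopA.Sec

noncomputable section

namespace Groth.Agent.CurvesA.ClosedLC

variable {X : TopCat.{u}} (M : Type u) [AddCommGroup M]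

/-- Locally constant functions on `Z ∩ U`. -/
abbrev Sect (Z : Set X) (U : Opens X) : Type u := LocallyConstant {x : X // x ∈ Z ∧ x ∈ U} M

/-- restriction along inclusions of both the closed subset and the open subset. -/
def inc {Z Z' : Set X} {U V : Opens X} (hZ : Z' ⊆ Z) (hU : V ≤ U) :
    C({x : X // x ∈ Z' ∧ x ∈ V}, {x : X // x ∈ Z ∧ x ∈ U}) where
  toFun x := ⟨x.1, hZ x.2.1, hU x.2.2⟩
  continuous_toFun := by fun_prop

/-- restriction of locally constant functions. -/
def rs {Z Z' : Set X} {U V : Opens X} (hZ : Z' ⊆ Z) (hU : V ≤ U) : Sect M Z U →+ Sect M Z' V :=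
  LocallyConstant.comapAddMonoidHom (inc hZ hU)

variable {M}

theorem rs_apply {Z Z' : Set X} {U V : Opens X} (hZ : Z' ⊆ Z) (hU : V ≤ U) (s : Sect M Z U)
    (x : {x : X // x ∈ Z' ∧ x ∈ V}) : rs M hZ hU s x = s ⟨x.1, hZ x.2.1, hU x.2.2⟩ := rfl

variable (M)

/-- the presheaf -/
def pre (Z : Set X) : (Opens X)ᵒᵖ ⥤ AddCommGrpCat.{u} where
  obj U := AddCommGrpCat.of (Sect M Z U.unop)
  map f := AddCommGrpCat.ofHom (rs M subset_rfl f.unop.le)
  map_id _ := rfl
  map_comp _ _ := rfl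

theorem isSheaf (Z : Set X) : Presheaf.IsSheaf (Opens.grothendieckTopology X) (pre M Z) := by
  change TopCat.Presheaf.IsSheaf (X := X) (pre M Z)
  rw [TopCat.Presheaf.isSheaf_iff_isSheaf_comp (forget AddCommGrpCat.{u})]
  apply TopCat.Presheaf.isSheaf_of_isSheafUniqueGluing_types
  intro ι U s₀ hs
  let s : ∀ i, Sect M Z (U i) := s₀
  have hs' : ∀ i j (x : X) (hx : x ∈ Z) (hi : x ∈ U i) (hj : x ∈ U j),
      s i ⟨x, hx, hi⟩ = s j ⟨x, hx, hj⟩ := by
    intro i j x hx hi hj
    have := hs i j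
    exact DFunLike.congr_fun (F := LocallyConstant {x : X // x ∈ Z ∧ x ∈ (U i ⊓ U j : Opens X)} M) this
      ⟨x, hx, hi, hj⟩
  have hc : ∀ x : {x : X // x ∈ Z ∧ x ∈ iSup U}, ∃ i, x.1 ∈ U i := fun x => Opens.mem_iSup.1 x.2.2
  choose c hc using hc
  let w : Sect M Z (iSup U) :=
    { toFun := fun x => s (c x) ⟨x.1, x.2.1, hc x⟩
      isLocallyConstant := by
        rw [IsLocallyConstant.iff_exists_open]
        intro x
        obtain ⟨W, hW, hxW, h⟩ := (IsLocallyConstant.iff_exists_open _).1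
          (s (c x)).isLocallyConstant ⟨x.1, x.2.1, hc x⟩
        obtain ⟨W', hW', rfl⟩ := isOpen_induced_iff.1 hW
        refine ⟨Subtype.val ⁻¹' (W' ∩ U (c x)), (hW'.inter (U (c x)).isOpen).preimage
          continuous_subtype_val, ⟨hxW, hc x⟩, ?_⟩
        intro y hy
        rw [hs' (c y) (c x) y.1 y.2.1 (hc y) hy.2]
        exact h ⟨y.1, y.2.1, hy.2⟩ hy.1 }
  refine ⟨w, ?_, ?_⟩
  · intro i
    refine LocallyConstant.ext (f := (rs M subset_rfl (le_iSup U i) w : Sect M Z (U i))) ?_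
    intro x
    exact hs' _ _ x.1 x.2.1 (hc _) x.2.2
  · intro w' hw'
    refine LocallyConstant.ext (f := (w' : Sect M Z (iSup U))) ?_
    intro x
    have := hw' (c x)
    exact DFunLike.congr_fun (F := LocallyConstant {y : X // y ∈ Z ∧ y ∈ (U (c x) : Opens X)} M) this
      ⟨x.1, x.2.1, hc x⟩

/-- The sheaf of locally constant functions on `Z`. -/
def S (Z : Set X) : CohTop.Ab X := ⟨pre M Z, isSheaf M Z⟩

/-- Restriction from `Z` to `Z'`. -/
def res {Z Z' : Set X} (h : Z' ⊆ Z) : S M Z ⟶ S M Z' where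
  hom :=
    { app := fun _ => AddCommGrpCat.ofHom (rs M h le_rfl)
      naturality := fun _ _ _ => rfl }

theorem res_comp {Z Z' Z'' : Set X} (h : Z' ⊆ Z) (h' : Z'' ⊆ Z') :
    res M h ≫ res M h' = res M (h'.trans h) := rfl

theorem res_self {Z : Set X} (h : Z ⊆ Z) : res M h = 𝟙 _ := rfl

variable {M}

/-- a locally constant function is constant near a point. -/
theorem exists_const {Z : Set X} {U : Opens X} (s : Sect M Z U) (x : X) (hx : x ∈ Z) (hU : x ∈ U) :
    ∃ (V : Opens X) (_ : V ≤ U), x ∈ V ∧ ∀ (y : X) (hy : y ∈ Z) (hyV : y ∈ V) (hyU : y ∈ U),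
      s ⟨y, hy, hyU⟩ = s ⟨x, hx, hU⟩ := by
  obtain ⟨W, hW, hxW, h⟩ := (IsLocallyConstant.iff_exists_open _).1 s.isLocallyConstant ⟨x, hx, hU⟩
  obtain ⟨W', hW', rfl⟩ := isOpen_induced_iff.1 hW
  exact ⟨⟨W', hW'⟩ ⊓ U, inf_le_right, ⟨hxW, hU⟩, fun y hy hyV hyU => h ⟨y, hy, hyU⟩ hyV.1⟩

theorem m_res {Z Z' : Set X} (h : Z' ⊆ Z) {U : Opens X} (s : Γs (S M Z) U) :
    m (res M h) U s = rs M h le_rfl (s : Sect M Z U) := rfl

theorem r_S {Z : Set X} {U V : Opens X} (h : V ≤ U) (s : Γs (S M Z) U) :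
    r (S M Z) h s = rs M subset_rfl h (s : Sect M Z U) := rfl

theorem sect_subsingleton {Z : Set X} {U : Opens X} (h : ∀ x ∈ Z, x ∉ U) : Subsingleton (Sect M Z U) :=
  ⟨fun _ _ => LocallyConstant.ext fun x => (h x.1 x.2.1 x.2.2).elim⟩

theorem sect_ext {Z : Set X} {U : Opens X} {s t : Sect M Z U}
    (h : ∀ (x : X) (hx : x ∈ Z) (hU : x ∈ U), s ⟨x, hx, hU⟩ = t ⟨x, hx, hU⟩) : s = t :=
  LocallyConstant.ext fun x => h x.1 x.2.1 x.2.2

/-- Local lifting along restriction to a closed subset. -/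
theorem exists_local_lift {Z Z' : Set X} (h : Z' ⊆ Z) (hZ' : IsClosed Z') {U : Opens X}
    (t : Sect M Z' U) (x : X) (hx : x ∈ U) :
    ∃ (V : Opens X) (hV : V ≤ U) (s : Sect M Z V), x ∈ V ∧ rs M h le_rfl s = rs M subset_rfl hV t := by
  by_cases hxZ : x ∈ Z'
  · obtain ⟨V, hV, hxV, e⟩ := exists_const t x hxZ hx
    refine ⟨V, hV, LocallyConstant.const _ (t ⟨x, hxZ, hx⟩), hxV, sect_ext fun y hy hyV => ?_⟩
    rw [rs_apply, rs_apply]
    exact (e y hy hyV (hV hyV)).symm
  · refine ⟨U ⊓ ⟨Z'ᶜ, hZ'.isOpen_compl⟩, inf_le_left, 0, ⟨hx, hxZ⟩, sect_ext fun y hy hyV => ?_⟩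
    exact (hyV.2 hy).elim

theorem epi_res {Z Z' : Set X} (h : Z' ⊆ Z) (hZ' : IsClosed Z') : Epi (res M h) := by
  refine epi_of_local _ fun U t x hx => ?_
  obtain ⟨V, hV, s, hxV, e⟩ := exists_local_lift h hZ' t x hx
  exact ⟨V, hV, s, hxV, e⟩

theorem isFlasque_of_isPreirreducible {Z : Set X} (hZ : IsPreirreducible Z) :
    TopCat.Sheaf.IsFlasque (S M Z) where
  epi := by
    intro U V i
    rw [AddCommGrpCat.epi_iff_surjective]
    intro t₀
    let t : Sect M Z V.unop := t₀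
    by_cases hV : ∃ x, x ∈ Z ∧ x ∈ V.unop
    · obtain ⟨x, hx, hxV⟩ := hV
      refine ⟨LocallyConstant.const {x : X // x ∈ Z ∧ x ∈ U.unop} (t ⟨x, hx, hxV⟩), ?_⟩
      refine sect_ext (s := rs M subset_rfl i.unop.le (LocallyConstant.const _ (t ⟨x, hx, hxV⟩)))
        (t := t) fun y hy hyV => ?_
      obtain ⟨W₁, hW₁, hxW₁, e₁⟩ := exists_const t x hx hxV
      obtain ⟨W₂, hW₂, hyW₂, e₂⟩ := exists_const t y hy hyV
      obtain ⟨z, hz, hz₁, hz₂⟩ := hZ W₁ W₂ W₁.isOpen W₂.isOpen ⟨x, hx, hxW₁⟩ ⟨y, hy, hyW₂⟩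
      exact (e₁ z hz hz₁ (hW₁ hz₁)).symm.trans (e₂ z hz hz₂ (hW₂ hz₂))
    · refine ⟨(0 : Sect M Z U.unop), ?_⟩
      have := sect_subsingleton (M := M) (Z := Z) (U := V.unop) (fun x h1 h2 => hV ⟨x, h1, h2⟩)
      exact Subsingleton.elim (α := Sect M Z V.unop) _ _

/-! ### The Mayer-Vietoris sequence -/

theorem exact_of_local {T : ShortComplex (CohTop.Ab X)}
    (h : ∀ (U : Opens X) (s : Γs T.X₂ U), m T.g U s = 0 → ∀ x ∈ U, ∃ (V : Opens X) (hV : V ≤ U)
      (t : Γs T.X₁ V), x ∈ V ∧ m T.f V t = r T.X₂ hV s) : T.Exact := by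
  rw [T.exact_iff_epi_kernel_lift]
  refine epi_of_local _ fun U s x hx => ?_
  have h0 : m T.g U (m (kernel.ι T.g) U s) = 0 := by
    rw [← m_comp, kernel.condition]
    rfl
  obtain ⟨V, hV, t, hxV, e⟩ := h U (m (kernel.ι T.g) U s) h0 x hx
  refine ⟨V, hV, t, hxV, m_injective (kernel.ι T.g) V ?_⟩
  rw [← m_comp, kernel.lift_ι, e, m_r]

variable (M)

/-- The Mayer-Vietoris complex of two closed subsets. -/
def mv {Z A B : Set X} (hA : A ⊆ Z) (hB : B ⊆ Z) : ShortComplex (CohTop.Ab X) where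
  X₁ := S M Z
  X₂ := S M A ⊞ S M B
  X₃ := S M (A ∩ B)
  f := biprod.lift (res M hA) (res M hB)
  g := biprod.desc (res M Set.inter_subset_left) (- res M Set.inter_subset_right)
  zero := by
    rw [biprod.lift_desc, Preadditive.comp_neg, res_comp, res_comp, add_neg_cancel]

variable {M}

theorem m_add {F G : CohTop.Ab X} (φ ψ : F ⟶ G) (U : Opens X) (s : Γs F U) :
    m (φ + ψ) U s = m φ U s + m ψ U s := rfl

theorem m_neg {F G : CohTop.Ab X} (φ : F ⟶ G) (U : Opens X) (s : Γs F U) :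
    m (-φ) U s = - m φ U s := rfl

/-- Gluing locally constant functions along two closed subsets. -/
theorem exists_glue {Z A B : Set X} (hA : A ⊆ Z) (hB : B ⊆ Z) (hAB : Z ⊆ A ∪ B) (cA : IsClosed A)
    (cB : IsClosed B) {U : Opens X} (a : Sect M A U) (b : Sect M B U)
    (h : ∀ (x : X) (hxA : x ∈ A) (hxB : x ∈ B) (hU : x ∈ U), a ⟨x, hxA, hU⟩ = b ⟨x, hxB, hU⟩) :
    ∃ s : Sect M Z U, rs M hA le_rfl s = a ∧ rs M hB le_rfl s = b := by
  classical
  let f : {x : X // x ∈ Z ∧ x ∈ U} → M := fun x =>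
    if hx : x.1 ∈ A then a ⟨x.1, hx, x.2.2⟩ else
      b ⟨x.1, (hAB x.2.1).resolve_left hx, x.2.2⟩
  have fA : ∀ (x : X) (hx : x ∈ A) (hU : x ∈ U), f ⟨x, hA hx, hU⟩ = a ⟨x, hx, hU⟩ := by
    intro x hx hU
    exact dif_pos hx
  have fB : ∀ (x : X) (hx : x ∈ B) (hU : x ∈ U), f ⟨x, hB hx, hU⟩ = b ⟨x, hx, hU⟩ := by
    intro x hx hU
    by_cases hxA : x ∈ A
    · exact (fA x hxA hU).trans (h x hxA hx hU)
    · exact dif_neg hxA
  have key : ∀ (C : Set X), IsClosed C → ∀ (hC : C ⊆ Z) (c : Sect M C U),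
      (∀ (x : X) (hx : x ∈ C) (hU : x ∈ U), f ⟨x, hC hx, hU⟩ = c ⟨x, hx, hU⟩) →
      ∀ x : {x : X // x ∈ Z ∧ x ∈ U}, ∃ V : Opens X, x.1 ∈ V ∧
        ∀ y : {x : X // x ∈ Z ∧ x ∈ U}, y.1 ∈ V → y.1 ∈ C → f y = f x := by
    intro C cC hC c hc x
    by_cases hx : x.1 ∈ C
    · obtain ⟨V, hV, hxV, e⟩ := exists_const c x.1 hx x.2.2
      exact ⟨V, hxV, fun y hy hyC => (hc y.1 hyC y.2.2).trans
        ((e y.1 hyC hy y.2.2).trans (hc x.1 hx x.2.2).symm)⟩
    · exact ⟨⟨Cᶜ, cC.isOpen_compl⟩, hx, fun y hy hyC => (hy hyC).elim⟩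
  have hf : IsLocallyConstant f := by
    rw [IsLocallyConstant.iff_exists_open]
    intro x
    obtain ⟨V, hxV, hV⟩ := key A cA hA a fA x
    obtain ⟨W, hxW, hW⟩ := key B cB hB b fB x
    refine ⟨Subtype.val ⁻¹' (V ⊓ W : Opens X), (V ⊓ W).isOpen.preimage continuous_subtype_val,
      ⟨hxV, hxW⟩, fun y hy => ?_⟩
    rcases hAB y.2.1 with h1 | h1
    · exact hV y hy.1 h1
    · exact hW y hy.2 h1
  refine ⟨⟨f, hf⟩, ?_, ?_⟩
  · exact sect_ext fun x hx hU => fA x hx hU
  · exact sect_ext fun x hx hU => fB x hx hU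

theorem mv_shortExact {Z A B : Set X} (hA : A ⊆ Z) (hB : B ⊆ Z) (hAB : Z ⊆ A ∪ B) (cA : IsClosed A)
    (cB : IsClosed B) : (mv M hA hB).ShortExact := by
  have h1 : Mono (mv M hA hB).f := by
    refine mono_of_injective _ fun U s t hst => ?_
    have e1 : rs M hA le_rfl (s : Sect M Z U) = rs M hA le_rfl (t : Sect M Z U) := by
      have := congrArg (m (biprod.fst : S M A ⊞ S M B ⟶ _) U) hst
      change m (biprod.lift (res M hA) (res M hB) ≫ biprod.fst) U s =
        m (biprod.lift (res M hA) (res M hB) ≫ biprod.fst) U t at this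
      rw [biprod.lift_fst] at this
      exact this
    have e2 : rs M hB le_rfl (s : Sect M Z U) = rs M hB le_rfl (t : Sect M Z U) := by
      have := congrArg (m (biprod.snd : S M A ⊞ S M B ⟶ _) U) hst
      change m (biprod.lift (res M hA) (res M hB) ≫ biprod.snd) U s =
        m (biprod.lift (res M hA) (res M hB) ≫ biprod.snd) U t at this
      rw [biprod.lift_snd] at this
      exact this
    refine sect_ext (s := (s : Sect M Z U)) (t := t) fun x hx hU => ?_
    rcases hAB hx with h | h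
    · exact LocallyConstant.congr_fun e1 ⟨x, h, hU⟩
    · exact LocallyConstant.congr_fun e2 ⟨x, h, hU⟩
  have h2 : Epi (mv M hA hB).g := by
    have e : (biprod.inl : S M A ⟶ S M A ⊞ S M B) ≫ (mv M hA hB).g = res M Set.inter_subset_left :=
      biprod.inl_desc _ _
    have := epi_res (M := M) (Set.inter_subset_left : A ∩ B ⊆ A) (cA.inter cB)
    have h3 : Epi ((biprod.inl : S M A ⟶ S M A ⊞ S M B) ≫ (mv M hA hB).g) := by
      rw [e]
      exact this
    exact epi_of_epi (biprod.inl : S M A ⟶ S M A ⊞ S M B) _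
  refine { exact := exact_of_local fun U s hs x hx => ?_, mono_f := h1, epi_g := h2 }
  let s' : Γs (S M A ⊞ S M B) U := s
  let a : Sect M A U := m (biprod.fst : S M A ⊞ S M B ⟶ _) U s'
  let b : Sect M B U := m (biprod.snd : S M A ⊞ S M B ⟶ _) U s'
  have hs' : m (mv M hA hB).g U s' = rs M Set.inter_subset_left le_rfl a -
      rs M Set.inter_subset_right le_rfl b := by
    have : (mv M hA hB).g = biprod.fst ≫ res M Set.inter_subset_left +
        -(biprod.snd ≫ res M Set.inter_subset_right) := by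
      apply biprod.hom_ext' <;> simp [mv]
    refine (congrArg (fun φ : S M A ⊞ S M B ⟶ S M (A ∩ B) => m φ U s') this).trans ?_
    change m (biprod.fst ≫ res M Set.inter_subset_left) U s' +
      - m (biprod.snd ≫ res M Set.inter_subset_right) U s' = _
    rw [← sub_eq_add_neg]
    rfl
  obtain ⟨t, ht1, ht2⟩ := exists_glue hA hB hAB cA cB a b (by
    intro x hxA hxB hU
    have h3 : rs M Set.inter_subset_left le_rfl a = rs M Set.inter_subset_right le_rfl b :=
      sub_eq_zero.1 (hs'.symm.trans hs)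
    exact LocallyConstant.congr_fun h3 ⟨x, ⟨hxA, hxB⟩, hU⟩)
  refine ⟨U, le_rfl, t, hx, ?_⟩
  rw [r_self]
  change m (biprod.lift (res M hA) (res M hB)) U t = s'
  have h4 : biprod.lift (res M hA) (res M hB) = res M hA ≫ biprod.inl + res M hB ≫ biprod.inr :=
    biprod.lift_eq
  have h5 : s' = m (biprod.inl : S M A ⟶ S M A ⊞ S M B) U a + m (biprod.inr : S M B ⟶ S M A ⊞ S M B) U b := by
    have := congrArg (fun φ => m φ U s') (biprod.total (X := S M A) (Y := S M B))
    exact this.symm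
  rw [h4, m_add, h5, ← ht1, ← ht2]
  rfl

/-! ### Directed intersections of closed subsets -/

section Chain

variable (M) {ι : Type u} [Preorder ι] (Z : ι → Set X) (hZ : Antitone Z)

/-- The diagram of sheaves of locally constant functions. -/
def diag : ι ⥤ CohTop.Ab X where
  obj i := S M (Z i)
  map f := res M (hZ f.le)
  map_id _ := rfl
  map_comp _ _ := rfl

/-- The cocone of restrictions to the intersection. -/
def cocone : Cocone (diag M Z hZ) where
  pt := S M (⋂ i, Z i)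
  ι := { app := fun i => res M (Set.iInter_subset Z i)
         naturality := fun _ _ _ => rfl }

open Groth.Agent.CohtopA in
theorem nonempty_isColimit [IsDirected ι (· ≤ ·)] [Nonempty ι] (cZ : ∀ i, IsClosed (Z i)) :
    Nonempty (IsColimit (cocone M Z hZ)) := by
  have : IsFiltered ι := isFiltered_of_directed_le_nonempty ι
  let φ : colimit (diag M Z hZ) ⟶ S M (⋂ i, Z i) := colimit.desc (diag M Z hZ) (cocone M Z hZ)
  have hφ : ∀ i, colimit.ι (diag M Z hZ) i ≫ φ = res M (Set.iInter_subset Z i) := fun i =>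
    colimit.ι_desc _ _
  have h1 : Epi φ := by
    let i : ι := Classical.arbitrary ι
    have := epi_res (M := M) (Set.iInter_subset Z i) (isClosed_iInter cZ)
    have h3 : Epi (colimit.ι (diag M Z hZ) i ≫ φ) := by
      rw [hφ]
      exact this
    exact epi_of_epi (colimit.ι (diag M Z hZ) i) φ
  have h2 : Mono φ := by
    refine mono_of_injective _ fun U => ?_
    rw [injective_iff_map_eq_zero]
    intro s hs
    refine sep _ _ fun x hx => ?_
    obtain ⟨V, hV, i, t, hxV, e⟩ := ColimLocal.exists_local_rep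
      (colimit.isColimit (diag M Z hZ)) s x hx
    have e' : m (colimit.ι (diag M Z hZ) i) V t = r (colimit (diag M Z hZ)) hV s := e
    have e0 : rs M (Set.iInter_subset Z i) le_rfl (t : Sect M (Z i) V) = 0 := by
      have h3 : m φ V (m (colimit.ι (diag M Z hZ) i) V t) = 0 := by
        refine (congrArg (m φ V) e').trans ?_
        rw [m_r, hs, map_zero]
      rw [← m_comp, hφ] at h3
      exact h3
    by_cases hxZ : ∀ i, x ∈ Z i
    · obtain ⟨W, hW, hxW, h4⟩ := exists_const (t : Sect M (Z i) V) x (hxZ i) hxV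
      refine ⟨W, hW.trans hV, hxW, ?_⟩
      have h5 : r (S M (Z i)) hW t = 0 := by
        refine sect_ext (s := rs M subset_rfl hW (t : Sect M (Z i) V)) (t := 0) fun y hy hyW => ?_
        refine (h4 y hy hyW (hW hyW)).trans ?_
        exact LocallyConstant.congr_fun e0 ⟨x, Set.mem_iInter.2 hxZ, hxV⟩
      have h6 : r (colimit (diag M Z hZ)) (hW.trans hV) s =
          m (colimit.ι (diag M Z hZ) i) W (r (S M (Z i)) hW t) := by
        rw [← r_r hV hW]
        refine (congrArg (r (colimit (diag M Z hZ)) hW) e'.symm).trans ?_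
        exact (m_r (colimit.ι (diag M Z hZ) i) hW t).symm
      exact (h6.trans ((congrArg _ h5).trans (map_zero (m (colimit.ι (diag M Z hZ) i) W)))).trans
        (map_zero _).symm
    · rw [not_forall] at hxZ
      obtain ⟨j, hj⟩ := hxZ
      obtain ⟨k, hik, hjk⟩ := exists_ge_ge i j
      have hk : x ∉ Z k := fun h => hj (hZ hjk h)
      let W : Opens X := V ⊓ ⟨(Z k)ᶜ, (cZ k).isOpen_compl⟩
      have hW : W ≤ V := inf_le_left
      refine ⟨W, hW.trans hV, ⟨hxV, hk⟩, ?_⟩
      have h5 : m (res M (hZ hik)) W (r (S M (Z i)) hW t) = 0 := by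
        have := sect_subsingleton (M := M) (Z := Z k) (U := W) (fun y h1 h2 => h2.2 h1)
        exact Subsingleton.elim (α := Sect M (Z k) W) _ _
      have h7 : colimit.ι (diag M Z hZ) i = res M (hZ hik) ≫ colimit.ι (diag M Z hZ) k :=
        (colimit.w (diag M Z hZ) (homOfLE hik)).symm
      have h6 : r (colimit (diag M Z hZ)) (hW.trans hV) s =
          m (colimit.ι (diag M Z hZ) i) W (r (S M (Z i)) hW t) := by
        rw [← r_r hV hW]
        refine (congrArg (r (colimit (diag M Z hZ)) hW) e'.symm).trans ?_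
        exact (m_r (colimit.ι (diag M Z hZ) i) hW t).symm
      rw [h7] at h6
      exact (h6.trans ((congrArg (m (colimit.ι (diag M Z hZ) k) W) h5).trans
        (map_zero (m (colimit.ι (diag M Z hZ) k) W)))).trans (map_zero _).symm
  have : IsIso φ := isIso_of_mono_of_epi φ
  have h3 : IsIso ((colimit.isColimit (diag M Z hZ)).desc (cocone M Z hZ)) := this
  exact ⟨IsColimit.ofPointIso (colimit.isColimit (diag M Z hZ))⟩

end Chain

/-! ### Vanishing -/

/-- The free abelian sheaf on `X`. -/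
abbrev T (X : TopCat.{u}) : CohTop.Ab X :=
  CohtopA.FreeAb.freeAb (Opens.grothendieckTopology X) (⊤ : Opens X)

open Groth.Agent.CohtopA in
/-- A class dying on a directed intersection of closed subsets dies at a finite stage. -/
theorem exists_zero_of_iInter [CompactSpace X] [PrespectralSpace X] [QuasiSeparatedSpace X]
    {ι : Type u} [Preorder ι] (Z : ι → Set X) (hZ : Antitone Z)
    [IsDirected ι (· ≤ ·)] [Nonempty ι] (cZ : ∀ i, IsClosed (Z i)) {q : ℕ} (i : ι)
    (ξ : Ext.{u} (T X) (S M (Z i)) q)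
    (h : ξ.comp (Ext.mk₀ (res M (Set.iInter_subset Z i))) (add_zero q) = 0) :
    ∃ (j : ι) (hij : i ≤ j), ξ.comp (Ext.mk₀ (res M (hZ hij))) (add_zero q) = 0 := by
  have : IsFiltered ι := isFiltered_of_directed_le_nonempty ι
  obtain ⟨hc⟩ := nonempty_isColimit M Z hZ cZ
  have h1 := ColimCohomology.preservesColimitsOfShape_ext (J := ι) (X := X) (U := ⊤)
    isCompact_univ q
  have hc' : IsColimit ((extFunctorObj.{u} (T X) q).mapCocone (cocone M Z hZ)) :=
    isColimitOfPreserves _ hc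
  obtain ⟨k, f, hf⟩ := FiltColim.exists_map_eq_zero hc' i ξ h
  exact ⟨k, f.le, hf⟩

/-- One step of the Mayer-Vietoris argument. -/
theorem mv_vanish {Z A B : Set X} (hA : A ⊆ Z) (hB : B ⊆ Z) (hAB : Z ⊆ A ∪ B) (cA : IsClosed A)
    (cB : IsClosed B) {n : ℕ}
    (hs : ∀ x : Ext.{u} (T X) (mv M hA hB).X₃ n, ∃ y : Ext.{u} (T X) (mv M hA hB).X₂ n,
      y.comp (Ext.mk₀ (mv M hA hB).g) (add_zero n) = x)
    (ξ : Ext.{u} (T X) (S M Z) (n + 1))
    (h1 : ξ.comp (Ext.mk₀ (res M hA)) (add_zero (n + 1)) = 0)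
    (h2 : ξ.comp (Ext.mk₀ (res M hB)) (add_zero (n + 1)) = 0) : ξ = 0 := by
  have hS := mv_shortExact (M := M) hA hB hAB cA cB
  have h3' : ξ.comp (Ext.mk₀ (res M hA ≫ (biprod.inl : S M A ⟶ S M A ⊞ S M B) +
      res M hB ≫ (biprod.inr : S M B ⟶ S M A ⊞ S M B))) (add_zero (n + 1)) = 0 := by
    rw [Ext.mk₀_add, Ext.comp_add, ← Ext.mk₀_comp_mk₀, ← Ext.mk₀_comp_mk₀,
      ← Ext.comp_assoc ξ (Ext.mk₀ (res M hA)) _ (add_zero (n + 1)) (add_zero 0) (by omega),
      ← Ext.comp_assoc ξ (Ext.mk₀ (res M hB)) _ (add_zero (n + 1)) (add_zero 0) (by omega),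
      h1, h2, Ext.zero_comp, Ext.zero_comp, add_zero]
  have h3 : ξ.comp (Ext.mk₀ (mv M hA hB).f) (add_zero (n + 1)) = 0 := by
    have e : biprod.lift (res M hA) (res M hB) = res M hA ≫ (biprod.inl : S M A ⟶ S M A ⊞ S M B) +
      res M hB ≫ (biprod.inr : S M B ⟶ S M A ⊞ S M B) := biprod.lift_eq
    rw [← e] at h3'
    exact h3'
  obtain ⟨x₃, rfl⟩ := Ext.covariant_sequence_exact₁ (T X) hS ξ h3 rfl
  obtain ⟨y, rfl⟩ := hs x₃
  rw [Ext.comp_assoc _ _ _ (add_zero n) (zero_add 1) (by omega), hS.comp_extClass, Ext.comp_zero]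
  rfl

variable (X M) in
/-- Every locally constant function on the intersection of two closed subsets is a difference. -/
def Diff : Prop := ∀ (A B : Set X), IsClosed A → IsClosed B → ∀ c : Sect M (A ∩ B) ⊤,
  ∃ (a : Sect M A ⊤) (b : Sect M B ⊤), c = rs M Set.inter_subset_left le_rfl a -
    rs M Set.inter_subset_right le_rfl b

open Groth.Agent.CohtopA in
theorem surj_zero (hD : Diff X M) {Z A B : Set X} (hA : A ⊆ Z) (hB : B ⊆ Z) (cA : IsClosed A)
    (cB : IsClosed B) (x : Ext.{u} (T X) (mv M hA hB).X₃ 0) : ∃ y : Ext.{u} (T X) (mv M hA hB).X₂ 0,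
      y.comp (Ext.mk₀ (mv M hA hB).g) (add_zero 0) = x := by
  obtain ⟨f, rfl⟩ := (Ext.mk₀_bijective _ _).2 x
  obtain ⟨a, b, e⟩ := hD A B cA cB (FreeAb.homEv ⊤ (S M (A ∩ B)) f)
  obtain ⟨fa, hfa⟩ := (FreeAb.homEv_bijective ⊤ (S M A)).2 a
  obtain ⟨fb, hfb⟩ := (FreeAb.homEv_bijective ⊤ (S M B)).2 b
  refine ⟨Ext.mk₀ (biprod.lift fa fb : T X ⟶ S M A ⊞ S M B), ?_⟩
  refine (Ext.mk₀_comp_mk₀ _ _).trans ?_
  congr 1
  apply (FreeAb.homEv_bijective ⊤ (S M (A ∩ B))).1
  have h1 : (biprod.lift fa fb : T X ⟶ S M A ⊞ S M B) ≫ (mv M hA hB).g = fa ≫ res M Set.inter_subset_left -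
      fb ≫ res M Set.inter_subset_right := by
    have h2 : biprod.lift fa fb ≫ biprod.desc (res M (Set.inter_subset_left : A ∩ B ⊆ A))
        (- res M Set.inter_subset_right) = fa ≫ res M Set.inter_subset_left -
      fb ≫ res M Set.inter_subset_right := by
      rw [biprod.lift_desc, Preadditive.comp_neg, ← sub_eq_add_neg]
    exact h2
  refine (congrArg (FreeAb.homEv ⊤ (S M (A ∩ B))) h1).trans ?_
  refine (map_sub (FreeAb.homEv ⊤ (S M (A ∩ B))) _ _).trans ?_
  refine Eq.trans ?_ e.symm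
  rw [FreeAb.homEv_comp, FreeAb.homEv_comp, hfa, hfb]
  rfl

open Groth.Agent.CohtopA in
/-- The Zorn argument. -/
theorem ext_eq_zero_of_surj [CompactSpace X] [PrespectralSpace X] [QuasiSeparatedSpace X] (q : ℕ)
    (hs : ∀ (Z A B : Set X) (hA : A ⊆ Z) (hB : B ⊆ Z), IsClosed A → IsClosed B →
      ∀ x : Ext.{u} (T X) (mv M hA hB).X₃ q, ∃ y : Ext.{u} (T X) (mv M hA hB).X₂ q,
        y.comp (Ext.mk₀ (mv M hA hB).g) (add_zero q) = x)
    (Z₀ : Set X) (cZ₀ : IsClosed Z₀) (ξ : Ext.{u} (T X) (S M Z₀) (q + 1)) : ξ = 0 := by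
  by_contra hξ
  let 𝒵 : Set (Set X) := {Z | IsClosed Z ∧ ∃ h : Z ⊆ Z₀,
    ξ.comp (Ext.mk₀ (res M h)) (add_zero (q + 1)) ≠ 0}
  have h0 : Z₀ ∈ 𝒵 := ⟨cZ₀, subset_rfl, by
    rw [res_self, Ext.comp_mk₀_id]
    exact hξ⟩
  obtain ⟨Z, -, hZ⟩ := zorn_superset_nonempty 𝒵 (by
    intro c hc hchain hne
    let Z' : (↥c)ᵒᵈ → Set X := fun i => (OrderDual.ofDual i).1
    have hZ' : Antitone Z' := fun i j h => h
    have hdir : IsDirected (↥c)ᵒᵈ (· ≤ ·) := by
      refine ⟨fun i j => ?_⟩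
      rcases hchain.total (OrderDual.ofDual i).2 (OrderDual.ofDual j).2 with h | h
      · exact ⟨i, le_refl _, h⟩
      · exact ⟨j, h, le_refl _⟩
    have hne' : Nonempty (↥c)ᵒᵈ := ⟨OrderDual.toDual ⟨hne.some, hne.some_mem⟩⟩
    have hcl : ∀ i, IsClosed (Z' i) := fun i => (hc (OrderDual.ofDual i).2).1
    have hsub : ∀ i, Z' i ⊆ Z₀ := fun i => (hc (OrderDual.ofDual i).2).2.choose
    have hnz : ∀ i, ξ.comp (Ext.mk₀ (res M (hsub i))) (add_zero (q + 1)) ≠ 0 := fun i =>
      (hc (OrderDual.ofDual i).2).2.choose_spec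
    let i : (↥c)ᵒᵈ := Classical.arbitrary _
    refine ⟨⋂ i, Z' i, ⟨isClosed_iInter hcl, (Set.iInter_subset Z' i).trans (hsub i), ?_⟩,
      fun s hsc => Set.iInter_subset Z' (OrderDual.toDual ⟨s, hsc⟩)⟩
    intro h
    obtain ⟨j, hij, e⟩ := exists_zero_of_iInter (M := M) Z' hZ' hcl i
      (ξ.comp (Ext.mk₀ (res M (hsub i))) (add_zero (q + 1))) (by
        rw [Ext.comp_assoc _ _ _ (add_zero (q + 1)) (add_zero 0) (by omega), Ext.mk₀_comp_mk₀, res_comp]
        exact h)
    rw [Ext.comp_assoc _ _ _ (add_zero (q + 1)) (add_zero 0) (by omega), Ext.mk₀_comp_mk₀,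
      res_comp] at e
    exact hnz j e) Z₀ h0
  obtain ⟨⟨cZ, hZZ₀, hne⟩, hmin⟩ := hZ
  have hprop : ∀ A : Set X, IsClosed A → ∀ hA : A ⊆ Z, A ≠ Z →
      (ξ.comp (Ext.mk₀ (res M hZZ₀)) (add_zero (q + 1))).comp (Ext.mk₀ (res M hA))
        (add_zero (q + 1)) = 0 := by
    intro A cA hA hAZ
    by_contra h
    rw [Ext.comp_assoc _ _ _ (add_zero (q + 1)) (add_zero 0) (by omega), Ext.mk₀_comp_mk₀,
      res_comp] at h
    exact hAZ (subset_antisymm hA (hmin ⟨cA, hA.trans hZZ₀, h⟩ hA))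
  by_cases hirr : IsPreirreducible Z
  · have := isFlasque_of_isPreirreducible (M := M) hirr
    exact hne (Flasque.ext_succ_eq_zero_of_isFlasque (S M Z) ⊤ q _)
  · rw [isPreirreducible_iff_isClosed_union_isClosed] at hirr
    push Not at hirr
    obtain ⟨A, B, cA, cB, hAB, hA, hB⟩ := hirr
    refine hne (mv_vanish (M := M) (Z := Z) (A := Z ∩ A) (B := Z ∩ B) Set.inter_subset_left
      Set.inter_subset_left ?_ (cZ.inter cA) (cZ.inter cB) (hs _ _ _ _ _ (cZ.inter cA) (cZ.inter cB))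
      _ ?_ ?_)
    · rw [← Set.inter_union_distrib_left]
      exact Set.subset_inter subset_rfl hAB
    · exact hprop _ (cZ.inter cA) _ (fun h => hA (Set.inter_eq_left.1 h))
    · exact hprop _ (cZ.inter cB) _ (fun h => hB (Set.inter_eq_left.1 h))

/-- **Vanishing of the higher cohomology of locally constant functions on closed subsets.** -/
theorem ext_eq_zero [CompactSpace X] [PrespectralSpace X] [QuasiSeparatedSpace X] (hD : Diff X M)
    (q : ℕ) : ∀ (Z : Set X), IsClosed Z → ∀ ξ : Ext.{u} (T X) (S M Z) (q + 1), ξ = 0 := by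
  induction q with
  | zero =>
    intro Z cZ ξ
    exact ext_eq_zero_of_surj 0 (fun Z A B hA hB cA cB => surj_zero hD hA hB cA cB) Z cZ ξ
  | succ q ih =>
    intro Z cZ ξ
    refine ext_eq_zero_of_surj (q + 1) (fun Z A B hA hB cA cB x => ⟨0, ?_⟩) Z cZ ξ
    refine Eq.trans ?_ (ih (A ∩ B) (cA.inter cB) x).symm
    rw [Ext.zero_comp]
    rfl

/-- **Vanishing of the higher cohomology of locally constant functions on closed subsets.** -/
theorem subsingleton_H [CompactSpace X] [PrespectralSpace X] [QuasiSeparatedSpace X] (hD : Diff X M)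
    (q : ℕ) (Z : Set X) (cZ : IsClosed Z) : Subsingleton (CohTop.H (S M Z) (q + 1)) := by
  have : Subsingleton (CohTop.HU (S M Z) (q + 1) ⊤) :=
    subsingleton_of_forall_eq 0 (fun x => ext_eq_zero hD q Z cZ x)
  exact (CohtopA.Flasque.HTopEquiv (S M Z) (q + 1)).toEquiv.subsingleton

/-! ### The constant sheaf -/

variable (X M) in
/-- The map from the constant presheaf to locally constant functions. -/
def constPre : (Functor.const (Opens X)ᵒᵖ).obj (AddCommGrpCat.of M) ⟶ pre M (Set.univ : Set X) where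
  app _ := AddCommGrpCat.ofHom
    { toFun := fun a => LocallyConstant.const _ a
      map_zero' := rfl
      map_add' := fun _ _ => rfl }
  naturality _ _ _ := rfl

variable (X M) in
theorem constPre_W : (Opens.grothendieckTopology X).W (constPre X M) := by
  rw [GrothendieckTopology.W_iff_isLocallyBijective]
  constructor
  · constructor
    intro U a b h x hx
    have hab : a = b := LocallyConstant.congr_fun (f := LocallyConstant.const _ a)
      (g := LocallyConstant.const {y : X // y ∈ Set.univ ∧ y ∈ U.unop} b) h ⟨x, trivial, hx⟩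
    subst hab
    exact ⟨U.unop, 𝟙 _, rfl, hx⟩
  · constructor
    intro U g₀ x hx
    let g : Sect M Set.univ U := g₀
    obtain ⟨V, hV, hxV, e⟩ := exists_const g x trivial hx
    refine ⟨V, homOfLE hV, ⟨g ⟨x, trivial, hx⟩, ?_⟩, hxV⟩
    exact sect_ext (s := LocallyConstant.const {y : X // y ∈ Set.univ ∧ y ∈ V} _)
      (t := rs M subset_rfl hV g) fun y hy hyV => (e y hy hyV (hV hyV)).symm

variable (X M) in
/-- The canonical map from the constant sheaf to the sheaf of locally constant functions. -/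
def constTo : CohTop.const X M ⟶ S M (Set.univ : Set X) :=
  ((sheafificationAdjunction (Opens.grothendieckTopology X) AddCommGrpCat.{u}).homEquiv
    ((Functor.const (Opens X)ᵒᵖ).obj (AddCommGrpCat.of M)) (S M (Set.univ : Set X))).symm (constPre X M)

theorem toSheafify_constTo :
    toSheafify (Opens.grothendieckTopology X) ((Functor.const (Opens X)ᵒᵖ).obj (AddCommGrpCat.of M)) ≫
      (constTo X M).hom = constPre X M := by
  have := ((sheafificationAdjunction (Opens.grothendieckTopology X) AddCommGrpCat.{u}).homEquiv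
    ((Functor.const (Opens X)ᵒᵖ).obj (AddCommGrpCat.of M)) (S M (Set.univ : Set X))).apply_symm_apply
      (constPre X M)
  rw [Adjunction.homEquiv_unit] at this
  exact this

instance isIso_constTo : IsIso (constTo X M) := by
  rw [← GrothendieckTopology.W_sheafToPresheaf_map_iff_isIso]
  apply MorphismProperty.of_precomp (W' := (Opens.grothendieckTopology X).W)
    (Opens.grothendieckTopology X).W
    (toSheafify (Opens.grothendieckTopology X) ((Functor.const (Opens X)ᵒᵖ).obj (AddCommGrpCat.of M)))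
  · exact (Opens.grothendieckTopology X).W_toSheafify _
  · have := toSheafify_constTo (X := X) (M := M)
    change (Opens.grothendieckTopology X).W (toSheafify (Opens.grothendieckTopology X)
      ((Functor.const (Opens X)ᵒᵖ).obj (AddCommGrpCat.of M)) ≫ (constTo X M).hom)
    rw [this]
    exact constPre_W X M

variable (X M) in
/-- The constant sheaf is the sheaf of locally constant functions. -/
def constIso : CohTop.const X M ≅ S M (Set.univ : Set X) := asIso (constTo X M)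

/-- **Vanishing of the cohomology of a constant sheaf** under the extension property `Diff`. -/
theorem subsingleton_H_const [CompactSpace X] [PrespectralSpace X] [QuasiSeparatedSpace X]
    (hD : Diff X M) (q : ℕ) : Subsingleton (CohTop.H (CohTop.const X M) (q + 1)) := by
  have := subsingleton_H hD q Set.univ isClosed_univ
  refine subsingleton_of_forall_eq 0 fun x => ?_
  have h1 : (x : Ext.{u} _ (CohTop.const X M) (q + 1)).comp (Ext.mk₀ (constIso X M).hom)
      (add_zero (q + 1)) = 0 := Subsingleton.elim (α := CohTop.H (S M Set.univ) (q + 1)) _ _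
  have h2 := congrArg (fun y => Ext.comp y (Ext.mk₀ (constIso X M).inv) (add_zero (q + 1))) h1
  rw [Ext.comp_assoc _ _ _ (add_zero (q + 1)) (add_zero 0) (by omega), Ext.mk₀_comp_mk₀,
    Iso.hom_inv_id, Ext.comp_mk₀_id, Ext.zero_comp] at h2
  exact h2

end Groth.Agent.CurvesA.ClosedLC
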