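import Groth.Agent.CurvesA.PatchTensor
import Mathlib.RingTheory.DiscreteValuationRing.Basic
import Mathlib.RingTheory.LocalRing.ResidueField.Basic

set_option autoImplicit false
universe u

namespace Groth.Agent.CurvesA.DvrEmb

open Groth.Agent.CurvesA.PatchOm Groth.Agent.CurvesA.PatchTensor PowerSeries

section ring

variable {k R : Type*} [Field k] [CommRing R] [IsDomain R] [Algebra k R]

/-- data of a retraction `R → k` with kernel `(y)` -/
structure Ret (k R : Type*) [Field k] [CommRing R] [Algebra k R] where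
  /-- the retraction -/
  c : R →ₐ[k] k
  /-- the uniformizer -/
  y : R
  hy0 : y ≠ 0
  cy : c y = 0
  hdiv : ∀ f, c f = 0 → ∃ g, f = y * g

variable (D : Ret k R)

/-- the quotient `(f - c f) / y` -/
noncomputable def qq (f : R) : R := (D.hdiv (f - algebraMap k R (D.c f)) (by
  rw [map_sub, AlgHom.commutes]; exact sub_self _)).choose

theorem y_mul_qq (f : R) : D.y * qq D f = f - algebraMap k R (D.c f) := (D.hdiv (f - algebraMap k R (D.c f)) (by
  rw [map_sub, AlgHom.commutes]; exact sub_self _)).choose_spec.symm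

theorem eq_qq (f : R) : f = algebraMap k R (D.c f) + D.y * qq D f := by
  rw [y_mul_qq]; ring

theorem qq_eq_of (f g : R) (h : f = algebraMap k R (D.c f) + D.y * g) : qq D f = g := by
  have := (eq_qq D f).symm.trans h
  exact mul_left_cancel₀ D.hy0 (add_left_cancel this)

theorem qq_add (f g : R) : qq D (f + g) = qq D f + qq D g := by
  apply qq_eq_of
  conv_lhs => rw [eq_qq D f, eq_qq D g]
  rw [map_add, map_add]
  ring

theorem qq_smul (a : k) (f : R) : qq D (a • f) = a • qq D f := by
  apply qq_eq_of
  conv_lhs => rw [eq_qq D f]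
  rw [map_smul, smul_eq_mul, map_mul, Algebra.smul_def, Algebra.smul_def]
  ring

theorem qq_mul (f g : R) : qq D (f * g) = D.c f • qq D g + qq D f * g := by
  apply qq_eq_of
  conv_lhs => rw [eq_qq D f]
  rw [map_mul, map_mul, Algebra.smul_def]
  have := eq_qq D g
  linear_combination (algebraMap k R (D.c f)) * this

theorem qq_algebraMap (a : k) : qq D (algebraMap k R a) = 0 := by
  apply qq_eq_of
  rw [AlgHom.commutes]
  simp

theorem qq_y : qq D D.y = 1 := by
  apply qq_eq_of
  rw [D.cy]
  simp

theorem qq_y_mul (f : R) : qq D (D.y * f) = f := by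
  apply qq_eq_of
  rw [map_mul, D.cy, zero_mul, map_zero, zero_add]

/-- the expansion in the uniformizer -/
noncomputable def ex (f : R) : PowerSeries k := PowerSeries.mk (fun n => D.c ((qq D)^[n] f))

theorem coeff_ex_zero (f : R) : coeff 0 (ex D f) = D.c f := by rw [ex, coeff_mk]; rfl

theorem coeff_ex_succ (f : R) (n : ℕ) : coeff (n + 1) (ex D f) = coeff n (ex D (qq D f)) := by
  rw [ex, coeff_mk, ex, coeff_mk]; rfl

theorem ex_eq (f : R) : ex D f = C (D.c f) + X * ex D (qq D f) := by
  ext n
  cases n with
  | zero => rw [coeff_ex_zero]; simp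
  | succ n => rw [coeff_ex_succ, map_add, coeff_succ_X_mul, coeff_C, if_neg (Nat.succ_ne_zero n), zero_add]

theorem ex_add (f g : R) : ex D (f + g) = ex D f + ex D g := by
  ext n
  rw [map_add]
  induction n generalizing f g with
  | zero => rw [coeff_ex_zero, coeff_ex_zero, coeff_ex_zero, map_add]
  | succ n ih => rw [coeff_ex_succ, coeff_ex_succ, coeff_ex_succ, qq_add, ih]

theorem ex_smul (a : k) (f : R) : ex D (a • f) = a • ex D f := by
  ext n
  rw [PowerSeries.coeff_smul]
  induction n generalizing f with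
  | zero => rw [coeff_ex_zero, coeff_ex_zero, map_smul]
  | succ n ih => rw [coeff_ex_succ, coeff_ex_succ, qq_smul, ih]

theorem ex_mul (f g : R) : ex D (f * g) = ex D f * ex D g := by
  ext n
  induction n generalizing f g with
  | zero =>
    rw [coeff_ex_zero, map_mul, coeff_zero_eq_constantCoeff_apply, map_mul, ← coeff_zero_eq_constantCoeff_apply,
      ← coeff_zero_eq_constantCoeff_apply, coeff_ex_zero, coeff_ex_zero]
  | succ n ih =>
    rw [coeff_ex_succ, qq_mul, ex_add, map_add, ih, ex_smul, PowerSeries.coeff_smul, ex_eq D f, add_mul,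
      map_add, coeff_C_mul, coeff_ex_succ, mul_assoc, coeff_succ_X_mul]
    rfl

theorem ex_algebraMap (a : k) : ex D (algebraMap k R a) = C a := by
  rw [ex_eq, qq_algebraMap, AlgHom.commutes]
  have : ex D 0 = 0 := by
    have := ex_smul D 0 0
    rwa [zero_smul, zero_smul] at this
  rw [this, mul_zero, add_zero]
  rfl

/-- The expansion homomorphism. -/
noncomputable def exHom : R →ₐ[k] PowerSeries k where
  toFun := ex D
  map_one' := by
    have := ex_algebraMap D 1
    rwa [map_one, map_one] at this
  map_mul' := ex_mul D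
  map_zero' := by
    have := ex_algebraMap D 0
    rwa [map_zero, map_zero] at this
  map_add' := ex_add D
  commutes' := ex_algebraMap D

theorem exHom_y : exHom D D.y = X := by
  change ex D D.y = X
  rw [ex_eq, qq_y, D.cy, map_zero, zero_add]
  have := ex_algebraMap D 1
  rw [map_one, map_one] at this
  rw [this, mul_one]

theorem pow_dvd_iff (f : R) (n : ℕ) : D.y ^ n ∣ f ↔ ∀ i < n, coeff i (exHom D f) = 0 := by
  induction n generalizing f with
  | zero => simp
  | succ n ih =>
    constructor
    · rintro ⟨g, rfl⟩ i hi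
      rw [pow_succ', mul_assoc]
      change coeff i (ex D _) = 0
      rw [ex_eq, qq_y_mul, map_mul, D.cy, zero_mul, map_zero, zero_add]
      cases i with
      | zero => simp
      | succ i =>
        rw [coeff_succ_X_mul]
        exact (ih (D.y ^ n * g)).1 (dvd_mul_right _ _) i (by omega)
    · intro h
      have h0 : D.c f = 0 := by
        have := h 0 (by omega)
        rwa [show exHom D f = ex D f from rfl, coeff_ex_zero] at this
      have h1 : D.y ^ n ∣ qq D f := (ih _).2 (fun i hi => by
        have := h (i + 1) (by omega)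
        rwa [show exHom D f = ex D f from rfl, coeff_ex_succ] at this)
      have h2 := eq_qq D f
      rw [h0, map_zero, zero_add] at h2
      rw [h2, pow_succ']
      exact mul_dvd_mul_left _ h1

theorem exHom_injective (hH : ∀ f : R, (∀ n, D.y ^ n ∣ f) → f = 0) : Function.Injective (exHom D) := by
  rw [injective_iff_map_eq_zero]
  intro f hf
  exact hH f (fun n => (pow_dvd_iff D f n).2 (fun i _ => by rw [hf, map_zero]))

end ring

section frac

variable {k : Type u} {R : Type*} {K : Type*} [Field k] [CommRing R] [IsDomain R] [Algebra k R] [Field K]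
  [Algebra R K] [IsFractionRing R K] [Algebra k K] [IsScalarTower k R K]

variable (D : Ret k R) (hinj : Function.Injective (exHom D))

/-- `Frac R → k((u))` -/
noncomputable def fracHom (hinj : Function.Injective (exHom D)) : K →ₐ[k] Om k :=
  let g : K →+* Om k := IsFractionRing.lift (A := R) (g := ((ofPS k).comp (exHom D) : R →+* Om k))
    (by
      intro a b h
      exact hinj (ofPS_injective h))
  { g with
    commutes' := fun a => by
      have h : g (algebraMap R K (algebraMap k R a)) = (ofPS k) (exHom D (algebraMap k R a)) :=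
        IsFractionRing.lift_algebraMap _ _
      rw [← IsScalarTower.algebraMap_apply, AlgHom.commutes, AlgHom.commutes] at h
      exact h }

theorem fracHom_algebraMap (f : R) : fracHom (K := K) D hinj (algebraMap R K f) = ofPS k (exHom D f) :=
  IsFractionRing.lift_algebraMap (A := R) (K := K) (g := ((ofPS k).comp (exHom D) : R →+* Om k))
    (fun _ _ h => hinj (ofPS_injective h)) f

theorem fracHom_y : fracHom (K := K) D hinj (algebraMap R K D.y) = uu k := by
  rw [fracHom_algebraMap, exHom_y, ofPS_X]

theorem fracHom_injective : Function.Injective (fracHom (K := K) D hinj) :=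
  RingHom.injective (fracHom (K := K) D hinj : K →+* Om k)

theorem ofPS_mem_iff (g : PowerSeries k) (n : ℕ) : ofPS k g ∈ ordGE k n ↔ ∀ i < n, coeff i g = 0 := by
  rw [mem_ordGE]
  constructor
  · intro h i hi
    rw [← cf_ofPS_nat]
    exact h i (by exact_mod_cast hi)
  · intro h i hi
    rcases lt_or_ge i 0 with hi' | hi'
    · exact cf_ofPS_neg g i hi'
    · obtain ⟨j, rfl⟩ := Int.eq_ofNat_of_zero_le hi'
      rw [cf_ofPS_nat]
      exact h j (by exact_mod_cast hi)

theorem fracHom_mem_iff (f : R) (n : ℕ) :
    fracHom (K := K) D hinj (algebraMap R K f) ∈ ordGE k n ↔ D.y ^ n ∣ f := by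
  rw [fracHom_algebraMap, ofPS_mem_iff, pow_dvd_iff]

theorem uu_pow_mul_mem_iff (n : ℕ) (m : ℤ) (f : Om k) : uu k ^ n * f ∈ ordGE k (m + n) ↔ f ∈ ordGE k m := by
  rw [mem_ordGE, mem_ordGE]
  constructor
  · intro h i hi
    have := h (i + n) (by omega)
    rw [cf_uu_pow_mul] at this
    rwa [add_sub_cancel_right] at this
  · intro h i hi
    rw [cf_uu_pow_mul]
    exact h _ (by omega)

theorem y_zpow_mul_mem_iff (n : ℤ) (m : ℤ) (f : K) :
    fracHom D hinj ((algebraMap R K D.y) ^ n * f) ∈ ordGE k (m + n) ↔ fracHom D hinj f ∈ ordGE k m := by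
  have hy : algebraMap R K D.y ≠ 0 := fun h => D.hy0 ((IsFractionRing.injective R K) (by rw [h, map_zero]))
  obtain ⟨j, rfl | rfl⟩ := n.eq_nat_or_neg
  · rw [zpow_natCast, map_mul, map_pow, fracHom_y, uu_pow_mul_mem_iff]
  · have := uu_pow_mul_mem_iff (k := k) j (m + -(j : ℤ)) (fracHom D hinj ((algebraMap R K D.y) ^ (-(j : ℤ)) * f))
    rw [← this, ← fracHom_y (K := K) D hinj, ← map_pow, ← map_mul, ← mul_assoc, ← zpow_natCast, ← zpow_add₀ hy]
    simp

/-- the valuation is the order of the Laurent series -/
theorem mem_ordGE_zero_iff (hm : ∀ f : R, f ≠ 0 → ∃ (n : ℕ) (e : Rˣ), f = e * D.y ^ n) (f : K) :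
    fracHom D hinj f ∈ ordGE k 0 ↔ f ∈ (algebraMap R K).range := by
  constructor
  · intro h
    by_cases hf : f = 0
    · rw [hf]; exact zero_mem _
    obtain ⟨a, b, hb, rfl⟩ := IsFractionRing.div_surjective (A := R) f
    have ha : a ≠ 0 := by rintro rfl; simp at hf
    have hb0 : b ≠ 0 := nonZeroDivisors.ne_zero hb
    obtain ⟨n, e, rfl⟩ := hm a ha
    obtain ⟨n', e', rfl⟩ := hm b hb0
    have hy : algebraMap R K D.y ≠ 0 := fun h => D.hy0 ((IsFractionRing.injective R K) (by rw [h, map_zero]))
    have he : algebraMap R K (e' : R) ≠ 0 := (e'.isUnit.map (algebraMap R K)).ne_zero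
    -- a / b ∈ R iff n' ≤ n
    have h1 := (y_zpow_mul_mem_iff (K := K) D hinj n' 0 _).2 h
    have h2 : (algebraMap R K D.y) ^ (n' : ℤ) * (algebraMap R K (e * D.y ^ n) / algebraMap R K (e' * D.y ^ n')) =
        algebraMap R K (↑(e * e'⁻¹) * D.y ^ n) := by
      have h3 : algebraMap R K ((e'⁻¹ : Rˣ) : R) * algebraMap R K (e' : R) = 1 := by
        rw [← map_mul, Units.inv_mul, map_one]
      rw [zpow_natCast, map_mul, map_mul, map_mul, Units.val_mul, map_mul, map_pow, map_pow]
      field_simp
      linear_combination (-1 : K) * h3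
    rw [h2, zero_add, fracHom_mem_iff] at h1
    have h4 : D.y ^ n' ∣ D.y ^ n := by
      refine (IsUnit.dvd_mul_left (Units.isUnit (e * e'⁻¹))).1 h1
    have hyn : ¬ IsUnit D.y := by
      intro hu
      have := hu.map D.c
      rw [D.cy] at this
      exact not_isUnit_zero this
    have h5 : n' ≤ n := (pow_dvd_pow_iff D.hy0 hyn).1 h4
    obtain ⟨l, rfl⟩ := Nat.exists_eq_add_of_le h5
    refine ⟨↑(e * e'⁻¹) * D.y ^ l, ?_⟩
    rw [eq_div_iff (by
      rw [map_mul, map_pow]
      exact mul_ne_zero he (pow_ne_zero _ hy)), ← map_mul]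
    congr 1
    have h3 : ((e'⁻¹ : Rˣ) : R) * (e' : R) = 1 := Units.inv_mul _
    rw [Units.val_mul, pow_add]
    linear_combination (e : R) * D.y ^ l * D.y ^ n' * h3
  · rintro ⟨g, rfl⟩
    have := (fracHom_mem_iff (K := K) D hinj g 0).2 (by simp)
    simpa using this

end frac

/-- The data for a discrete valuation ring with residue field `k`. -/
noncomputable def retOfDVR (k R : Type*) [Field k] [CommRing R] [IsDomain R] [IsDiscreteValuationRing R] [Algebra k R]
    (hk : Function.Bijective (algebraMap k (IsLocalRing.ResidueField R))) (y : R) (hy : Irreducible y) : Ret k R where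
  c := ((AlgEquiv.ofBijective (Algebra.ofId k (IsLocalRing.ResidueField R)) hk).symm : _ →ₐ[k] k).comp
    (IsScalarTower.toAlgHom k R (IsLocalRing.ResidueField R))
  y := y
  hy0 := hy.ne_zero
  cy := by
    change (AlgEquiv.ofBijective (Algebra.ofId k (IsLocalRing.ResidueField R)) hk).symm
      (algebraMap R (IsLocalRing.ResidueField R) y) = 0
    rw [IsLocalRing.ResidueField.algebraMap_eq, (IsLocalRing.residue_eq_zero_iff y).2 ?_, map_zero]
    rw [(IsDiscreteValuationRing.irreducible_iff_uniformizer y).1 hy]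
    exact Ideal.mem_span_singleton_self y
  hdiv f hf := by
    change (AlgEquiv.ofBijective (Algebra.ofId k (IsLocalRing.ResidueField R)) hk).symm
      (algebraMap R (IsLocalRing.ResidueField R) f) = 0 at hf
    rw [map_eq_zero_iff _ (AlgEquiv.injective _), IsLocalRing.ResidueField.algebraMap_eq,
      IsLocalRing.residue_eq_zero_iff, (IsDiscreteValuationRing.irreducible_iff_uniformizer y).1 hy,
      Ideal.mem_span_singleton] at hf
    exact hf

theorem retOfDVR_injective (k R : Type*) [Field k] [CommRing R] [IsDomain R] [IsDiscreteValuationRing R]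
    [Algebra k R] (hk : Function.Bijective (algebraMap k (IsLocalRing.ResidueField R))) (y : R) (hy : Irreducible y) :
    Function.Injective (exHom (retOfDVR k R hk y hy)) := by
  apply exHom_injective
  intro f hf
  by_contra h0
  obtain ⟨n, e, rfl⟩ := IsDiscreteValuationRing.eq_unit_mul_pow_irreducible h0 hy
  have h1 : y ^ (n + 1) ∣ e * y ^ n := hf (n + 1)
  have h2 : y ^ (n + 1) ∣ y ^ n := (IsUnit.dvd_mul_left e.isUnit).1 h1
  have := (pow_dvd_pow_iff hy.ne_zero hy.not_isUnit).1 h2
  omega

/-- Embedding of the fraction field of a DVR with residue field `k` in `k((u))`, the valuation being the order. -/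
theorem exists_emb (k : Type u) (R K : Type*) [Field k] [CommRing R] [IsDomain R] [IsDiscreteValuationRing R]
    [Algebra k R] [Field K] [Algebra R K] [IsFractionRing R K] [Algebra k K] [IsScalarTower k R K]
    (hk : Function.Bijective (algebraMap k (IsLocalRing.ResidueField R))) (y : R) (hy : Irreducible y) :
    ∃ E : K →ₐ[k] Om k, Function.Injective E ∧ E (algebraMap R K y) = uu k ∧
      (∀ f : K, E f ∈ ordGE k 0 ↔ f ∈ (algebraMap R K).range) ∧
      (∀ (f : K) (n : ℤ), E f ∈ ordGE k n ↔ (algebraMap R K y) ^ (-n) * f ∈ (algebraMap R K).range) := by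
  have h0 := mem_ordGE_zero_iff (K := K) (retOfDVR k R hk y hy) (retOfDVR_injective k R hk y hy)
    (fun f hf => IsDiscreteValuationRing.eq_unit_mul_pow_irreducible hf hy)
  refine ⟨fracHom (retOfDVR k R hk y hy) (retOfDVR_injective k R hk y hy), fracHom_injective _ _,
    fracHom_y _ _, h0, fun f n => ?_⟩
  rw [← h0, ← y_zpow_mul_mem_iff (K := K) (retOfDVR k R hk y hy) (retOfDVR_injective k R hk y hy) (-n) n f,
    add_neg_cancel]
  rfl

end Groth.Agent.CurvesA.DvrEmb
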