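import Mathlib.RingTheory.SimpleModule.WedderburnArtin
import Mathlib.RingTheory.SimpleModule.IsAlgClosed
import Mathlib.LinearAlgebra.Matrix.ToLin
import Mathlib.LinearAlgebra.Dimension.Constructions
import Mathlib.LinearAlgebra.FiniteDimensional.Basic

set_option autoImplicit false

/-!
# Endomorphism rings of modules over finite dimensional simple algebras

Main result: for a finite dimensional simple `k`-algebra `R` and a nonzero finitely generated
`R`-module `M`, the ring `End_R M` is simple and `(dim M)^2 = dim R * dim (End_R M)`.
-/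

namespace Groth.Agent.CurvesA.EndDim

open Module

universe u v w w'

/-- Two simple modules over a simple artinian ring are isomorphic. -/
theorem nonempty_linearEquiv_of_simple (R : Type v) [Ring R] [IsSimpleRing R] [IsArtinianRing R]
    (S : Type w) [AddCommGroup S] [Module R S] [IsSimpleModule R S]
    (T : Type w') [AddCommGroup T] [Module R T] [IsSimpleModule R T] :
    Nonempty (S ≃ₗ[R] T) := by
  have h := IsSimpleRing.isIsotypic R (S × T)
  have e1 := LinearEquiv.ofInjective (LinearMap.inl R S T) LinearMap.inl_injective
  have e2 := LinearEquiv.ofInjective (LinearMap.inr R S T) LinearMap.inr_injective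
  have : IsSimpleModule R (LinearMap.range (LinearMap.inl R S T)) := .congr e1.symm
  have : IsSimpleModule R (LinearMap.range (LinearMap.inr R S T)) := .congr e2.symm
  obtain ⟨e⟩ := h (LinearMap.range (LinearMap.inr R S T)) (LinearMap.range (LinearMap.inl R S T))
  exact ⟨e1.trans (e.trans e2.symm)⟩

/-- Every nonzero finitely generated module over a simple artinian ring is `S ^ n`, `S` simple. -/
theorem exists_linearEquiv_fun (R : Type v) [Ring R] [IsSimpleRing R] [IsArtinianRing R]
    (S : Type w) [AddCommGroup S] [Module R S] [IsSimpleModule R S]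
    (M : Type w') [AddCommGroup M] [Module R M] [Module.Finite R M] [Nontrivial M] :
    ∃ (n : ℕ) (_ : NeZero n), Nonempty (M ≃ₗ[R] Fin n → S) := by
  obtain ⟨n, hn, T, hT, ⟨e⟩⟩ := (IsSimpleRing.isIsotypic R M).linearEquiv_fun
  obtain ⟨f⟩ := nonempty_linearEquiv_of_simple R T S
  exact ⟨n, hn, ⟨e.trans (.piCongrRight fun _ ↦ f)⟩⟩

variable (k : Type u) [Field k] (R : Type v) [Ring R] [Algebra k R] [IsSimpleRing R]
  [FiniteDimensional k R]

include k in
theorem exists_simple :
    ∃ (n : ℕ) (_ : NeZero n) (S : Ideal R) (_ : IsSimpleModule R S),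
      Nonempty (R ≃ₗ[R] Fin n → S) := by
  have := IsArtinianRing.of_finite k R
  obtain ⟨n, hn, S, hS, e⟩ := (IsSimpleRing.isIsotypic R R).linearEquiv_fun
  exact ⟨n, hn, S, hS, e⟩

theorem finrank_sq_and_isSimpleRing (M : Type w) [AddCommGroup M] [Module k M] [Module R M]
    [IsScalarTower k R M] [Module.Finite R M] [Nontrivial M] :
    finrank k M ^ 2 = finrank k R * finrank k (Module.End R M) ∧
      IsSimpleRing (Module.End R M) ∧ FiniteDimensional k (Module.End R M) := by
  classical
  have := IsArtinianRing.of_finite k R
  obtain ⟨n, hn, S, hS, ⟨e⟩⟩ := exists_simple k R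
  obtain ⟨m, hm, ⟨f⟩⟩ := exists_linearEquiv_fun R S M
  have : FiniteDimensional k S := Module.Finite.of_injective
    ((Submodule.subtype S).restrictScalars k) S.subtype_injective
  have hEnd : FiniteDimensional k (Module.End R S) := by
    let φ : Module.End R S →ₗ[k] Module.End k S :=
      { toFun := fun f => f.restrictScalars k, map_add' := fun _ _ => rfl,
        map_smul' := fun _ _ => rfl }
    refine Module.Finite.of_injective φ ?_
    intro f g hfg
    ext x
    exact congrArg Subtype.val (LinearMap.congr_fun hfg x)
  have h1 : finrank k R = n * finrank k S := by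
    rw [(e.restrictScalars k).finrank_eq, Module.finrank_pi_fintype]
    simp
  have h2 : finrank k R = n * n * finrank k (Module.End R S) := by
    have e1 : (Module.End R R) ≃ₐ[k] Matrix (Fin n) (Fin n) (Module.End R S) :=
      (e.conjAlgEquiv k).trans (endVecAlgEquivMatrixEnd ..)
    have e2 : finrank k (Module.End R R) = finrank k R := by
      have := (AlgEquiv.moduleEndSelf (A := R) k).toLinearEquiv.finrank_eq
      rw [← this]
      exact (MulOpposite.opLinearEquiv k).finrank_eq.symm
    rw [← e2, e1.toLinearEquiv.finrank_eq, Module.finrank_matrix]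
    simp
  have h3 : finrank k M = m * finrank k S := by
    rw [(f.restrictScalars k).finrank_eq, Module.finrank_pi_fintype]
    simp
  have e4 : (Module.End R M) ≃ₐ[k] Matrix (Fin m) (Fin m) (Module.End R S) :=
      (f.conjAlgEquiv k).trans (endVecAlgEquivMatrixEnd ..)
  have h4 : finrank k (Module.End R M) = m * m * finrank k (Module.End R S) := by
    rw [e4.toLinearEquiv.finrank_eq, Module.finrank_matrix]
    simp
  refine ⟨?_, ?_, ?_⟩
  · have hn' : 0 < n := Nat.pos_of_ne_zero hn.out
    have h5 : finrank k S = n * finrank k (Module.End R S) := by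
      have : n * finrank k S = n * (n * finrank k (Module.End R S)) := by
        rw [← h1, h2, mul_assoc]
      exact Nat.eq_of_mul_eq_mul_left hn' this
    rw [h3, h4, h2, h5]
    ring
  · exact IsSimpleRing.of_ringEquiv e4.symm.toRingEquiv inferInstance
  · exact Module.Finite.equiv e4.symm.toLinearEquiv

end Groth.Agent.CurvesA.EndDim
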