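import Mathlib.RingTheory.Finiteness.Descent
import Mathlib.RingTheory.Flat.FaithfullyFlat.Algebra
import Mathlib.RingTheory.LocalRing.Module
import Mathlib.RingTheory.Ideal.Over
import Mathlib.LinearAlgebra.Dimension.Constructions
import Mathlib.RingTheory.IsTensorProduct

/-!
# Descent of free modules of rank one along faithfully flat maps out of semilocal rings
-/

set_option autoImplicit false

universe u v w

open TensorProduct

namespace Groth.Agent.CurvesA.FFGen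

variable (A : Type u) (B : Type v) [CommRing A] [CommRing B] [Algebra A B]
  (M : Type w) [AddCommGroup M] [Module A M]

theorem finrank_fibre_eq_one [Module.FaithfullyFlat A B] (e : (B ⊗[A] M) ≃ₗ[B] B) (P : MaximalSpectrum A) :
    Module.finrank (A ⧸ P.asIdeal) ((A ⧸ P.asIdeal) ⊗[A] M) = 1 := by
  obtain ⟨Q, hQ, hQP⟩ := Ideal.exists_isPrime_liesOver_of_faithfullyFlat (A := A) (B := B) P.asIdeal
  obtain ⟨Q', hQ', hle⟩ := Q.exists_le_maximal hQ.ne_top
  have hover : Q'.comap (algebraMap A B) = P.asIdeal := by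
    refine (P.isMaximal.eq_of_le ?_ ?_).symm
    · exact (hQ'.isPrime.comap (algebraMap A B)).ne_top
    · rw [hQP.over]
      exact Ideal.comap_mono hle
  have hl : Q'.LiesOver P.asIdeal := ⟨hover.symm⟩
  let i1 : Field (A ⧸ P.asIdeal) := Ideal.Quotient.field P.asIdeal
  let i2 : Field (B ⧸ Q') := Ideal.Quotient.field Q'
  rw [← Module.finrank_baseChange (R := B ⧸ Q') (S := A ⧸ P.asIdeal)]
  have e1 : ((B ⧸ Q') ⊗[A ⧸ P.asIdeal] ((A ⧸ P.asIdeal) ⊗[A] M)) ≃ₗ[B ⧸ Q'] ((B ⧸ Q') ⊗[A] M) :=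
    AlgebraTensorModule.cancelBaseChange A (A ⧸ P.asIdeal) (B ⧸ Q') (B ⧸ Q') M
  have e2 : ((B ⧸ Q') ⊗[B] (B ⊗[A] M)) ≃ₗ[B ⧸ Q'] ((B ⧸ Q') ⊗[A] M) :=
    AlgebraTensorModule.cancelBaseChange A B (B ⧸ Q') (B ⧸ Q') M
  have e3 : ((B ⧸ Q') ⊗[B] (B ⊗[A] M)) ≃ₗ[B ⧸ Q'] ((B ⧸ Q') ⊗[B] B) :=
    AlgebraTensorModule.congr (LinearEquiv.refl _ _) e
  have e4 : ((B ⧸ Q') ⊗[B] B) ≃ₗ[B ⧸ Q'] (B ⧸ Q') := AlgebraTensorModule.rid B (B ⧸ Q') (B ⧸ Q')
  rw [(e1.trans (e2.symm.trans (e3.trans e4))).finrank_eq, Module.finrank_self]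

theorem exists_bijective_smul [Finite (MaximalSpectrum A)] [Module.FaithfullyFlat A B]
    (e : (B ⊗[A] M) ≃ₗ[B] B) : ∃ s : M, Function.Bijective (fun a : A => a • s) := by
  have h1 : Module.Finite B (B ⊗[A] M) := Module.Finite.equiv e.symm
  have h2 : Module.Finite A M := Module.Finite.of_finite_tensorProduct_of_faithfullyFlat B
  have h3 : Module.Flat B (B ⊗[A] M) := Module.Flat.of_linearEquiv e
  have h4 : Module.Flat A M := Module.Flat.of_flat_tensorProduct A M B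
  obtain ⟨b⟩ := Module.nonempty_basis_of_flat_of_finrank_eq A M 1
    (finrank_fibre_eq_one A B M e)
  refine ⟨b 0, ?_⟩
  constructor
  · intro x y hxy
    have := congrArg (fun m => b.repr m 0) hxy
    simpa using this
  · intro m
    refine ⟨b.repr m 0, ?_⟩
    have := b.sum_repr m
    simpa using this

end Groth.Agent.CurvesA.FFGen
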