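import Groth.Agent.CurvesA.PushBC
import Groth.Agent.VarietyB.PullSec
import Groth.Agent.Fdesc.LocGen
import Mathlib.AlgebraicGeometry.Morphisms.Flat

/-!
# Flat base change for global sections of quasi-coherent modules
-/

set_option autoImplicit false
universe u
open CategoryTheory CategoryTheory.Limits AlgebraicGeometry Opposite TopologicalSpace TensorProduct

namespace Groth.Agent.CurvesA.FlatH0

open Groth.Agent.VarietyB.PullSec Groth.Agent.Fdesc.LocGen GlueBC PushBC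

variable {X X' S S' : Scheme.{u}} (p : X ⟶ S) (q : X' ⟶ S') (f : S' ⟶ S) (g : X' ⟶ X)

theorem le_pt (p : X ⟶ S) (U : X.Opens) : U ≤ p ⁻¹ᵁ ⊤ := le_top

theorem appLE_top_top (f : S' ⟶ S) : f.appLE ⊤ ⊤ (le_pt f ⊤) = f.appTop := f.appLE_eq_app

theorem appLE_comm (w : g ≫ p = q ≫ f) {U : X.Opens} {V : X'.Opens} (e : V ≤ g ⁻¹ᵁ U) :
    p.appLE ⊤ U (le_pt p U) ≫ g.appLE U V e = f.appTop ≫ q.appLE ⊤ V (le_pt q V) := by
  rw [← appLE_top_top]
  refine (Scheme.Hom.appLE_comp_appLE g p ⊤ U V (le_pt p U) e).trans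
    (Eq.trans ?_ (Scheme.Hom.appLE_comp_appLE q f ⊤ ⊤ V (le_pt f ⊤) (le_pt q V)).symm)
  simp only [w]

/-- functions on the base act on sections of modules. -/
noncomputable abbrev modX (M : X.Modules) (U : X.Opens) : Module Γ(S, ⊤) Γ(M, U) :=
  Module.compHom _ (p.appLE ⊤ U (le_pt p U)).hom

/-- base algebra -/
noncomputable abbrev baseAlg : Algebra Γ(S, ⊤) Γ(S', ⊤) := f.appTop.hom.toAlgebra

theorem modX_smul (M : X.Modules) (U : X.Opens) (a : Γ(S, ⊤)) (m : Γ(M, U)) :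
    letI := modX p M U
    a • m = (p.appLE ⊤ U (le_pt p U) a : Γ(X, U)) • m := rfl

/-- The module over the small base ring. -/
noncomputable abbrev modX' (N : X'.Modules) (V : X'.Opens) : Module Γ(S, ⊤) Γ(N, V) :=
  letI := modX q N V
  Module.compHom _ (f.appTop).hom

theorem tower' (N : X'.Modules) (V : X'.Opens) :
    letI := baseAlg f
    letI := modX q N V
    letI := modX' q f N V
    IsScalarTower Γ(S, ⊤) Γ(S', ⊤) Γ(N, V) := by
  letI := baseAlg f
  letI := modX q N V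
  letI := modX' q f N V
  exact ⟨fun a b c => by rw [Algebra.smul_def, mul_smul]; rfl⟩

theorem sec_base_smul (w : g ≫ p = q ≫ f) (M : X.Modules) {U : X.Opens} {V : X'.Opens} (e : V ≤ g ⁻¹ᵁ U)
    (a : Γ(S, ⊤)) (m : Γ(M, U)) :
    sec g M e ((p.appLE ⊤ U (le_pt p U) a : Γ(X, U)) • m) =
      (q.appLE ⊤ V (le_pt q V) (f.appTop a) : Γ(X', V)) • sec g M e m := by
  rw [sec_smul]
  congr 1
  exact congr($(appLE_comm p q f g w e) a)

/-- `sec` as a linear map over the base ring. -/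
noncomputable def secB (w : g ≫ p = q ≫ f) (M : X.Modules) {U : X.Opens} {V : X'.Opens} (e : V ≤ g ⁻¹ᵁ U) :
    letI := modX p M U
    letI := modX' q f ((Scheme.Modules.pullback g).obj M) V
    Γ(M, U) →ₗ[Γ(S, ⊤)] Γ((Scheme.Modules.pullback g).obj M, V) :=
  letI := modX p M U
  letI := modX' q f ((Scheme.Modules.pullback g).obj M) V
  { toFun := sec g M e
    map_add' := map_add _
    map_smul' := fun a m => sec_base_smul p q f g w M e a m }

/-- `sec` is a base change along `Γ(S) → Γ(S')` over affine opens. -/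
theorem isBaseChange_affine (H : IsPullback g q p f) [IsAffine S] [IsAffine S'] (M : X.Modules)
    (hM : Coh.IsQCoh M) {U : X.Opens} (hU : IsAffineOpen U) {V : X'.Opens} (hV : V = g ⁻¹ᵁ U) :
    letI := baseAlg f
    letI := modX p M U
    letI := modX q ((Scheme.Modules.pullback g).obj M) V
    letI := modX' q f ((Scheme.Modules.pullback g).obj M) V
    haveI := tower' q f ((Scheme.Modules.pullback g).obj M) V
    IsBaseChange Γ(S', ⊤) (secB p q f g H.w M hV.le) := by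
  letI i0 := baseAlg f
  letI i1 := modX p M U
  letI i2 := modX q ((Scheme.Modules.pullback g).obj M) V
  letI i3 := modX' q f ((Scheme.Modules.pullback g).obj M) V
  haveI i4 := tower' q f ((Scheme.Modules.pullback g).obj M) V
  have : IsAffineHom f := inferInstance
  have : IsAffineHom g := MorphismProperty.of_isPullback H.flip ‹_›
  have hV' : IsAffineOpen V := hV ▸ hU.preimage g
  letI j1 : Algebra Γ(X, U) Γ(X', V) := (g.appLE U V hV.le).hom.toAlgebra
  letI j2 := secModule g M hV.le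
  haveI j3 : IsScalarTower Γ(X, U) Γ(X', V) Γ((Scheme.Modules.pullback g).obj M, V) :=
      ⟨fun a b c => by rw [Algebra.smul_def, mul_smul]; rfl⟩
  have h1 := isBaseChange_secₗ g M hV.le hM hU hV'
  letI k1 : Algebra Γ(S, ⊤) Γ(X, U) := (p.appLE ⊤ U (le_pt p U)).hom.toAlgebra
  letI k2 : Algebra Γ(S', ⊤) Γ(X', V) := (q.appLE ⊤ V (le_pt q V)).hom.toAlgebra
  letI k3 : Algebra Γ(S, ⊤) Γ(X', V) :=
    ((q.appLE ⊤ V (le_pt q V)).hom.comp (f.appTop).hom).toAlgebra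
  haveI t1 : IsScalarTower Γ(S, ⊤) Γ(S', ⊤) Γ(X', V) := IsScalarTower.of_algebraMap_eq (fun _ => rfl)
  have hcomm := appLE_comm p q f g H.w hV.le
  haveI t2 : IsScalarTower Γ(S, ⊤) Γ(X, U) Γ(X', V) :=
    IsScalarTower.of_algebraMap_eq (fun a => congr($hcomm.symm a))
  have hUY : V = g ⁻¹ᵁ U ⊓ q ⁻¹ᵁ ⊤ := by simp [hV]
  have h2 := isIso_pushoutSection_of_isAffineOpen H (US := ⊤) (UT := ⊤) (UX := U) (UY := V)
    (le_pt f ⊤) (le_pt p U) hUY (isAffineOpen_top S) (isAffineOpen_top S') hU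
  have h3 := (isIso_pushoutSection_iff H (US := ⊤) (UT := ⊤) (UX := U) (UY := V)
    (le_pt f ⊤) (le_pt p U) hUY).mp h2
  have h4 : Algebra.IsPushout Γ(S, ⊤) Γ(S', ⊤) Γ(X, U) Γ(X', V) := by
    refine CommRingCat.isPushout_iff_isPushout.mp ?_
    have h5 := h3.flip
    rw [appLE_top_top] at h5
    exact h5
  haveI s1 : IsScalarTower Γ(S, ⊤) Γ(X, U) Γ(M, U) :=
    ⟨fun a b c => by rw [Algebra.smul_def, mul_smul]; rfl⟩
  haveI s2 : IsScalarTower Γ(S', ⊤) Γ(X', V) Γ((Scheme.Modules.pullback g).obj M, V) :=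
    ⟨fun a b c => by rw [Algebra.smul_def, mul_smul]; rfl⟩
  haveI s3 : IsScalarTower Γ(S, ⊤) Γ(X', V) Γ((Scheme.Modules.pullback g).obj M, V) :=
    ⟨fun a b c => by rw [Algebra.smul_def, mul_smul]; rfl⟩
  haveI s4 : IsScalarTower Γ(S, ⊤) Γ(X, U) Γ((Scheme.Modules.pullback g).obj M, V) :=
    ⟨fun a b c => by
      rw [Algebra.smul_def, mul_smul]
      exact congrArg (fun t : Γ(X', V) => t • (b • c)) (congr($hcomm a))⟩
  exact (isBaseChange_iff_of_isPushout Γ(S, ⊤) Γ(S', ⊤) Γ(X, U) Γ(X', V) (secₗ g M hV.le)).mpr h1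

/-- restriction of sections, linear over the base ring. -/
noncomputable def resB (M : X.Modules) {U V : X.Opens} (h : V ≤ U) :
    letI := modX p M U
    letI := modX p M V
    Γ(M, U) →ₗ[Γ(S, ⊤)] Γ(M, V) :=
  letI := modX p M U
  letI := modX p M V
  { toFun := res M h
    map_add' := map_add _
    map_smul' := fun a m => by
      change res M h ((p.appLE ⊤ U (le_pt p U) a : Γ(X, U)) • m) =
        (p.appLE ⊤ V (le_pt p V) a : Γ(X, V)) • res M h m
      rw [res_smul]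
      congr 1
      exact congr($(Scheme.Hom.appLE_map p (le_pt p U) (homOfLE h).op) a) }

theorem sec_res' (w : g ≫ p = q ≫ f) (M : X.Modules) {U U' : X.Opens} {V V' : X'.Opens} (e : V ≤ g ⁻¹ᵁ U)
    (e' : V' ≤ g ⁻¹ᵁ U') (hU : U' ≤ U) (hV : V' ≤ V) (s : Γ(M, U)) :
    resB q ((Scheme.Modules.pullback g).obj M) hV (secB p q f g w M e s) =
      secB p q f g w M e' (resB p M hU s) :=
  sec_res g M e e' hU hV s

/-- `sec` is injective after base change over quasi-compact opens. -/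
theorem injective_of_isCompact (H : IsPullback g q p f) [IsAffine S] [IsAffine S'] [Flat f] (M : X.Modules)
    (hM : Coh.IsQCoh M) {W : X.Opens} (hW : IsCompact (W : Set X)) {V : X'.Opens} (hV : V = g ⁻¹ᵁ W) :
    letI := baseAlg f
    letI : ∀ U : X.Opens, Module Γ(S, ⊤) Γ(M, U) := fun U => modX p M U
    letI : ∀ U : X'.Opens, Module Γ(S', ⊤) Γ((Scheme.Modules.pullback g).obj M, U) :=
      fun U => modX q ((Scheme.Modules.pullback g).obj M) U
    letI : ∀ U : X'.Opens, Module Γ(S, ⊤) Γ((Scheme.Modules.pullback g).obj M, U) :=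
      fun U => modX' q f ((Scheme.Modules.pullback g).obj M) U
    haveI : ∀ U : X'.Opens, IsScalarTower Γ(S, ⊤) Γ(S', ⊤) Γ((Scheme.Modules.pullback g).obj M, U) :=
      fun U => tower' q f ((Scheme.Modules.pullback g).obj M) U
    Function.Injective (lft (S := Γ(S', ⊤)) (secB p q f g H.w M hV.le)) := by
  letI i0 := baseAlg f
  letI i1 : ∀ U : X.Opens, Module Γ(S, ⊤) Γ(M, U) := fun U => modX p M U
  letI i2 : ∀ U : X'.Opens, Module Γ(S', ⊤) Γ((Scheme.Modules.pullback g).obj M, U) :=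
    fun U => modX q ((Scheme.Modules.pullback g).obj M) U
  letI i3 : ∀ U : X'.Opens, Module Γ(S, ⊤) Γ((Scheme.Modules.pullback g).obj M, U) :=
    fun U => modX' q f ((Scheme.Modules.pullback g).obj M) U
  haveI i4 : ∀ U : X'.Opens, IsScalarTower Γ(S, ⊤) Γ(S', ⊤) Γ((Scheme.Modules.pullback g).obj M, U) :=
    fun U => tower' q f ((Scheme.Modules.pullback g).obj M) U
  haveI : Module.Flat Γ(S, ⊤) Γ(S', ⊤) := f.flat_appTop
  obtain ⟨I, hI, e⟩ := isCompact_iff_finite_and_eq_biUnion_affineOpens.mp hW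
  have hIW (i : I) : i.1.1 ≤ W := by rw [e]; exact le_iSup₂_of_le i.1 i.2 le_rfl
  have hcov : W ≤ ⨆ i : I, i.1.1 := by
    rw [e]; exact iSup₂_le (fun i hi => le_iSup (fun i : I => i.1.1) ⟨i, hi⟩)
  have := hI.to_subtype
  have hIV (i : I) : g ⁻¹ᵁ i.1.1 ≤ V := by rw [hV]; exact g.preimage_mono (hIW i)
  refine injective_of_injective (S := Γ(S', ⊤)) (N := ∀ i : I, Γ(M, i.1.1))
    (N' := ∀ i : I, Γ((Scheme.Modules.pullback g).obj M, g ⁻¹ᵁ i.1.1))
    (LinearMap.pi fun i => resB p M (hIW i)) ?_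
    (LinearMap.pi fun i => resB q ((Scheme.Modules.pullback g).obj M) (hIV i))
    (secB p q f g H.w M hV.le)
    (LinearMap.pi (fun i : I => (secB p q f g H.w M (le_refl (g ⁻¹ᵁ i.1.1))).comp (LinearMap.proj i))) ?_
    (injective_lft_pi _ (fun i => ((isBaseChange_iff _).mp
      (isBaseChange_affine p q f g H M hM i.1.2 rfl)).1))
  · intro a b hab
    exact res_ext M (fun i : I => i.1.1) hIW hcov (fun i => congrFun hab i)
  · intro m
    funext i
    exact sec_res' p q f g H.w M hV.le le_rfl (hIW i) (hIV i) m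

/-- Flat base change for sections of a quasi-coherent module over a quasi-compact quasi-separated open. -/
theorem isBaseChange_of_qcqs (H : IsPullback g q p f) [IsAffine S] [IsAffine S'] [Flat f] (M : X.Modules)
    (hM : Coh.IsQCoh M) {W : X.Opens} (hW : IsCompact (W : Set X)) (hW' : IsQuasiSeparated (W : Set X))
    {V : X'.Opens} (hV : V = g ⁻¹ᵁ W) :
    letI := baseAlg f
    letI : ∀ U : X.Opens, Module Γ(S, ⊤) Γ(M, U) := fun U => modX p M U
    letI : ∀ U : X'.Opens, Module Γ(S', ⊤) Γ((Scheme.Modules.pullback g).obj M, U) :=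
      fun U => modX q ((Scheme.Modules.pullback g).obj M) U
    letI : ∀ U : X'.Opens, Module Γ(S, ⊤) Γ((Scheme.Modules.pullback g).obj M, U) :=
      fun U => modX' q f ((Scheme.Modules.pullback g).obj M) U
    haveI : ∀ U : X'.Opens, IsScalarTower Γ(S, ⊤) Γ(S', ⊤) Γ((Scheme.Modules.pullback g).obj M, U) :=
      fun U => tower' q f ((Scheme.Modules.pullback g).obj M) U
    IsBaseChange Γ(S', ⊤) (secB p q f g H.w M hV.le) := by
  letI i0 := baseAlg f
  letI i1 : ∀ U : X.Opens, Module Γ(S, ⊤) Γ(M, U) := fun U => modX p M U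
  letI i2 : ∀ U : X'.Opens, Module Γ(S', ⊤) Γ((Scheme.Modules.pullback g).obj M, U) :=
    fun U => modX q ((Scheme.Modules.pullback g).obj M) U
  letI i3 : ∀ U : X'.Opens, Module Γ(S, ⊤) Γ((Scheme.Modules.pullback g).obj M, U) :=
    fun U => modX' q f ((Scheme.Modules.pullback g).obj M) U
  haveI i4 : ∀ U : X'.Opens, IsScalarTower Γ(S, ⊤) Γ(S', ⊤) Γ((Scheme.Modules.pullback g).obj M, U) :=
    fun U => tower' q f ((Scheme.Modules.pullback g).obj M) U
  haveI : Module.Flat Γ(S, ⊤) Γ(S', ⊤) := f.flat_appTop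
  obtain ⟨I, hI, e⟩ := isCompact_iff_finite_and_eq_biUnion_affineOpens.mp hW
  have hIW (i : I) : i.1.1 ≤ W := by rw [e]; exact le_iSup₂_of_le i.1 i.2 le_rfl
  have hcov : W ≤ ⨆ i : I, i.1.1 := by
    rw [e]; exact iSup₂_le (fun i hi => le_iSup (fun i : I => i.1.1) ⟨i, hi⟩)
  have := hI.to_subtype
  have hIV (i : I) : g ⁻¹ᵁ i.1.1 ≤ V := by rw [hV]; exact g.preimage_mono (hIW i)
  have hcov' : V ≤ ⨆ i : I, g ⁻¹ᵁ i.1.1 := by
    rw [hV, ← Scheme.Hom.preimage_iSup]; exact g.preimage_mono hcov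
  have hqc (i j : I) : IsCompact ((i.1.1 ⊓ j.1.1 : X.Opens) : Set X) :=
    hW' _ _ (hIW i) i.1.1.2 i.1.2.isCompact (hIW j) j.1.1.2 j.1.2.isCompact
  let N := (Scheme.Modules.pullback g).obj M
  refine isBaseChange_of_exact (S := Γ(S', ⊤)) (N := ∀ i : I, Γ(M, i.1.1))
    (N' := ∀ i : I, Γ(N, g ⁻¹ᵁ i.1.1))
    (P := ∀ ij : I × I, Γ(M, ij.1.1.1 ⊓ ij.2.1.1))
    (P' := ∀ ij : I × I, Γ(N, g ⁻¹ᵁ (ij.1.1.1 ⊓ ij.2.1.1)))
    (LinearMap.pi fun i => resB p M (hIW i)) ?_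
    (LinearMap.pi fun ij => (resB p M (inf_le_left : ij.1.1.1 ⊓ ij.2.1.1 ≤ ij.1.1.1)).comp
        (LinearMap.proj ij.1) -
      (resB p M (inf_le_right : ij.1.1.1 ⊓ ij.2.1.1 ≤ ij.2.1.1)).comp (LinearMap.proj ij.2)) ?_
    (LinearMap.pi fun i => resB q N (hIV i)) ?_
    (LinearMap.pi fun ij =>
      (resB q N (g.preimage_mono (inf_le_left : ij.1.1.1 ⊓ ij.2.1.1 ≤ ij.1.1.1))).comp
        (LinearMap.proj ij.1) -
      (resB q N (g.preimage_mono (inf_le_right : ij.1.1.1 ⊓ ij.2.1.1 ≤ ij.2.1.1))).comp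
        (LinearMap.proj ij.2)) ?_
    (secB p q f g H.w M hV.le)
    (LinearMap.pi (fun i : I => (secB p q f g H.w M (le_refl (g ⁻¹ᵁ i.1.1))).comp (LinearMap.proj i)))
    (LinearMap.pi (fun ij : I × I =>
      (secB p q f g H.w M (le_refl (g ⁻¹ᵁ (ij.1.1.1 ⊓ ij.2.1.1)))).comp (LinearMap.proj ij))) ?_ ?_ ?_
    (injective_lft_pi _ (fun ij => injective_of_isCompact p q f g H M hM (hqc ij.1 ij.2) rfl))
  · intro a b hab
    exact res_ext M (fun i : I => i.1.1) hIW hcov (fun i => congrFun hab i)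
  · intro n
    constructor
    · intro hn
      obtain ⟨t, ht⟩ := res_glue M (fun i : I => i.1.1) hIW hcov n (fun i j => by
        have := congrFun hn (i, j)
        exact sub_eq_zero.mp this)
      exact ⟨t, funext ht⟩
    · rintro ⟨t, rfl⟩
      funext ij
      change res M _ (res M _ t) - res M _ (res M _ t) = 0
      rw [res_res, res_res, sub_self]
  · intro a b hab
    exact res_ext N (fun i : I => g ⁻¹ᵁ i.1.1) hIV hcov' (fun i => congrFun hab i)
  · intro t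
    funext ij
    change res N _ (res N _ t) - res N _ (res N _ t) = 0
    rw [res_res, res_res, sub_self]
  · intro m
    funext i
    exact sec_res' p q f g H.w M hV.le le_rfl (hIW i) (hIV i) m
  · intro n
    funext ij
    change resB q N _ _ - resB q N _ _ = secB p q f g H.w M _ (resB p M _ _ - resB p M _ _)
    rw [map_sub]
    congr 1
    · exact sec_res' p q f g H.w M le_rfl le_rfl inf_le_left (g.preimage_mono inf_le_left) _
    · exact sec_res' p q f g H.w M le_rfl le_rfl inf_le_right (g.preimage_mono inf_le_right) _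
  · exact IsBaseChange.pi _ (fun i => isBaseChange_affine p q f g H M hM i.1.2 rfl)

/-- Flat base change for sections over `U` qcqs, in the form `Γ(g^* M, g⁻¹ U) = Γ(X', g⁻¹ U) ⊗ Γ(M, U)`. -/
theorem isBaseChange_secₗ_of_qcqs (H : IsPullback g q p f) [IsAffine S] [IsAffine S'] [Flat f] (M : X.Modules)
    (hM : Coh.IsQCoh M) {U : X.Opens} (hU : IsCompact (U : Set X)) (hU' : IsQuasiSeparated (U : Set X))
    {V : X'.Opens} (hV : V = g ⁻¹ᵁ U) :
    letI : Algebra Γ(X, U) Γ(X', V) := (g.appLE U V hV.le).hom.toAlgebra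
    letI := secModule g M hV.le
    haveI : IsScalarTower Γ(X, U) Γ(X', V) Γ((Scheme.Modules.pullback g).obj M, V) :=
      ⟨fun a b c => by rw [Algebra.smul_def, mul_smul]; rfl⟩
    IsBaseChange Γ(X', V) (secₗ g M hV.le) := by
  letI i0 := baseAlg f
  letI i1 := modX p M U
  letI i2 := modX q ((Scheme.Modules.pullback g).obj M) V
  letI i3 := modX' q f ((Scheme.Modules.pullback g).obj M) V
  haveI i4 := tower' q f ((Scheme.Modules.pullback g).obj M) V
  letI j1 : Algebra Γ(X, U) Γ(X', V) := (g.appLE U V hV.le).hom.toAlgebra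
  letI j2 := secModule g M hV.le
  haveI j3 : IsScalarTower Γ(X, U) Γ(X', V) Γ((Scheme.Modules.pullback g).obj M, V) :=
      ⟨fun a b c => by rw [Algebra.smul_def, mul_smul]; rfl⟩
  have h1 := isBaseChange_of_qcqs p q f g H M hM hU hU' hV
  letI k1 : Algebra Γ(S, ⊤) Γ(X, U) := (p.appLE ⊤ U (le_pt p U)).hom.toAlgebra
  letI k2 : Algebra Γ(S', ⊤) Γ(X', V) := (q.appLE ⊤ V (le_pt q V)).hom.toAlgebra
  letI k3 : Algebra Γ(S, ⊤) Γ(X', V) :=
    ((q.appLE ⊤ V (le_pt q V)).hom.comp (f.appTop).hom).toAlgebra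
  haveI t1 : IsScalarTower Γ(S, ⊤) Γ(S', ⊤) Γ(X', V) := IsScalarTower.of_algebraMap_eq (fun _ => rfl)
  have hcomm := appLE_comm p q f g H.w hV.le
  haveI t2 : IsScalarTower Γ(S, ⊤) Γ(X, U) Γ(X', V) :=
    IsScalarTower.of_algebraMap_eq (fun a => congr($hcomm.symm a))
  have hUY : V = g ⁻¹ᵁ U ⊓ q ⁻¹ᵁ ⊤ := by simp [hV]
  have h2 := isIso_pushoutSection_of_isQuasiSeparated_of_flat_right H (US := ⊤) (UT := ⊤) (UX := U) (UY := V)
    (le_pt f ⊤) (le_pt p U) hUY (isAffineOpen_top S) (isAffineOpen_top S') hU hU'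
  have h3 := (isIso_pushoutSection_iff H (US := ⊤) (UT := ⊤) (UX := U) (UY := V)
    (le_pt f ⊤) (le_pt p U) hUY).mp h2
  have h4 : Algebra.IsPushout Γ(S, ⊤) Γ(S', ⊤) Γ(X, U) Γ(X', V) := by
    refine CommRingCat.isPushout_iff_isPushout.mp ?_
    have h5 := h3.flip
    rw [appLE_top_top] at h5
    exact h5
  haveI s1 : IsScalarTower Γ(S, ⊤) Γ(X, U) Γ(M, U) :=
    ⟨fun a b c => by rw [Algebra.smul_def, mul_smul]; rfl⟩
  haveI s2 : IsScalarTower Γ(S', ⊤) Γ(X', V) Γ((Scheme.Modules.pullback g).obj M, V) :=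
    ⟨fun a b c => by rw [Algebra.smul_def, mul_smul]; rfl⟩
  haveI s3 : IsScalarTower Γ(S, ⊤) Γ(X', V) Γ((Scheme.Modules.pullback g).obj M, V) :=
    ⟨fun a b c => by rw [Algebra.smul_def, mul_smul]; rfl⟩
  haveI s4 : IsScalarTower Γ(S, ⊤) Γ(X, U) Γ((Scheme.Modules.pullback g).obj M, V) :=
    ⟨fun a b c => by
      rw [Algebra.smul_def, mul_smul]
      exact congrArg (fun t : Γ(X', V) => t • (b • c)) (congr($hcomm a))⟩
  exact (isBaseChange_iff_of_isPushout Γ(S, ⊤) Γ(S', ⊤) Γ(X, U) Γ(X', V) (secₗ g M hV.le)).mp h1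

/-- `Γ(X) → Γ(X')` is faithfully flat if `S' → S` is a faithfully flat map of affine schemes and `X` is qcqs. -/
theorem faithfullyFlat_appTop (H : IsPullback g q p f) [IsAffine S] [IsAffine S'] [Flat f]
    [Surjective f] [CompactSpace X] [QuasiSeparatedSpace X] :
    letI : Algebra Γ(X, ⊤) Γ(X', ⊤) := (g.appLE ⊤ ⊤ (le_pt g ⊤)).hom.toAlgebra
    Module.FaithfullyFlat Γ(X, ⊤) Γ(X', ⊤) := by
  letI i0 := baseAlg f
  letI j1 : Algebra Γ(X, ⊤) Γ(X', ⊤) := (g.appLE ⊤ ⊤ (le_pt g ⊤)).hom.toAlgebra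
  letI k1 : Algebra Γ(S, ⊤) Γ(X, ⊤) := (p.appLE ⊤ ⊤ (le_pt p ⊤)).hom.toAlgebra
  letI k2 : Algebra Γ(S', ⊤) Γ(X', ⊤) := (q.appLE ⊤ ⊤ (le_pt q ⊤)).hom.toAlgebra
  letI k3 : Algebra Γ(S, ⊤) Γ(X', ⊤) :=
    ((q.appLE ⊤ ⊤ (le_pt q ⊤)).hom.comp (f.appTop).hom).toAlgebra
  haveI t1 : IsScalarTower Γ(S, ⊤) Γ(S', ⊤) Γ(X', ⊤) := IsScalarTower.of_algebraMap_eq (fun _ => rfl)
  have hcomm := appLE_comm p q f g H.w (le_pt g ⊤)
  haveI t2 : IsScalarTower Γ(S, ⊤) Γ(X, ⊤) Γ(X', ⊤) :=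
    IsScalarTower.of_algebraMap_eq (fun a => congr($hcomm.symm a))
  have hUY : (⊤ : X'.Opens) = g ⁻¹ᵁ ⊤ ⊓ q ⁻¹ᵁ ⊤ := by simp
  have h2 := isIso_pushoutSection_of_isQuasiSeparated_of_flat_right H (US := ⊤) (UT := ⊤) (UX := ⊤) (UY := ⊤)
    (le_pt f ⊤) (le_pt p ⊤) hUY (isAffineOpen_top S) (isAffineOpen_top S') isCompact_univ
    isQuasiSeparated_univ
  have h3 := (isIso_pushoutSection_iff H (US := ⊤) (UT := ⊤) (UX := ⊤) (UY := ⊤)
    (le_pt f ⊤) (le_pt p ⊤) hUY).mp h2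
  have h4 : Algebra.IsPushout Γ(S, ⊤) Γ(S', ⊤) Γ(X, ⊤) Γ(X', ⊤) := by
    refine CommRingCat.isPushout_iff_isPushout.mp ?_
    have h5 := h3.flip
    rw [appLE_top_top] at h5
    exact h5
  haveI : Module.FaithfullyFlat Γ(S, ⊤) Γ(S', ⊤) := by
    have h6 : Flat (Spec.map f.appTop) ∧ Surjective (Spec.map f.appTop) := by
      have h7 : Spec.map f.appTop = S'.isoSpec.inv ≫ f ≫ S.isoSpec.hom := by
        rw [← Scheme.isoSpec_hom_naturality, Iso.inv_hom_id_assoc]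
      rw [h7]
      exact ⟨inferInstance, inferInstance⟩
    exact (flat_and_surjective_SpecMap_iff f.appTop).mp h6
  have h8 : (algebraMap Γ(S, ⊤) Γ(S', ⊤)).FaithfullyFlat := this
  have h9 : (algebraMap Γ(X, ⊤) Γ(X', ⊤)).FaithfullyFlat :=
    RingHom.FaithfullyFlat.isStableUnderBaseChange _ _ _ _ h8
  exact h9

end Groth.Agent.CurvesA.FlatH0
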