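import Mathlib.RingTheory.Flat.Basic
import Mathlib.RingTheory.IsTensorProduct
import Mathlib.RingTheory.TensorProduct.IsBaseChangePi
import Mathlib.LinearAlgebra.TensorProduct.RightExactness

/-!
# Flat base change of kernels (linear algebra)
-/

set_option autoImplicit false

universe u v w

open TensorProduct

namespace Groth.Agent.CurvesA.GlueBC

variable {R S : Type*} [CommRing R] [CommRing S] [Algebra R S]
  {M N P M' N' P' : Type*}
  [AddCommGroup M] [AddCommGroup N] [AddCommGroup P] [Module R M] [Module R N] [Module R P]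
  [AddCommGroup M'] [AddCommGroup N'] [AddCommGroup P']
  [Module R M'] [Module R N'] [Module R P'] [Module S M'] [Module S N'] [Module S P']
  [IsScalarTower R S M'] [IsScalarTower R S N'] [IsScalarTower R S P']

/-- The map `S ⊗ M → M'` attached to an `R`-linear map `M → M'` to an `S`-module. -/
noncomputable def lft (f : M →ₗ[R] M') : S ⊗[R] M →ₗ[S] M' :=
  AlgebraTensorModule.lift
    (((LinearMap.toSpanSingleton S (M →ₗ[R] M') f : S →ₗ[S] (M →ₗ[R] M')) :
      S →ₗ[S] (M →ₗ[R] M')))

@[simp] theorem lft_tmul (f : M →ₗ[R] M') (s : S) (m : M) : lft f (s ⊗ₜ[R] m) = s • f m := by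
  simp [lft]

theorem isBaseChange_iff (f : M →ₗ[R] M') : IsBaseChange S f ↔ Function.Bijective (lft (S := S) f) := by
  constructor
  · intro h
    have : (lft (S := S) f) = h.equiv.toLinearMap := by
      ext m
      simp [IsBaseChange.equiv_tmul]
    rw [this]
    exact h.equiv.bijective
  · intro h
    refine IsBaseChange.of_equiv (LinearEquiv.ofBijective (lft (S := S) f) h) (fun x => ?_)
    simp

/-- naturality of `lft` -/
theorem lft_comp_baseChange (r : M →ₗ[R] N) (r' : M' →ₗ[S] N') (f : M →ₗ[R] M') (g : N →ₗ[R] N')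
    (h : ∀ m, r' (f m) = g (r m)) (x : S ⊗[R] M) :
    r' (lft (S := S) f x) = lft (S := S) g (r.baseChange S x) := by
  have : r' ∘ₗ lft (S := S) f = lft (S := S) g ∘ₗ r.baseChange S := by
    ext m
    simp [h]
  exact congrArg (fun k => k x) this

theorem baseChange_injective [Module.Flat R S] (r : M →ₗ[R] N) (hr : Function.Injective r) :
    Function.Injective (r.baseChange S) := by
  have := Module.Flat.lTensor_preserves_injective_linearMap (M := S) r hr
  exact this

/-- If `N → N'` is injective after base change, so is `M → M'` for `M ⊂ N`. -/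
theorem injective_of_injective [Module.Flat R S]
    (r : M →ₗ[R] N) (hr : Function.Injective r) (r' : M' →ₗ[S] N') (f : M →ₗ[R] M') (g : N →ₗ[R] N')
    (h : ∀ m, r' (f m) = g (r m)) (hg : Function.Injective (lft (S := S) g)) :
    Function.Injective (lft (S := S) f) := by
  refine Function.Injective.of_comp (f := r') ?_
  have : r' ∘ (lft (S := S) f) = (lft (S := S) g) ∘ (r.baseChange S) := by
    funext x
    exact lft_comp_baseChange r r' f g h x
  rw [this]
  exact hg.comp (baseChange_injective r hr)

/-- The kernel of a map is compatible with flat base change. -/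
theorem isBaseChange_of_exact [Module.Flat R S]
    (r : M →ₗ[R] N) (hr : Function.Injective r) (d : N →ₗ[R] P) (hex : Function.Exact r d)
    (r' : M' →ₗ[S] N') (hr' : Function.Injective r') (d' : N' →ₗ[S] P')
    (hd' : ∀ m, d' (r' m) = 0)
    (f : M →ₗ[R] M') (g : N →ₗ[R] N') (k : P →ₗ[R] P')
    (h : ∀ m, r' (f m) = g (r m)) (h' : ∀ n, d' (g n) = k (d n))
    (hg : IsBaseChange S g) (hk : Function.Injective (lft (S := S) k)) :
    IsBaseChange S f := by
  rw [isBaseChange_iff] at hg ⊢
  refine ⟨injective_of_injective r hr r' f g h hg.1, fun m' => ?_⟩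
  obtain ⟨n, hn⟩ := hg.2 (r' m')
  have h1 : d.baseChange S n = 0 := by
    apply hk
    rw [map_zero, ← lft_comp_baseChange d d' g k h' n, hn, hd']
  have hex' : Function.Exact (r.baseChange S) (d.baseChange S) :=
    Module.Flat.lTensor_exact S hex
  obtain ⟨m, hm⟩ := (hex' n).mp h1
  refine ⟨m, hr' ?_⟩
  rw [lft_comp_baseChange r r' f g h m, hm, hn]

/-- finite products of base changes are injective after base change if the factors are -/
theorem injective_lft_pi {ι : Type*} [Finite ι] {Q Q' : ι → Type*}
    [∀ i, AddCommGroup (Q i)] [∀ i, Module R (Q i)] [∀ i, AddCommGroup (Q' i)]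
    [∀ i, Module R (Q' i)] [∀ i, Module S (Q' i)] [∀ i, IsScalarTower R S (Q' i)]
    (k : ∀ i, Q i →ₗ[R] Q' i) (hk : ∀ i, Function.Injective (lft (S := S) (k i))) :
    Function.Injective (lft (S := S) (LinearMap.pi (fun i => (k i).comp (LinearMap.proj i)) :
      (∀ i, Q i) →ₗ[R] (∀ i, Q' i))) := by
  classical
  cases nonempty_fintype ι
  have key : ∀ x : S ⊗[R] (∀ i, Q i), ∀ i,
      (lft (S := S) (LinearMap.pi (fun i => (k i).comp (LinearMap.proj i)) :
      (∀ i, Q i) →ₗ[R] (∀ i, Q' i)) x) i = lft (S := S) (k i) (TensorProduct.piRight R S S Q x i) := by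
    intro x i
    induction x using TensorProduct.induction_on with
    | zero => simp
    | tmul s q => simp
    | add x y hx hy => simp only [map_add, Pi.add_apply, hx, hy]
  intro x y hxy
  apply (TensorProduct.piRight R S S Q).injective
  funext i
  apply hk i
  rw [← key, ← key, hxy]

end Groth.Agent.CurvesA.GlueBC
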