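import Mathlib.RingTheory.Jacobson.Ring
import Mathlib.RingTheory.Algebraic.Integral
import Mathlib.RingTheory.Flat.Localization
import Mathlib.RingTheory.FiniteStability
import Mathlib.FieldTheory.IsAlgClosed.AlgebraicClosure
import Mathlib.RingTheory.Polynomial.RationalRoot
import Mathlib.RingTheory.IntegralClosure.IsIntegralClosure.Basic

/-!
# Elements of finitely generated domains all of whose integer polynomials are units

Main result: `isAlgebraic_of_isIntegralElem`.
-/

set_option autoImplicit false

open Polynomial TensorProduct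

namespace Groth.Agent.CurvesA.IntElemAlg

/-- There is an integer polynomial, nonconstant over `k`, coprime to a given polynomial over `k`. -/
theorem exists_int_poly {k : Type*} [Field k] (g : k[X]) (hg : g ≠ 0) :
    ∃ p : ℤ[X], p.map (Int.castRingHom k) ≠ 0 ∧ ∀ n : ℕ, ¬ p.map (Int.castRingHom k) ∣ g ^ n := by
  classical
  set Ω := AlgebraicClosure k with hΩ
  let c : ℤ →+* Ω := Int.castRingHom Ω
  have hc : c = (algebraMap k Ω).comp (Int.castRingHom k) := RingHom.ext_int _ _
  let Z : Finset Ω := (g.map (algebraMap k Ω)).roots.toFinset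
  let Alg : Ω → Prop := fun z => ∃ q : ℤ[X], q.map (Int.castRingHom k) ≠ 0 ∧ q.eval₂ c z = 0
  let q : Ω → ℤ[X] := fun z => if h : Alg z then h.choose else 1
  have hq0 : ∀ z, (q z).map (Int.castRingHom k) ≠ 0 := by
    intro z
    by_cases h : Alg z
    · simp only [q, dif_pos h]; exact h.choose_spec.1
    · simp only [q, dif_neg h]; simp
  have hqz : ∀ z, Alg z → (q z).eval₂ c z = 0 := by
    intro z h
    simp only [q, dif_pos h]; exact h.choose_spec.2
  let p : ℤ[X] := 1 + X * ∏ z ∈ Z, q z
  have hP0 : p.map (Int.castRingHom k) ≠ 0 := by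
    intro h
    have := congrArg (fun r => Polynomial.coeff r 0) h
    simp [p] at this
  refine ⟨p, hP0, ?_⟩
  intro n hdvd
  set P := p.map (Int.castRingHom k) with hPdef
  -- degree
  have hprod : (∏ z ∈ Z, (q z).map (Int.castRingHom k)) ≠ 0 :=
    Finset.prod_ne_zero_iff.mpr fun z _ => hq0 z
  have hP : P = 1 + X * ∏ z ∈ Z, (q z).map (Int.castRingHom k) := by
    simp [hPdef, p, Polynomial.map_prod]
  have hdeg : P.natDegree ≠ 0 := by
    rw [hP, add_comm, ← C_1, natDegree_add_C, natDegree_mul X_ne_zero hprod, natDegree_X]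
    omega
  have hdegΩ : (P.map (algebraMap k Ω)).degree ≠ 0 := by
    rw [degree_map]
    intro h
    exact hdeg (natDegree_eq_of_degree_eq_some h)
  obtain ⟨z, hz⟩ := IsAlgClosed.exists_root (P.map (algebraMap k Ω)) hdegΩ
  have hz' : p.eval₂ c z = 0 := by
    rw [IsRoot, hPdef, eval_map, eval₂_map] at hz
    rwa [hc]
  have hAlg : Alg z := ⟨p, hP0, hz'⟩
  have hgz : (g.map (algebraMap k Ω)).eval z = 0 := by
    have h1 : (P.map (algebraMap k Ω)) ∣ (g.map (algebraMap k Ω)) ^ n := by
      rw [← Polynomial.map_pow]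
      exact Polynomial.map_dvd _ hdvd
    have h2 := eval_dvd (x := z) h1
    rw [hz.eq_zero, zero_dvd_iff, eval_pow] at h2
    exact eq_zero_of_pow_eq_zero h2
  have hzZ : z ∈ Z := by
    simp only [Z, Multiset.mem_toFinset]
    rw [mem_roots]
    · exact hgz
    · exact (Polynomial.map_ne_zero_iff (algebraMap k Ω).injective).mpr hg
  have h3 : p.eval₂ c z = 1 := by
    simp only [p, eval₂_add, eval₂_one, eval₂_mul, eval₂_X]
    rw [eval₂_finsetProd, Finset.prod_eq_zero hzZ (hqz z hAlg)]
    simp
  rw [h3] at hz'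
  exact one_ne_zero hz'

/-- If `R` is a finitely generated domain over `k` and `x : R` is such that all nonzero integer
polynomials in `x` are units, then `x` is algebraic over `k`. -/
theorem isAlgebraic_of_units {k R : Type*} [Field k] [CommRing R] [IsDomain R] [Algebra k R]
    [Algebra.FiniteType k R] (x : R)
    (hu : ∀ p : ℤ[X], aeval x p ≠ 0 → IsUnit (aeval x p)) : IsAlgebraic k x := by
  classical
  by_contra htr
  have htr' : Transcendental k x := htr
  have hinj : Function.Injective (aeval x : k[X] →ₐ[k] R) :=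
    transcendental_iff_injective.mp htr'
  let : Algebra k[X] R := (aeval x : k[X] →ₐ[k] R).toRingHom.toAlgebra
  have hmap : ∀ p : k[X], algebraMap k[X] R p = aeval x p := fun _ => rfl
  have : IsScalarTower k k[X] R := IsScalarTower.of_algebraMap_eq fun r => by
    rw [hmap, ← C_eq_algebraMap, aeval_C]
  have : Algebra.FiniteType k[X] R := Algebra.FiniteType.of_restrictScalars_finiteType k k[X] R
  let K0 := FractionRing k[X]
  let R' := K0 ⊗[k[X]] R
  have hnt : Nontrivial R' := by
    have h1 : Function.Injective (LinearMap.lTensor K0 (Algebra.linearMap k[X] R)) :=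
      Module.Flat.lTensor_preserves_injective_linearMap _ hinj
    have h2 : Function.Injective ((LinearMap.lTensor K0 (Algebra.linearMap k[X] R)) ∘
      (TensorProduct.rid k[X] K0).symm) := h1.comp (TensorProduct.rid k[X] K0).symm.injective
    exact h2.nontrivial
  obtain ⟨𝔪, h𝔪⟩ := Ideal.exists_maximal R'
  let : Field (R' ⧸ 𝔪) := Ideal.Quotient.field 𝔪
  let L := R' ⧸ 𝔪
  have : Algebra.FiniteType K0 L :=
    Algebra.FiniteType.of_surjective (Ideal.Quotient.mkₐ K0 𝔪) (Ideal.Quotient.mkₐ_surjective _ _)
  have : Module.Finite K0 L := finite_of_finite_type_of_isJacobsonRing K0 L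
  have : IsScalarTower k[X] K0 L := inferInstance
  have : Algebra.IsAlgebraic K0 L := inferInstance
  have halgL : Algebra.IsAlgebraic k[X] L :=
    (IsFractionRing.comap_isAlgebraic_iff (A := k[X]) (K := K0) (C := L)).mpr inferInstance
  have hinjL : Function.Injective (algebraMap k[X] L) := by
    rw [IsScalarTower.algebraMap_eq k[X] K0 L]
    exact (algebraMap K0 L).injective.comp (IsFractionRing.injective k[X] K0)
  -- the map R → L
  let φ : R →ₐ[k[X]] L :=
    ((Ideal.Quotient.mkₐ K0 𝔪).restrictScalars k[X]).comp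
      (Algebra.TensorProduct.includeRight : R →ₐ[k[X]] R')
  obtain ⟨s, hs⟩ := (inferInstance : Algebra.FiniteType k[X] R).out
  obtain ⟨g, hg0, hg⟩ := Algebra.IsAlgebraic.exists_integral_multiples k[X] (s.image φ)
  have key : ∀ r : R, ∃ n : ℕ, IsIntegral k[X] (g ^ n • φ r) := by
    intro r
    have hr : r ∈ Algebra.adjoin k[X] (s : Set R) := by rw [hs]; trivial
    induction hr using Algebra.adjoin_induction with
    | mem r hr =>
      exact ⟨1, by rw [pow_one]; exact hg _ (Finset.mem_image_of_mem _ hr)⟩
    | algebraMap r => 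
      refine ⟨0, ?_⟩
      rw [pow_zero, one_smul, AlgHom.commutes]
      exact isIntegral_algebraMap
    | add a b _ _ ha hb =>
      obtain ⟨n, hn⟩ := ha
      obtain ⟨m, hm⟩ := hb
      refine ⟨n + m, ?_⟩
      rw [map_add, smul_add]
      refine IsIntegral.add ?_ ?_
      · rw [add_comm, pow_add, mul_smul]; exact hn.smul (g ^ m)
      · rw [pow_add, mul_smul]; exact hm.smul (g ^ n)
    | mul a b _ _ ha hb =>
      obtain ⟨n, hn⟩ := ha
      obtain ⟨m, hm⟩ := hb
      refine ⟨n + m, ?_⟩
      rw [map_mul, pow_add, ← smul_mul_smul_comm]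
      exact hn.mul hm
  obtain ⟨p, hp0, hp⟩ := exists_int_poly g hg0
  set P := p.map (Int.castRingHom k) with hP
  have hPx : aeval x P = aeval x p := by
    rw [hP, aeval_def, eval₂_map, aeval_def]
    congr 1
    exact RingHom.ext_int _ _
  have hne : aeval x p ≠ 0 := by
    rw [← hPx]
    exact fun h => hp0 (hinj (by rw [h, map_zero]))
  obtain ⟨u, hu'⟩ := hu p hne
  obtain ⟨n, hn⟩ := key (↑u⁻¹ : R)
  -- `g^n / P` in `K0`
  let w : K0 := algebraMap k[X] K0 (g ^ n) / algebraMap k[X] K0 P
  have hPK : algebraMap k[X] K0 P ≠ 0 :=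
    fun h => hp0 (IsFractionRing.injective k[X] K0 (by rw [h, map_zero]))
  have hPL : algebraMap k[X] L P ≠ 0 := fun h => hp0 (hinjL (by rw [h, map_zero]))
  have hw : algebraMap K0 L w = g ^ n • φ (↑u⁻¹ : R) := by
    have h1 : algebraMap k[X] L P * φ (↑u⁻¹ : R) = 1 := by
      rw [← AlgHom.commutes φ, ← map_mul, hmap, hPx, ← hu', Units.mul_inv, map_one]
    rw [map_div₀, ← IsScalarTower.algebraMap_apply, ← IsScalarTower.algebraMap_apply,
      div_eq_iff hPL, Algebra.smul_def, mul_assoc, mul_comm (φ _), h1, mul_one]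
  rw [← hw] at hn
  have hw' : IsIntegral k[X] w := by
    rwa [isIntegral_algebraMap_iff (algebraMap K0 L).injective] at hn
  obtain ⟨q, hq⟩ := IsIntegrallyClosed.isIntegral_iff.mp hw'
  refine hp n ⟨q, ?_⟩
  apply IsFractionRing.injective k[X] K0
  rw [map_mul, hq, mul_div_cancel₀ _ hPK]

/-- If `R` is a finitely generated domain over the field `k` and `x : R` is integral over some other
field mapping to `R`, then `x` is algebraic over `k`. -/
theorem isAlgebraic_of_isIntegralElem {k₁ k R : Type*} [Field k₁] [Field k] [CommRing R] [IsDomain R]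
    [Algebra k R] [Algebra.FiniteType k R] (g : k₁ →+* R) (x : R) (hx : g.IsIntegralElem x) :
    IsAlgebraic k x := by
  refine isAlgebraic_of_units x fun p hp => ?_
  let := g.toAlgebra
  have hx' : IsIntegral k₁ x := hx
  have : IsIntegral k₁ (aeval x p) := by
    have h : aeval x (p.map (Int.castRingHom k₁)) = aeval x p := by
      rw [aeval_def, eval₂_map, aeval_def]
      congr 1
      exact RingHom.ext_int _ _
    rw [← h]
    exact IsIntegral.of_mem_of_fg _ hx'.fg_adjoin_singleton _ (aeval_mem_adjoin_singleton _ _)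
  exact this.isUnit hp

end Groth.Agent.CurvesA.IntElemAlg
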