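import Groth.Agent.Ega4dA.GenSec
import Mathlib.AlgebraicGeometry.Morphisms.QuasiSeparated

/-!
# Invertible modules on affine opens

* `exists_extend` : a section of a locally free rank one module over a basic open `D(f)` of an affine
  open extends after multiplication by a power of `f`;
* `exists_section_of_finite` : on an affine open there is a section generating at finitely many
  prescribed points.
-/

set_option autoImplicit false
universe u
open CategoryTheory CategoryTheory.Limits AlgebraicGeometry TopologicalSpace Opposite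

namespace Groth.Agent.CurvesA.InvAffine

open Groth.Agent.Ega4dA.GenSec

variable {X : Scheme.{u}}

theorem resO_pow {U V : X.Opens} (h : V ≤ U) (s : Γ(X, U)) (n : ℕ) :
    resO X h (s ^ n) = resO X h s ^ n := map_pow (X.presheaf.map (homOfLE h).op).hom s n

theorem exists_extendO {U V : X.Opens} (hU : IsAffineOpen U) (f : Γ(X, U)) (hVU : V ≤ U)
    (hV : V = X.basicOpen f) (a : Γ(X, V)) :
    ∃ (n : ℕ) (b : Γ(X, U)), resO X hVU b = resO X hVU f ^ n * a := by
  have := hU.isLocalization_of_eq_basicOpen f (homOfLE hVU) hV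
  let _ := (X.presheaf.map (homOfLE hVU).op).hom.toAlgebra
  obtain ⟨⟨b, ⟨_, n, rfl⟩⟩, hb⟩ := IsLocalization.surj (Submonoid.powers f) a
  refine ⟨n, b, ?_⟩
  change a * resO X hVU (f ^ n) = resO X hVU b at hb
  rw [← hb, resO_pow, mul_comm]

theorem exists_pow_mul_eq_zero {U V : X.Opens} (hU : IsAffineOpen U) (f : Γ(X, U)) (hVU : V ≤ U)
    (hV : V = X.basicOpen f) (b : Γ(X, U)) (hb : resO X hVU b = 0) :
    ∃ n : ℕ, f ^ n * b = 0 := by
  have := hU.isLocalization_of_eq_basicOpen f (homOfLE hVU) hV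
  let _ := (X.presheaf.map (homOfLE hVU).op).hom.toAlgebra
  have h1 : algebraMap Γ(X, U) Γ(X, V) b = algebraMap Γ(X, U) Γ(X, V) 0 := by
    rw [map_zero]; exact hb
  obtain ⟨⟨_, n, rfl⟩, hn⟩ := (IsLocalization.eq_iff_exists (Submonoid.powers f) _).mp h1
  exact ⟨n, by simpa using hn⟩

/-- A finite cover of an affine open by basic opens on which `L` is generated. -/
theorem exists_finite_cover (L : X.Modules) {U : X.Opens} (hU : IsAffineOpen U)
    (hL : ∀ x ∈ U, ∃ (V : X.Opens), x ∈ V ∧ ∃ s : Γ(L, V), IsGen L V s) :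
    ∃ (t : Finset Γ(X, U)), (U ≤ ⨆ g : t, X.basicOpen g.1) ∧
      ∀ g ∈ t, ∃ e : Γ(L, X.basicOpen g), IsGen L _ e := by
  have key : ∀ x : U, ∃ g : Γ(X, U), x.1 ∈ X.basicOpen g ∧ ∃ e : Γ(L, X.basicOpen g), IsGen L _ e := by
    intro x
    obtain ⟨V, hxV, s, hs⟩ := hL x.1 x.2
    obtain ⟨g, hg, hxg⟩ := hU.exists_basicOpen_le ⟨x.1, hxV⟩ x.2
    exact ⟨g, hxg, _, hs.mono hg⟩
  choose g hg e he using key
  obtain ⟨s, hs⟩ := hU.isCompact.elim_finite_subcover (fun x : U => (X.basicOpen (g x) : Set X))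
    (fun x => (X.basicOpen (g x)).isOpen) (fun x hx => Set.mem_iUnion.mpr ⟨⟨x, hx⟩, hg ⟨x, hx⟩⟩)
  classical
  refine ⟨s.image g, ?_, ?_⟩
  · intro x hx
    obtain ⟨y, hy, hxy⟩ := Set.mem_iUnion₂.mp (hs hx)
    exact Opens.mem_iSup.mpr ⟨⟨g y, Finset.mem_image_of_mem g hy⟩, hxy⟩
  · intro g' hg'
    obtain ⟨y, hy, rfl⟩ := Finset.mem_image.mp hg'
    exact ⟨e y, he y⟩

/-- A section of a locally free rank one module over a basic open `D(f)` of an affine
open extends after multiplication by a power of `f`. -/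
theorem exists_extend (L : X.Modules) {U : X.Opens} (hU : IsAffineOpen U)
    (hL : ∀ x ∈ U, ∃ (V : X.Opens), x ∈ V ∧ ∃ s : Γ(L, V), IsGen L V s)
    (f : Γ(X, U)) (t : Γ(L, X.basicOpen f)) :
    ∃ (n : ℕ) (s : Γ(L, U)), res L (X.basicOpen_le f) s = resO X (X.basicOpen_le f) f ^ n • t := by
  obtain ⟨T, hcov, hT⟩ := exists_finite_cover L hU hL
  choose e he using fun g : T => hT g.1 g.2
  -- local extension
  have step1 : ∀ g : T, ∃ (n : ℕ) (s : Γ(L, X.basicOpen g.1)), ∀ m, n ≤ m →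
      res L (inf_le_left : X.basicOpen g.1 ⊓ X.basicOpen f ≤ _)
        ((resO X (X.basicOpen_le g.1) f ^ (m - n)) • s) =
      resO X (inf_le_right.trans (X.basicOpen_le f) : X.basicOpen g.1 ⊓ X.basicOpen f ≤ U) f ^ m •
        res L (inf_le_right : X.basicOpen g.1 ⊓ X.basicOpen f ≤ _) t := by
    intro g
    obtain ⟨a, ha⟩ := (he g).exists_eq (inf_le_left : X.basicOpen g.1 ⊓ X.basicOpen f ≤ _)
      (res L (inf_le_right : X.basicOpen g.1 ⊓ X.basicOpen f ≤ _) t)
    obtain ⟨n, b, hb⟩ := exists_extendO (hU.basicOpen g.1) (resO X (X.basicOpen_le g.1) f)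
      (inf_le_left : X.basicOpen g.1 ⊓ X.basicOpen f ≤ _) (by
        rw [resO_def, Scheme.basicOpen_res]) a
    refine ⟨n, b • e g, fun m hm => ?_⟩
    rw [res_smul, res_smul, hb, resO_pow, resO_resO, ← ha, ← mul_smul, ← mul_smul]
    congr 1
    rw [← mul_assoc, ← pow_add, Nat.sub_add_cancel hm]
  choose n s hs using step1
  obtain ⟨N, hN⟩ : ∃ N, ∀ g : T, n g ≤ N :=
    ⟨Finset.univ.sup n, fun g => Finset.le_sup (f := n) (Finset.mem_univ g)⟩
  obtain ⟨s', hs'⟩ : ∃ s' : ∀ g : T, Γ(L, X.basicOpen g.1),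
      ∀ g : T, res L (inf_le_left : X.basicOpen g.1 ⊓ X.basicOpen f ≤ _) (s' g) =
      resO X (inf_le_right.trans (X.basicOpen_le f) : X.basicOpen g.1 ⊓ X.basicOpen f ≤ U) f ^ N •
        res L (inf_le_right : X.basicOpen g.1 ⊓ X.basicOpen f ≤ _) t :=
    ⟨fun g => (resO X (X.basicOpen_le g.1) f ^ (N - n g)) • s g, fun g => hs g N (hN g)⟩
  -- overlaps
  have step2 : ∀ g g' : T, ∃ m : ℕ, resO X (inf_le_left.trans (X.basicOpen_le g.1) :
      X.basicOpen g.1 ⊓ X.basicOpen g'.1 ≤ U) f ^ m •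
      (res L (inf_le_left : X.basicOpen g.1 ⊓ X.basicOpen g'.1 ≤ _) (s' g) -
        res L (inf_le_right : X.basicOpen g.1 ⊓ X.basicOpen g'.1 ≤ _) (s' g')) = 0 := by
    intro g g'
    obtain ⟨c, hc⟩ := (he g).exists_eq (inf_le_left : X.basicOpen g.1 ⊓ X.basicOpen g'.1 ≤ _)
      (res L (inf_le_left : X.basicOpen g.1 ⊓ X.basicOpen g'.1 ≤ _) (s' g) -
        res L (inf_le_right : X.basicOpen g.1 ⊓ X.basicOpen g'.1 ≤ _) (s' g'))
    have haff : IsAffineOpen (X.basicOpen g.1 ⊓ X.basicOpen g'.1) := by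
      rw [← Scheme.basicOpen_mul]; exact hU.basicOpen _
    let W := (X.basicOpen g.1 ⊓ X.basicOpen g'.1) ⊓ X.basicOpen f
    have hWf : W = X.basicOpen (resO X (inf_le_left.trans (X.basicOpen_le g.1) :
      X.basicOpen g.1 ⊓ X.basicOpen g'.1 ≤ U) f) := by rw [resO_def, Scheme.basicOpen_res]
    have hc0 : resO X (inf_le_left : W ≤ _) c = 0 := by
      apply (he g).injective ((inf_le_left : W ≤ _).trans inf_le_left)
      have h1 := congrArg (res L (inf_le_left : W ≤ _)) hc
      rw [res_smul, res_res, res_sub, res_res, res_res] at h1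
      rw [h1, zero_smul]
      have h2 := congrArg (res L (le_inf (inf_le_left.trans inf_le_left) inf_le_right : W ≤ _)) (hs' g)
      have h3 := congrArg (res L (le_inf (inf_le_left.trans inf_le_right) inf_le_right : W ≤ _)) (hs' g')
      rw [res_res, res_smul, res_res, resO_pow, resO_resO] at h2 h3
      rw [h2, h3, sub_self]
    obtain ⟨m, hm⟩ := exists_pow_mul_eq_zero haff _ (inf_le_left : W ≤ _) hWf c hc0
    refine ⟨m, ?_⟩
    rw [← hc, ← mul_smul, hm, zero_smul]
  choose m hm using step2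
  obtain ⟨M, hM⟩ : ∃ M, ∀ g g' : T, m g g' ≤ M :=
    ⟨Finset.univ.sup (fun p : T × T => m p.1 p.2),
      fun g g' => Finset.le_sup (f := fun p : T × T => m p.1 p.2) (Finset.mem_univ (g, g'))⟩
  obtain ⟨r, hr⟩ := exists_glue (U := U) L (fun g : T => X.basicOpen g.1) (fun g => X.basicOpen_le g.1)
    hcov (fun g => resO X (X.basicOpen_le g.1) f ^ M • s' g) (by
      intro g g'
      rw [res_smul, res_smul, resO_pow, resO_pow, resO_resO, resO_resO, ← sub_eq_zero, ← smul_sub,
        ← Nat.sub_add_cancel (hM g g'), pow_add, mul_smul, hm, smul_zero])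
  refine ⟨M + N, r, ?_⟩
  apply eq_of_locally
  intro x hx
  obtain ⟨g, hg⟩ := Opens.mem_iSup.mp (hcov (X.basicOpen_le f hx))
  refine ⟨X.basicOpen g.1 ⊓ X.basicOpen f, inf_le_right, ⟨hg, hx⟩, ?_⟩
  have h1 := congrArg (res L (inf_le_left : X.basicOpen g.1 ⊓ X.basicOpen f ≤ _)) (hr g)
  rw [res_res, res_smul, hs' g, resO_pow, resO_resO] at h1
  rw [res_res, h1, res_smul, resO_pow, resO_resO, ← mul_smul, ← pow_add]

/-- The section `s` generates `L` near `x`. -/
def GenAt (L : X.Modules) (U : X.Opens) (s : Γ(L, U)) (x : X) : Prop :=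
  ∃ (V : X.Opens) (h : V ≤ U), x ∈ V ∧ IsGen L V (res L h s)

theorem genAt_iff {L : X.Modules} {U V : X.Opens} {s : Γ(L, U)} {x : X} (hVU : V ≤ U) (hx : x ∈ V)
    {e : Γ(L, V)} (he : IsGen L V e) {a : Γ(X, V)} (ha : res L hVU s = a • e) :
    GenAt L U s x ↔ x ∈ X.basicOpen a := by
  constructor
  · rintro ⟨W, hWU, hxW, hW⟩
    obtain ⟨c, hc⟩ := hW.exists_eq (inf_le_left : W ⊓ V ≤ W) (res L (inf_le_right : W ⊓ V ≤ V) e)
    have h1 := congrArg (res L (inf_le_right : W ⊓ V ≤ V)) ha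
    rw [res_res, res_smul] at h1
    rw [res_res, h1, ← mul_smul] at hc
    have h2 : c * resO X (inf_le_right : W ⊓ V ≤ V) a = 1 := by
      apply he.injective (inf_le_right : W ⊓ V ≤ V)
      rw [hc, one_smul]
    have h3 : IsUnit (resO X (inf_le_right : W ⊓ V ≤ V) a) := IsUnit.of_mul_eq_one_right c h2
    have h4 := X.basicOpen_of_isUnit h3
    rw [resO_def, Scheme.basicOpen_res] at h4
    have h5 : x ∈ (W ⊓ V) ⊓ X.basicOpen a := by rw [h4]; exact ⟨hxW, hx⟩
    exact h5.2
  · intro hxa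
    refine ⟨X.basicOpen a, (X.basicOpen_le a).trans hVU, hxa, ?_⟩
    have h1 := congrArg (res L (X.basicOpen_le a)) ha
    rw [res_res, res_smul] at h1
    rw [h1]
    exact (he.mono _).smul (X.toRingedSpace.isUnit_res_basicOpen a)

theorem basicOpen_neg {U : X.Opens} (a : Γ(X, U)) : X.basicOpen (-a) = X.basicOpen a := by
  have h1 : (-a) = (-1) * a := by ring
  rw [h1, Scheme.basicOpen_mul, X.basicOpen_of_isUnit (isUnit_one.neg)]
  exact inf_eq_right.mpr (X.basicOpen_le a)

theorem mem_basicOpen_add {U : X.Opens} {x : X} {a b : Γ(X, U)} (ha : x ∈ X.basicOpen a)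
    (hb : x ∉ X.basicOpen b) : x ∈ X.basicOpen (a + b) := by
  have h1 : a = (a + b) + (-b) := by ring
  rw [h1] at ha
  rcases X.basicOpen_add_le _ _ ha with h | h
  · exact h
  · rw [basicOpen_neg] at h; exact absurd h hb

/-- On an affine open there is a section generating near a given point. -/
theorem exists_section_at (L : X.Modules) {U : X.Opens} (hU : IsAffineOpen U)
    (hL : ∀ x ∈ U, ∃ (V : X.Opens), x ∈ V ∧ ∃ s : Γ(L, V), IsGen L V s) (x : X) (hx : x ∈ U) :
    ∃ s : Γ(L, U), GenAt L U s x := by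
  obtain ⟨V, hxV, e, he⟩ := hL x hx
  obtain ⟨f, hf, hxf⟩ := hU.exists_basicOpen_le ⟨x, hxV⟩ hx
  obtain ⟨n, s, hs⟩ := exists_extend L hU hL f (res L hf e)
  refine ⟨s, X.basicOpen f, X.basicOpen_le f, hxf, ?_⟩
  rw [hs]
  exact (he.mono hf).smul ((X.toRingedSpace.isUnit_res_basicOpen f).pow n)

/-- On an affine open there is a section generating near finitely many given points. -/
theorem exists_section_of_finite (L : X.Modules) {U : X.Opens} (hU : IsAffineOpen U)
    (hL : ∀ x ∈ U, ∃ (V : X.Opens), x ∈ V ∧ ∃ s : Γ(L, V), IsGen L V s) (F : Finset X)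
    (hF : ∀ x ∈ F, x ∈ U) :
    ∃ s : Γ(L, U), ∀ x ∈ F, GenAt L U s x := by
  classical
  induction hn : F.card generalizing F with
  | zero =>
    rw [Finset.card_eq_zero] at hn
    subst hn
    exact ⟨0, by simp⟩
  | succ n ih =>
    have hne : F.Nonempty := Finset.card_pos.mp (by omega)
    obtain ⟨x₀, hx₀, hmax⟩ := Finset.exists_maximalFor (fun x : X => closure ({x} : Set X)) F hne
    obtain ⟨s, hs⟩ := ih (F.erase x₀) (fun x hx => hF x (Finset.mem_of_mem_erase hx))
      (by rw [Finset.card_erase_of_mem hx₀, hn]; rfl)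
    by_cases hsx₀ : GenAt L U s x₀
    · refine ⟨s, fun x hx => ?_⟩
      by_cases hxx : x = x₀
      · rw [hxx]; exact hsx₀
      · exact hs x (Finset.mem_erase.mpr ⟨hxx, hx⟩)
    obtain ⟨s₀, hs₀⟩ := exists_section_at L hU hL x₀ (hF x₀ hx₀)
    -- separate x₀ from the others
    have hsep : ∀ x ∈ F.erase x₀, ∃ b : Γ(X, U), x ∉ X.basicOpen b ∧ x₀ ∈ X.basicOpen b := by
      intro x hx
      have hxF := Finset.mem_of_mem_erase hx
      have hne : x ≠ x₀ := (Finset.mem_erase.mp hx).1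
      have hx₀x : x₀ ∉ closure ({x} : Set X) := by
        intro hmem
        have h1 : closure ({x₀} : Set X) ⊆ closure {x} :=
          isClosed_closure.closure_subset_iff.mpr (Set.singleton_subset_iff.mpr hmem)
        have h2 : closure ({x} : Set X) ⊆ closure {x₀} := hmax hxF h1
        have h3 : Inseparable x x₀ := inseparable_iff_closure_eq.mpr (h2.antisymm h1)
        exact hne h3.eq
      let W : X.Opens := ⟨(closure ({x} : Set X))ᶜ, isClosed_closure.isOpen_compl⟩
      obtain ⟨b, hb, hxb⟩ := hU.exists_basicOpen_le (V := W) ⟨x₀, hx₀x⟩ (hF x₀ hx₀)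
      exact ⟨b, fun hxb' => hb hxb' (subset_closure (Set.mem_singleton x)), hxb⟩
    choose! b hb1 hb2 using hsep
    let B : Γ(X, U) := ∏ x ∈ F.erase x₀, b x
    have hB1 : ∀ x ∈ F.erase x₀, x ∉ X.basicOpen B := by
      intro x hx hxB
      have : B = b x * ∏ y ∈ (F.erase x₀).erase x, b y := (Finset.mul_prod_erase _ _ hx).symm
      rw [this, Scheme.basicOpen_mul] at hxB
      exact hb1 x hx hxB.1
    have hB2 : x₀ ∈ X.basicOpen B := by
      have : ∀ T : Finset X, T ⊆ F.erase x₀ → x₀ ∈ X.basicOpen (∏ y ∈ T, b y) := by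
        intro T
        induction T using Finset.induction_on with
        | empty => intro _; simpa using hF x₀ hx₀
        | insert y T hy ihT =>
          intro hT
          rw [Finset.prod_insert hy, Scheme.basicOpen_mul]
          exact ⟨hb2 y (hT (Finset.mem_insert_self y T)),
            ihT ((Finset.subset_insert y T).trans hT)⟩
      exact this _ subset_rfl
    refine ⟨s + B • s₀, fun x hx => ?_⟩
    obtain ⟨V', hxV', e', he'⟩ := hL x (hF x hx)
    obtain ⟨V, hVU, hxV, e, he⟩ : ∃ (V : X.Opens) (_ : V ≤ U), x ∈ V ∧ ∃ e : Γ(L, V), IsGen L V e :=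
      ⟨V' ⊓ U, inf_le_right, ⟨hxV', hF x hx⟩, _, he'.mono inf_le_left⟩
    obtain ⟨a, ha⟩ := he.exists_eq' (res L hVU s)
    obtain ⟨c, hc⟩ := he.exists_eq' (res L hVU s₀)
    have hsum : res L hVU (s + B • s₀) = (a + resO X hVU B * c) • e := by
      rw [res_add, res_smul, ← ha, ← hc, add_smul, mul_smul]
    rw [genAt_iff hVU hxV he hsum]
    have hmemB : x ∈ X.basicOpen (resO X hVU B * c) ↔ x ∈ X.basicOpen B ∧ x ∈ X.basicOpen c := by
      rw [Scheme.basicOpen_mul, resO_def, Scheme.basicOpen_res]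
      exact ⟨fun h => ⟨h.1.2, h.2⟩, fun h => ⟨⟨hxV, h.1⟩, h.2⟩⟩
    by_cases hxx : x = x₀
    · rw [add_comm]
      apply mem_basicOpen_add
      · rw [hmemB]
        refine ⟨hxx ▸ hB2, ?_⟩
        rw [← genAt_iff hVU hxV he hc.symm]
        exact hxx ▸ hs₀
      · rw [← genAt_iff hVU hxV he ha.symm]
        exact hxx ▸ hsx₀
    · have hxe : x ∈ F.erase x₀ := Finset.mem_erase.mpr ⟨hxx, hx⟩
      apply mem_basicOpen_add
      · rw [← genAt_iff hVU hxV he ha.symm]
        exact hs x hxe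
      · rw [hmemB]
        exact fun h => hB1 x hxe h.1

end Groth.Agent.CurvesA.InvAffine
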