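import Mathlib.RingTheory.Polynomial.Cyclotomic.Roots
import Mathlib.RingTheory.Polynomial.Cyclotomic.Eval
import Mathlib.RingTheory.AdjoinRoot
import Mathlib.RingTheory.MvPolynomial.Basic
import Mathlib.Data.ZMod.Basic

/-!
# The Kummer-Artin-Schreier polynomial

`p` prime, `ζ` with `1 + ζ + ... + ζ^(p-1) = 0` in a commutative ring `R`, `λ = ζ - 1`,
`q a = 1 + ζ + ... + ζ^(a-1)` for `a : ZMod p`, `ψ x = ∏ a, (x - q a)`.

* `one_add_pow` : `(1 + λ x) ^ p = 1 + λ ^ p * ψ x`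
* `q_add` : `q (a + b) = q a + q b + λ * q a * q b`
* `ψ_mul` : `ψ (x + w + λ * x * w) = ψ x + ψ w + λ ^ p * ψ x * ψ w`
* `isUnit_sub` : `q a - q b` is a unit for `a ≠ b`
-/

set_option autoImplicit false
universe u v

open Finset

namespace Groth.Agent.CurvesA.KAS

variable {R : Type u} [CommRing R] {S : Type v} [CommRing S] (p : ℕ)

/-- the `q`-analogue of `n` -/
def qn (ζ : R) (n : ℕ) : R := ∑ j ∈ range n, ζ ^ j

/-- `ζ` is a root of the `p`-th cyclotomic polynomial. -/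
def IsRt (ζ : R) : Prop := ∑ j ∈ range p, ζ ^ j = 0

/-- `q a`, for `a : ZMod p`. -/
def q (ζ : R) (a : ZMod p) : R := qn ζ a.val

theorem qn_mul_sub (ζ : R) (n : ℕ) : (ζ - 1) * qn ζ n = ζ ^ n - 1 := by
  rw [mul_comm]
  exact geom_sum_mul ζ n

theorem qn_add (ζ : R) (m n : ℕ) : qn ζ (m + n) = qn ζ m + ζ ^ m * qn ζ n := by
  unfold qn
  rw [sum_range_add, mul_sum]
  congr 1
  exact sum_congr rfl fun j _ => pow_add ζ m j

theorem qn_add' (ζ : R) (m n : ℕ) :
    qn ζ (m + n) = qn ζ m + qn ζ n + (ζ - 1) * qn ζ m * qn ζ n := by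
  have h : ζ ^ m = 1 + (ζ - 1) * qn ζ m := by
    rw [qn_mul_sub]
    ring
  rw [qn_add, h]
  ring

variable {p}

theorem IsRt.pow_eq_one {ζ : R} (h : IsRt p ζ) : ζ ^ p = 1 := by
  have := geom_sum_mul ζ p
  unfold IsRt at h
  rw [h, zero_mul] at this
  exact (sub_eq_zero.1 this.symm)

theorem IsRt.qn_mul {ζ : R} (h : IsRt p ζ) (k : ℕ) : qn ζ (p * k) = 0 := by
  induction k with
  | zero => simp [qn]
  | succ k ih =>
    rw [mul_add, mul_one, qn_add, ih, zero_add]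
    unfold qn
    unfold IsRt at h
    rw [h, mul_zero]

theorem IsRt.qn_mod {ζ : R} (h : IsRt p ζ) (n : ℕ) : qn ζ (n % p) = qn ζ n := by
  conv_rhs => rw [← Nat.mod_add_div n p, qn_add, h.qn_mul, mul_zero, add_zero]

theorem IsRt.q_natCast {ζ : R} (h : IsRt p ζ) (n : ℕ) : q p ζ (n : ZMod p) = qn ζ n := by
  unfold q
  rw [ZMod.val_natCast, h.qn_mod]

theorem IsRt.q_add {ζ : R} [NeZero p] (h : IsRt p ζ) (a b : ZMod p) :
    q p ζ (a + b) = q p ζ a + q p ζ b + (ζ - 1) * q p ζ a * q p ζ b := by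
  unfold q
  rw [ZMod.val_add, h.qn_mod, qn_add']

theorem q_zero (ζ : R) : q p ζ 0 = 0 := by
  unfold q
  rcases p with _ | p
  · simp [qn]
  · simp [qn]

theorem IsRt.map {ζ : R} (h : IsRt p ζ) (f : R →+* S) : IsRt p (f ζ) := by
  unfold IsRt at *
  rw [← map_zero f, ← h, map_sum]
  simp

theorem map_q (ζ : R) (f : R →+* S) (a : ZMod p) : f (q p ζ a) = q p (f ζ) a := by
  unfold q qn
  rw [map_sum]
  simp

/-- the difference of two distinct `q`s is a unit. -/
theorem IsRt.isUnit_q {ζ : R} [Fact p.Prime] (h : IsRt p ζ) {a : ZMod p} (ha : a ≠ 0) :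
    IsUnit (q p ζ a) := by
  have key : ∀ m k : ℕ, qn ζ (m * k) = qn ζ m * qn (ζ ^ m) k := by
    intro m k
    induction k with
    | zero => simp [qn]
    | succ k ih =>
      rw [mul_add, mul_one, qn_add, ih]
      have : qn (ζ ^ m) (k + 1) = qn (ζ ^ m) k + (ζ ^ m) ^ k := sum_range_succ _ _
      rw [this, ← pow_mul]
      ring
  have h1 : q p ζ (a * a⁻¹) = q p ζ a * qn (ζ ^ a.val) (a⁻¹).val := by
    conv_lhs => unfold q
    rw [ZMod.val_mul, h.qn_mod, key]
    rfl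
  rw [mul_inv_cancel₀ ha] at h1
  have h2 : q p ζ 1 = 1 := by
    have := h.q_natCast 1
    rw [Nat.cast_one] at this
    rw [this]
    simp [qn]
  rw [h2] at h1
  exact IsUnit.of_mul_eq_one _ h1.symm

theorem IsRt.isUnit_zeta {ζ : R} [Fact p.Prime] (h : IsRt p ζ) : IsUnit ζ :=
  IsUnit.of_pow_eq_one h.pow_eq_one (Fact.out : p.Prime).ne_zero

theorem one_add_mul_q (ζ : R) (a : ZMod p) : 1 + (ζ - 1) * q p ζ a = ζ ^ a.val := by
  unfold q
  rw [qn_mul_sub]
  ring

theorem IsRt.isUnit_sub {ζ : R} [Fact p.Prime] (h : IsRt p ζ) {a b : ZMod p} (hab : a ≠ b) :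
    IsUnit (q p ζ a - q p ζ b) := by
  have h1 : q p ζ a - q p ζ b = q p ζ (a - b) * ζ ^ b.val := by
    have := h.q_add (a - b) b
    rw [sub_add_cancel] at this
    rw [this, ← one_add_mul_q]
    ring
  rw [h1]
  exact (h.isUnit_q (sub_ne_zero.2 hab)).mul (h.isUnit_zeta.pow _)

variable (p) in
/-- The Kummer-Artin-Schreier polynomial function. -/
def ψ (ζ : R) [NeZero p] (x : R) : R := ∏ a : ZMod p, (x - q p ζ a)

theorem map_ψ (ζ : R) [NeZero p] (f : R →+* S) (x : R) : f (ψ p ζ x) = ψ p (f ζ) (f x) := by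
  unfold ψ
  rw [map_prod]
  simp [map_q]

theorem ψ_q (ζ : R) [NeZero p] (a : ZMod p) : ψ p ζ (q p ζ a) = 0 :=
  prod_eq_zero (mem_univ a) (sub_self _)

/-! ### In a domain -/

theorem IsRt.isPrimitiveRoot {D : Type*} [CommRing D] [IsDomain D] [Fact p.Prime] {ζ : D}
    (h : IsRt p ζ) (h1 : ζ ≠ 1) : IsPrimitiveRoot ζ p :=
  IsPrimitiveRoot.iff_orderOf.2 (orderOf_eq_prime h.pow_eq_one h1)

theorem pow_sub_one_of_domain {D : Type*} [CommRing D] [IsDomain D] [Fact p.Prime] {ζ : D}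
    (h : IsRt p ζ) (h1 : ζ ≠ 1) (y : D) : y ^ p - 1 = ∏ a : ZMod p, (y - ζ ^ a.val) := by
  have hp := h.isPrimitiveRoot h1
  have e := congrArg (Polynomial.eval y) (Polynomial.X_pow_sub_one_eq_prod (Fact.out : p.Prime).pos hp)
  rw [Polynomial.eval_prod] at e
  simp only [Polynomial.eval_sub, Polynomial.eval_pow, Polynomial.eval_X, Polynomial.eval_one,
    Polynomial.eval_C] at e
  rw [e]
  symm
  refine prod_bij (fun a _ => ζ ^ a.val) ?_ ?_ ?_ ?_
  · intro a _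
    rw [Polynomial.mem_nthRootsFinset (Fact.out : p.Prime).pos, ← pow_mul, mul_comm, pow_mul, h.pow_eq_one,
      one_pow]
  · intro a _ b _ hab
    exact ZMod.val_injective p (hp.pow_inj (ZMod.val_lt a) (ZMod.val_lt b) hab)
  · intro μ hμ
    rw [Polynomial.mem_nthRootsFinset (Fact.out : p.Prime).pos] at hμ
    obtain ⟨i, hi, rfl⟩ := hp.eq_pow_of_pow_eq_one hμ
    exact ⟨(i : ZMod p), mem_univ _, by rw [ZMod.val_cast_of_lt hi]⟩
  · intro a _
    rfl

theorem one_add_pow_of_domain {D : Type*} [CommRing D] [IsDomain D] [Fact p.Prime] {ζ : D}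
    (h : IsRt p ζ) (h1 : ζ ≠ 1) (x : D) :
    (1 + (ζ - 1) * x) ^ p = 1 + (ζ - 1) ^ p * ψ p ζ x := by
  have e := pow_sub_one_of_domain h h1 (1 + (ζ - 1) * x)
  have e2 : ∀ a : ZMod p, 1 + (ζ - 1) * x - ζ ^ a.val = (ζ - 1) * (x - q p ζ a) := by
    intro a
    rw [← one_add_mul_q]
    ring
  simp only [e2] at e
  rw [prod_mul_distrib, prod_const, card_univ, ZMod.card] at e
  rw [sub_eq_iff_eq_add] at e
  rw [e, add_comm]
  rfl

theorem ψ_mul_of_domain {D : Type*} [CommRing D] [IsDomain D] [Fact p.Prime] {ζ : D}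
    (h : IsRt p ζ) (h1 : ζ ≠ 1) (x w : D) :
    ψ p ζ (x + w + (ζ - 1) * x * w) = ψ p ζ x + ψ p ζ w + (ζ - 1) ^ p * ψ p ζ x * ψ p ζ w := by
  have hl : (ζ - 1) ^ p ≠ 0 := pow_ne_zero _ (sub_ne_zero.2 h1)
  apply mul_left_cancel₀ hl
  have e1 := one_add_pow_of_domain h h1 x
  have e2 := one_add_pow_of_domain h h1 w
  have e3 := one_add_pow_of_domain h h1 (x + w + (ζ - 1) * x * w)
  have e4 : 1 + (ζ - 1) * (x + w + (ζ - 1) * x * w) = (1 + (ζ - 1) * x) * (1 + (ζ - 1) * w) := by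
    ring
  rw [e4, mul_pow, e1, e2] at e3
  linear_combination -e3

/-! ### The universal case -/

section Univ

variable (p) [Fact p.Prime]

/-- The ring of cyclotomic integers. -/
abbrev U : Type := AdjoinRoot (Polynomial.cyclotomic p ℤ)

instance isDomain_U : IsDomain (U p) :=
  AdjoinRoot.isDomain_of_prime (Polynomial.cyclotomic.irreducible (Fact.out : p.Prime).pos).prime

/-- the universal root -/
noncomputable def ζU : U p := AdjoinRoot.root _

theorem isRt_ζU : IsRt p (ζU p) := by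
  have h := AdjoinRoot.eval₂_root (Polynomial.cyclotomic p ℤ)
  have h2 : Polynomial.eval₂ (AdjoinRoot.of (Polynomial.cyclotomic p ℤ)) (ζU p)
      (∑ i ∈ range p, Polynomial.X ^ i) = 0 := by
    rw [← Polynomial.cyclotomic_prime ℤ p]
    exact h
  rw [Polynomial.eval₂_finsetSum] at h2
  unfold IsRt
  simpa using h2

theorem ζU_ne_one : ζU p ≠ 1 := by
  intro h
  have h1 := isRt_ζU p
  unfold IsRt at h1
  rw [h] at h1
  simp only [one_pow, sum_const, card_range, nsmul_eq_mul, mul_one] at h1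
  have h2 : (p : U p) = AdjoinRoot.mk (Polynomial.cyclotomic p ℤ) (Polynomial.C (p : ℤ)) := by simp
  rw [h2, AdjoinRoot.mk_eq_zero] at h1
  have h3 := Polynomial.degree_le_of_dvd h1 (by
    rw [Ne, Polynomial.C_eq_zero]
    exact_mod_cast (Fact.out : p.Prime).ne_zero)
  rw [Polynomial.degree_C (by exact_mod_cast (Fact.out : p.Prime).ne_zero),
    Polynomial.degree_cyclotomic, Nat.totient_prime (Fact.out : p.Prime)] at h3
  have h4 : p - 1 ≤ 0 := by exact_mod_cast h3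
  have := (Fact.out : p.Prime).two_le
  omega

variable {p}

/-- specialisation -/
noncomputable def sp {ζ : R} (h : IsRt p ζ) : U p →+* R :=
  AdjoinRoot.lift (Int.castRingHom R) ζ (by
    rw [Polynomial.cyclotomic_prime, Polynomial.eval₂_finsetSum]
    unfold IsRt at h
    simpa using h)

theorem sp_ζU {ζ : R} (h : IsRt p ζ) : sp h (ζU p) = ζ := AdjoinRoot.lift_root _

end Univ

theorem IsRt.one_add_pow [Fact p.Prime] {ζ : R} (h : IsRt p ζ) (x : R) :
    (1 + (ζ - 1) * x) ^ p = 1 + (ζ - 1) ^ p * ψ p ζ x := by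
  have hC : IsRt p (Polynomial.C (ζU p)) := (isRt_ζU p).map Polynomial.C
  have hne : (Polynomial.C (ζU p)) ≠ 1 := by
    rw [Ne, ← Polynomial.C_1, Polynomial.C_inj]
    exact ζU_ne_one p
  obtain ⟨f, hf1, hf2⟩ : ∃ f : Polynomial (U p) →+* R, f (Polynomial.C (ζU p)) = ζ ∧
      f Polynomial.X = x := ⟨Polynomial.eval₂RingHom (sp h) x, by simp [sp_ζU], by simp⟩
  have e := congrArg f (one_add_pow_of_domain hC hne Polynomial.X)
  simp only [map_add, map_mul, map_pow, map_sub, map_one, map_ψ, hf1, hf2] at e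
  exact e

theorem IsRt.ψ_mul [Fact p.Prime] {ζ : R} (h : IsRt p ζ) (x w : R) :
    ψ p ζ (x + w + (ζ - 1) * x * w) = ψ p ζ x + ψ p ζ w + (ζ - 1) ^ p * ψ p ζ x * ψ p ζ w := by
  have hC : IsRt p (MvPolynomial.C (σ := Bool) (ζU p)) := (isRt_ζU p).map MvPolynomial.C
  have hne : (MvPolynomial.C (σ := Bool) (ζU p)) ≠ 1 := by
    rw [Ne, ← MvPolynomial.C_1, MvPolynomial.C_inj]
    exact ζU_ne_one p
  obtain ⟨f, hf1, hf2, hf3⟩ : ∃ f : MvPolynomial Bool (U p) →+* R,
      f (MvPolynomial.C (ζU p)) = ζ ∧ f (MvPolynomial.X true) = x ∧ f (MvPolynomial.X false) = w :=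
    ⟨MvPolynomial.eval₂Hom (sp h) (fun b : Bool => cond b x w), by simp [sp_ζU], by simp, by simp⟩
  have e := congrArg f (ψ_mul_of_domain hC hne (MvPolynomial.X true) (MvPolynomial.X false))
  simp only [map_add, map_mul, map_pow, map_sub, map_one, map_ψ, hf1, hf2, hf3] at e
  exact e

end Groth.Agent.CurvesA.KAS
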