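import Groth.Agent.CurvesA.EndDim
import Mathlib.LinearAlgebra.Matrix.Action
import Mathlib.Algebra.Algebra.Opposite

set_option autoImplicit false

/-!
# Uniqueness of the division algebra in Wedderburn's theorem
-/

namespace Groth.Agent.CurvesA.MatrixDiv

open Module MulOpposite

universe u v w

variable (D : Type v) [DivisionRing D] (n : ℕ)

/-- The module of column vectors over the matrix ring of a division ring is simple. -/
theorem isSimpleModule_column [NeZero n] :
    IsSimpleModule (Matrix (Fin n) (Fin n) D) (Fin n → D) := by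
  classical
  rw [isSimpleModule_iff_toSpanSingleton_surjective]
  refine ⟨inferInstance, fun v hv w => ?_⟩
  obtain ⟨j, hj⟩ : ∃ j, v j ≠ 0 := by
    by_contra h
    push Not at h
    exact hv (funext h)
  refine ⟨Matrix.of fun i l => if l = j then w i * (v j)⁻¹ else 0, ?_⟩
  ext i
  simp [LinearMap.toSpanSingleton_apply, Matrix.mulVec, dotProduct, hj]

variable (k : Type u) [Field k] [Algebra k D]

/-- Endomorphisms of the module of column vectors are right multiplications. -/
noncomputable def endColumn [NeZero n] :
    Dᵐᵒᵖ ≃ₐ[k] Module.End (Matrix (Fin n) (Fin n) D) (Fin n → D) := by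
  classical
  refine AlgEquiv.ofBijective
    ({ toFun := fun d =>
        { toFun := fun v i => v i * d.unop
          map_add' := fun v w => by ext i; simp [add_mul]
          map_smul' := fun M v => by
            ext i
            simp [Matrix.mulVec, dotProduct, Finset.sum_mul, mul_assoc] }
       map_one' := by ext v i; simp
       map_mul' := fun a b => by
        ext v i
        simp [mul_assoc]
       map_zero' := by ext v i; simp
       map_add' := fun a b => by ext v i; simp [mul_add]
       commutes' := fun r => by
        ext v i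
        simp [Algebra.smul_def, Algebra.commutes] } :
      Dᵐᵒᵖ →ₐ[k] Module.End (Matrix (Fin n) (Fin n) D) (Fin n → D)) ⟨?_, ?_⟩
  · intro a b hab
    have := congrFun (LinearMap.congr_fun hab (fun _ => 1)) (0 : Fin n)
    simpa using this
  · intro f
    refine ⟨op (f (Pi.single 0 1) 0), ?_⟩
    ext v i
    have h1 : f (Pi.single 0 1) = fun i => if i = 0 then f (Pi.single 0 1) 0 else 0 := by
      have : f ((Matrix.single (0 : Fin n) (0 : Fin n) (1 : D)) • (Pi.single 0 1 : Fin n → D)) =
          (Matrix.single (0 : Fin n) (0 : Fin n) (1 : D)) • f (Pi.single 0 1) := map_smul _ _ _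
      have h2 : (Matrix.single (0 : Fin n) (0 : Fin n) (1 : D)) • (Pi.single 0 1 : Fin n → D) =
          (Pi.single 0 1 : Fin n → D) := by
        ext i
        simp [Matrix.mulVec, dotProduct, Matrix.single_apply, Pi.single_apply, eq_comm]
      rw [h2] at this
      ext i
      conv_lhs => rw [this]
      simp only [Matrix.smul_eq_mulVec, Matrix.mulVec, dotProduct, Matrix.single_apply, ite_mul,
        one_mul, zero_mul]
      by_cases hi : i = 0
      · simp [hi, eq_comm]
      · simp [hi, eq_comm]
    have h3 : v = (Matrix.of fun i l => if l = 0 then v i else 0 : Matrix (Fin n) (Fin n) D) •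
        (Pi.single 0 1 : Fin n → D) := by
      ext i
      simp [Matrix.mulVec, dotProduct]
    conv_rhs => rw [h3, map_smul, h1]
    simp [Matrix.mulVec, dotProduct]

theorem nonempty_algEquiv (D' : Type w) [DivisionRing D'] [Algebra k D'] (m : ℕ) [NeZero n]
    [NeZero m] [FiniteDimensional k D]
    (e : Matrix (Fin n) (Fin n) D ≃ₐ[k] Matrix (Fin m) (Fin m) D') :
    Nonempty (D ≃ₐ[k] D') := by
  let : Module (Matrix (Fin n) (Fin n) D) (Fin m → D') := Module.compHom _ e.toRingHom
  have hsm : ∀ (r : Matrix (Fin n) (Fin n) D) (v : Fin m → D'), r • v = e r • v := fun _ _ => rfl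
  have : IsScalarTower k (Matrix (Fin n) (Fin n) D) (Fin m → D') := ⟨fun a r v => by
    rw [hsm, hsm, map_smul, smul_assoc]⟩
  have h1 := isSimpleModule_column D n
  have h2 := isSimpleModule_column D' m
  have h3 : IsSimpleModule (Matrix (Fin n) (Fin n) D) (Fin m → D') := by
    rw [isSimpleModule_iff_toSpanSingleton_surjective] at h2 ⊢
    refine ⟨h2.1, fun x hx y => ?_⟩
    obtain ⟨r, hr⟩ := h2.2 x hx y
    obtain ⟨s, rfl⟩ := e.surjective r
    exact ⟨s, hr⟩
  have : IsArtinianRing (Matrix (Fin n) (Fin n) D) := IsArtinianRing.of_finite k _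
  obtain ⟨f⟩ := EndDim.nonempty_linearEquiv_of_simple (Matrix (Fin n) (Fin n) D)
    (Fin n → D) (Fin m → D')
  let g : Module.End (Matrix (Fin m) (Fin m) D') (Fin m → D') ≃ₐ[k]
      Module.End (Matrix (Fin n) (Fin n) D) (Fin m → D') :=
    { toFun := fun φ =>
        { toFun := φ
          map_add' := map_add φ
          map_smul' := fun r v => φ.map_smul (e r) v }
      invFun := fun φ =>
        { toFun := φ
          map_add' := map_add φ
          map_smul' := fun r v => by
            have := φ.map_smul (e.symm r) v
            rw [hsm, hsm] at this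
            simpa using this }
      left_inv := fun φ => rfl
      right_inv := fun φ => rfl
      map_mul' := fun φ ψ => rfl
      map_add' := fun φ ψ => rfl
      commutes' := fun r => rfl }
  let h : Dᵐᵒᵖ ≃ₐ[k] D'ᵐᵒᵖ :=
    (endColumn D n k).trans ((f.conjAlgEquiv k).trans (g.symm.trans (endColumn D' m k).symm))
  exact ⟨AlgEquiv.op.symm h⟩

end Groth.Agent.CurvesA.MatrixDiv
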