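import Groth.Agent.CurvesA.GlueBC

/-!
# Base change along a pushout of rings
-/

set_option autoImplicit false

open TensorProduct

namespace Groth.Agent.CurvesA.PushBC

open GlueBC

variable (R S A B : Type*) [CommRing R] [CommRing S] [CommRing A] [CommRing B]
  [Algebra R S] [Algebra R A] [Algebra R B] [Algebra A B] [Algebra S B]
  [IsScalarTower R A B] [IsScalarTower R S B] [Algebra.IsPushout R S A B]
  {N N' : Type*} [AddCommGroup N] [AddCommGroup N'] [Module R N] [Module A N] [IsScalarTower R A N]
  [Module R N'] [Module A N'] [Module S N'] [Module B N']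
  [IsScalarTower R A N'] [IsScalarTower R S N'] [IsScalarTower R B N'] [IsScalarTower A B N']
  [IsScalarTower S B N']

theorem lft_comm (h : N →ₗ[A] N') (x : S ⊗[R] N) :
    lft (S := S) (h.restrictScalars R) x =
      lft (S := B) h ((Algebra.IsPushout.cancelBaseChange R S A B N).symm x) := by
  induction x using TensorProduct.induction_on with
  | zero => simp
  | tmul s n => simp
  | add x y hx hy => simp only [map_add, hx, hy]

/-- If `B = S ⊗[R] A`, then base change along `A → B` is the same as base change along `R → S`. -/
theorem isBaseChange_iff_of_isPushout (h : N →ₗ[A] N') :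
    IsBaseChange S (h.restrictScalars R) ↔ IsBaseChange B h := by
  rw [isBaseChange_iff, isBaseChange_iff]
  have key : (lft (S := S) (h.restrictScalars R) : S ⊗[R] N → N') =
      (lft (S := B) h : B ⊗[A] N → N') ∘ (Algebra.IsPushout.cancelBaseChange R S A B N).symm := by
    funext x
    exact lft_comm R S A B h x
  rw [key]
  exact (Function.Bijective.of_comp_iff _ (Algebra.IsPushout.cancelBaseChange R S A B N).symm.bijective)

end Groth.Agent.CurvesA.PushBC
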