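import Groth.Agent.CurvesA.SepSplit
import Groth.Agent.S0189
import Mathlib.FieldTheory.SeparableDegree

/-!
# Separable maximal commutative subalgebras of central division algebras
-/

set_option autoImplicit false
universe u v w
open scoped TensorProduct

namespace Groth.Agent.CurvesA.SepMax

theorem adjoinRoot_isSeparable (E : Type u) [Field E] (p : Polynomial E) [Fact (Irreducible p)]
    (hp : p.Separable) : Algebra.IsSeparable E (AdjoinRoot p) := by
  have h0 : p ≠ 0 := (Fact.out : Irreducible p).ne_zero
  have h1 : IsSeparable E (AdjoinRoot.root p) := by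
    have hd : minpoly E (AdjoinRoot.root p) ∣ p := by
      refine minpoly.dvd _ _ ?_
      simp
    exact hp.of_dvd hd
  have h2 := (IntermediateField.isSeparable_adjoin_simple_iff_isSeparable E (AdjoinRoot p)
    (x := AdjoinRoot.root p)).mpr h1
  have h3 : IntermediateField.adjoin E {AdjoinRoot.root p} = ⊤ := by
    rw [eq_top_iff]
    intro x _
    have h4 : x ∈ Algebra.adjoin E {AdjoinRoot.root p} := by
      rw [AdjoinRoot.adjoinRoot_eq_top]; trivial
    exact IntermediateField.algebra_adjoin_le_adjoin E _ h4
  rw [h3] at h2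
  exact Algebra.IsSeparable.of_algHom E (⊤ : IntermediateField E (AdjoinRoot p))
    (IntermediateField.topEquiv.symm.toAlgHom)

/-- Extension step: if a finite separable field `E` maps to the central division algebra `D` and
its centralizer is bigger than the image, then a strictly bigger finite separable field
extension maps to `D`. -/
theorem exists_bigger (k : Type u) [Field k] (D : Type v) [DivisionRing D] [Algebra k D]
    [Algebra.IsCentral k D] [FiniteDimensional k D] (E : Type u) [Field E] [Algebra k E]
    [FiniteDimensional k E] [Algebra.IsSeparable k E] (f : E →ₐ[k] D)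
    (hne : Subalgebra.centralizer k (f.range : Set D) ≠ f.range) :
    ∃ (E' : Type u) (_ : Field E') (_ : Algebra k E') (_ : E' →ₐ[k] D),
      FiniteDimensional k E' ∧ Algebra.IsSeparable k E' ∧
      Module.finrank k E < Module.finrank k E' := by
  have hinjf : Function.Injective f := (f : E →+* D).injective
  let eE : E ≃ₐ[k] f.range := AlgEquiv.ofInjective f hinjf
  have hsimple : IsSimpleRing f.range := IsSimpleRing.of_ringEquiv eE.toRingEquiv inferInstance
  have hdc := Groth.Agent.S0189.result k D f.range
  set C := Subalgebra.centralizer k (f.range : Set D) with hC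
  have hcomm : ∀ (e : E) (x : D), x ∈ C → f e * x = x * f e := by
    intro e x hx
    rw [hC, Subalgebra.mem_centralizer_iff] at hx
    exact hx (f e) ⟨e, rfl⟩
  have hfC : ∀ e : E, f e ∈ C := by
    intro e
    rw [hC, Subalgebra.mem_centralizer_iff]
    rintro _ ⟨e', rfl⟩
    change f e' * f e = f e * f e'
    rw [← map_mul, mul_comm, map_mul]
  let g : E →ₐ[k] C := f.codRestrict C hfC
  let _ : DivisionRing C := divisionRingOfFiniteDimensional k C
  let _ : Algebra E C := RingHom.toAlgebra' (g : E →+* C) (fun e x => Subtype.ext (hcomm e x.1 x.2))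
  have : IsScalarTower k E C := IsScalarTower.of_algebraMap_eq fun r => (g.commutes r).symm
  have : FiniteDimensional k C := inferInstance
  have : FiniteDimensional E C := FiniteDimensional.right k E C
  have hbot : ∀ x : C, x ∈ (⊥ : Subalgebra E C) ↔ (x : D) ∈ f.range := by
    intro x
    rw [Algebra.mem_bot]
    constructor
    · rintro ⟨e, rfl⟩
      exact ⟨e, rfl⟩
    · rintro ⟨e, he⟩
      exact ⟨e, Subtype.ext he⟩
  have : Algebra.IsCentral E C := by
    refine ⟨fun x hx => ?_⟩
    rw [hbot, ← hdc]
    rw [Subalgebra.mem_centralizer_iff]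
    intro y hy
    rw [Subalgebra.mem_center_iff] at hx
    exact congrArg Subtype.val (hx ⟨y, hy⟩)
  have hne' : (⊥ : Subalgebra E C) ≠ ⊤ := by
    intro h
    apply hne
    refine le_antisymm (fun x hx => ?_) ?_
    · rw [← hbot ⟨x, hx⟩, h]; trivial
    · rintro _ ⟨e, rfl⟩
      exact hfC e
  obtain ⟨x, hx, hsep⟩ := JacobsonNoether.exists_separable_and_not_isCentral' (L := E) (D := C) hne'
  have hint : IsIntegral E x := hsep.isIntegral
  have hirr := minpoly.irreducible hint
  have : Fact (Irreducible (minpoly E x)) := ⟨hirr⟩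
  let E' := AdjoinRoot (minpoly E x)
  have : IsScalarTower k E E' := inferInstance
  have : FiniteDimensional E E' := (AdjoinRoot.powerBasis (minpoly.ne_zero hint)).finite
  have : FiniteDimensional k E' := FiniteDimensional.trans k E E'
  have : Algebra.IsSeparable E E' := adjoinRoot_isSeparable E _ hsep
  let h : E' →ₐ[E] C := Ideal.Quotient.liftₐ (R₁ := E) (Ideal.span {minpoly E x}) (Polynomial.aeval x) (by
    intro a ha
    obtain ⟨b, rfl⟩ := Ideal.mem_span_singleton'.mp ha
    simp)
  refine ⟨E', inferInstance, inferInstance, C.val.comp (h.restrictScalars k), inferInstance,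
    Algebra.IsSeparable.trans k E E', ?_⟩
  have h1 : Module.finrank E E' = (minpoly E x).natDegree := by
    rw [(AdjoinRoot.powerBasis (minpoly.ne_zero hint)).finrank, AdjoinRoot.powerBasis_dim]
  have h2 : 2 ≤ (minpoly E x).natDegree := by
    rw [minpoly.two_le_natDegree_iff hint]
    rintro ⟨e, he⟩
    exact hx (Algebra.mem_bot.mpr ⟨e, he⟩)
  rw [← Module.finrank_mul_finrank k E E', h1]
  have h3 : 0 < Module.finrank k E := Module.finrank_pos
  nlinarith

/-- A finite central division algebra contains a maximal commutative subalgebra which is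
separable over the base field. -/
theorem exists_separable_maximal (k : Type u) [Field k]
    (D : Type v) [DivisionRing D] [Algebra k D] [Algebra.IsCentral k D] [FiniteDimensional k D] :
    ∃ L : Subalgebra k D, (∀ x ∈ L, ∀ y ∈ L, x * y = y * x) ∧
      (∀ L' : Subalgebra k D, (∀ x ∈ L', ∀ y ∈ L', x * y = y * x) → L ≤ L' → L' = L) ∧
      Algebra.IsSeparable k L := by
  classical
  let P : ℕ → Prop := fun m => ∃ (E : Type u) (_ : Field E) (_ : Algebra k E) (_ : E →ₐ[k] D),
      FiniteDimensional k E ∧ Algebra.IsSeparable k E ∧ Module.finrank k E = m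
  have hP1 : P 1 := ⟨k, inferInstance, inferInstance, Algebra.ofId k D, inferInstance,
    inferInstance, Module.finrank_self k⟩
  have hbd : ∀ m, P m → m ≤ Module.finrank k D := by
    rintro m ⟨E, _, _, f, _, _, rfl⟩
    exact LinearMap.finrank_le_finrank_of_injective (f := f.toLinearMap) (f : E →+* D).injective
  obtain ⟨m, ⟨E, _, _, f, _, _, hm⟩, hmax⟩ : ∃ m, P m ∧ ∀ m', P m' → m' ≤ m := by
    refine ⟨Nat.findGreatest P (Module.finrank k D), ?_, ?_⟩
    · exact Nat.findGreatest_spec (hbd 1 hP1) hP1
    · intro m' hm'
      exact Nat.le_findGreatest (hbd m' hm') hm'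
  have hC : Subalgebra.centralizer k (f.range : Set D) = f.range := by
    by_contra hne
    obtain ⟨E', i1, i2, f', i3, i4, hlt⟩ := exists_bigger k D E f hne
    have := hmax _ ⟨E', i1, i2, f', i3, i4, rfl⟩
    omega
  refine ⟨f.range, ?_, ?_, ?_⟩
  · rintro _ ⟨x, rfl⟩ _ ⟨y, rfl⟩
    change f x * f y = f y * f x
    rw [← map_mul, mul_comm, map_mul]
  · intro L' hL' hle
    refine le_antisymm ?_ hle
    rw [← hC]
    intro x hx
    rw [Subalgebra.mem_centralizer_iff]
    intro y hy
    exact hL' y (hle hy) x hx
  · refine ⟨?_⟩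
    rintro ⟨_, e, rfl⟩
    have h1 : minpoly k (f.rangeRestrict e) = minpoly k e :=
      minpoly.algHom_eq f.rangeRestrict (fun a b hab => (f : E →+* D).injective
        (congrArg Subtype.val hab)) e
    change (minpoly k (f.rangeRestrict e)).Separable
    rw [h1]
    exact Algebra.IsSeparable.isSeparable k e

end Groth.Agent.CurvesA.SepMax
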