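import Mathlib.RingTheory.Valuation.ValuationSubring
import Mathlib.RingTheory.IntegralClosure.Algebra.Basic
import Mathlib.RingTheory.IntegralClosure.IsIntegral.Basic
import Mathlib.Algebra.Order.GroupWithZero.WithZero
import Mathlib.RingTheory.Adjoin.Polynomial.Basic
import Groth.Agent.MiscA.WCPlace

/-!
# The place at infinity of a curve with one point at infinity

`R` a `k`-subalgebra of the field `K`, with fraction field `K`, `v` a `ℤᵐ⁰`-valued valuation of `K`, trivial on
`k`, whose values on nonzero elements of `R` are `exp m` with `m` natural, and such that elements of `R` with the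
same value are proportional modulo smaller values. Then `v.valuationSubring` is the only proper valuation subring
of `K` containing `k` and not containing `R`.
-/

set_option autoImplicit false
open WithZero

namespace Groth.Agent.CurvesA.SpPlaceInf

universe u v

variable {k : Type u} {K : Type v} [Field k] [Field K] [Algebra k K]

/-- Valuation subrings containing the ring of a `ℤᵐ⁰`-valued valuation. -/
theorem eq_of_le {v : Valuation K ℤᵐ⁰} {O' : ValuationSubring K} (h : v.valuationSubring ≤ O')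
    (htop : O' ≠ ⊤) : O' = v.valuationSubring := by
  refine le_antisymm ?_ h
  intro f hf
  rw [Valuation.mem_valuationSubring_iff]
  by_contra hcon
  apply htop
  rw [eq_top_iff]
  intro g _
  push Not at hcon
  have hf0 : v f ≠ 0 := (zero_lt_one.trans hcon).ne'
  by_cases hg0 : g = 0
  · rw [hg0]
    exact O'.zero_mem
  have hg0' : v g ≠ 0 := by simpa using hg0
  have hf1 : 1 ≤ log (v f) := by
    have h3 := hcon
    rw [← exp_log hf0, ← exp_zero, exp_lt_exp] at h3
    omega
  have hf00 : f ≠ 0 := by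
    rintro rfl
    exact hf0 (map_zero v)
  have hM : g * f⁻¹ ^ (log (v g)).toNat ∈ v.valuationSubring := by
    rw [Valuation.mem_valuationSubring_iff, map_mul, map_pow, map_inv₀, inv_pow,
      mul_inv_le_iff₀ (pow_pos (zero_lt_one.trans hcon) _), one_mul, ← exp_log hg0',
      ← exp_log hf0, ← exp_nsmul, exp_le_exp, log_exp]
    have : log (v g) ≤ ((log (v g)).toNat : ℤ) := Int.self_le_toNat _
    calc log (v g) ≤ ((log (v g)).toNat : ℤ) := this
      _ ≤ (log (v g)).toNat • log (v f) := by
        rw [nsmul_eq_mul]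
        have h0 : (0 : ℤ) ≤ ((log (v g)).toNat : ℤ) := Int.natCast_nonneg _
        nlinarith
  have h4 : g = g * f⁻¹ ^ (log (v g)).toNat * f ^ (log (v g)).toNat := by
    rw [mul_assoc, ← mul_pow, inv_mul_cancel₀ hf00, one_pow, mul_one]
  rw [h4]
  exact O'.mul_mem _ _ (h hM) (pow_mem hf _)

section Main

variable (R : Subalgebra k K) (v : Valuation K ℤᵐ⁰)
  (hv : ∀ a ∈ R, a ≠ 0 → ∃ m : ℕ, v a = exp (m : ℤ))
  (hlead : ∀ a ∈ R, ∀ b ∈ R, a ≠ 0 → b ≠ 0 → v a = v b → ∃ c : k, v (a - algebraMap k K c * b) < v a)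
  {x : K} (hxR : x ∈ R) {N : ℕ} (hN : 0 < N) (hx : v x = exp (N : ℤ))

include hv hlead hxR hN hx

theorem x_ne_zero : x ≠ 0 := by
  rintro rfl
  rw [map_zero] at hx
  exact exp_ne_zero hx.symm

/-- Apery basis. -/
theorem exists_apery : ∃ (d : Fin N → ℕ) (e : Fin N → K), (∀ r, e r ∈ R) ∧
    (∀ r, v (e r) ≤ exp (d r : ℤ)) ∧
    ∀ (m : ℕ) (a : K), a ∈ R → v a ≤ exp (m : ℤ) →
      a ∈ Submodule.span k {y : K | ∃ (r : Fin N) (s : ℕ), d r + N * s ≤ m ∧ y = x ^ s * e r} := by
  classical
  have hx0 := x_ne_zero R v hv hlead hxR hN hx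
  have hex : ∀ r : Fin N, ∃ (d : ℕ) (e : K), e ∈ R ∧ v e ≤ exp (d : ℤ) ∧
      ∀ (m : ℕ) (a : K), a ∈ R → v a = exp (m : ℤ) → m % N = r → d ≤ m ∧ d % N = r ∧
        v e = exp (d : ℤ) := by
    intro r
    by_cases h : ∃ m : ℕ, m % N = r ∧ ∃ a ∈ R, v a = exp (m : ℤ)
    · obtain ⟨h1, a, ha, hva⟩ := Nat.find_spec h
      refine ⟨Nat.find h, a, ha, hva.le, ?_⟩
      intro m b hb hvb hm
      exact ⟨Nat.find_min' h ⟨hm, b, hb, hvb⟩, h1, hva⟩
    · refine ⟨0, 0, R.zero_mem, by simp, ?_⟩
      intro m a ha hva hm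
      exact absurd ⟨m, hm, a, ha, hva⟩ h
  choose d e heR hed hmin using hex
  refine ⟨d, e, heR, hed, ?_⟩
  intro m
  induction m using Nat.strong_induction_on with
  | _ m ih =>
    intro a ha hva
    by_cases ha0 : a = 0
    · rw [ha0]
      exact Submodule.zero_mem _
    obtain ⟨m', hm'⟩ := hv a ha ha0
    have hm'm : m' ≤ m := by
      rw [hm', exp_le_exp] at hva
      exact_mod_cast hva
    let r : Fin N := ⟨m' % N, Nat.mod_lt _ hN⟩
    obtain ⟨h1, h2, h3⟩ := hmin r m' a ha hm' rfl
    have h2' : d r % N = m' % N := h2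
    obtain ⟨s, hs⟩ : ∃ s, m' = d r + N * s := by
      have hdvd : N ∣ m' - d r := (Nat.modEq_iff_dvd' h1).1 h2'
      obtain ⟨s, hs⟩ := hdvd
      exact ⟨s, by omega⟩
    have her0 : e r ≠ 0 := by
      intro h0
      rw [h0, map_zero] at h3
      exact exp_ne_zero h3.symm
    have hval : v (x ^ s * e r) = exp (m' : ℤ) := by
      rw [map_mul, map_pow, hx, h3, ← exp_nsmul, ← exp_add]
      congr 1
      rw [nsmul_eq_mul, hs]
      push_cast
      ring
    have hbR : x ^ s * e r ∈ R := R.mul_mem (R.pow_mem hxR s) (heR r)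
    obtain ⟨c, hc⟩ := hlead a ha _ hbR ha0 (mul_ne_zero (pow_ne_zero _ hx0) her0)
      (hm'.trans hval.symm)
    have hmem : x ^ s * e r ∈ Submodule.span k
        {y : K | ∃ (r : Fin N) (s : ℕ), d r + N * s ≤ m ∧ y = x ^ s * e r} :=
      Submodule.subset_span ⟨r, s, by omega, rfl⟩
    have hdR : a - algebraMap k K c * (x ^ s * e r) ∈ R :=
      R.sub_mem ha (R.mul_mem (R.algebraMap_mem c) hbR)
    have hdiff : a - algebraMap k K c * (x ^ s * e r) ∈ Submodule.span k
        {y : K | ∃ (r : Fin N) (s : ℕ), d r + N * s ≤ m ∧ y = x ^ s * e r} := by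
      by_cases hd0 : a - algebraMap k K c * (x ^ s * e r) = 0
      · rw [hd0]
        exact Submodule.zero_mem _
      obtain ⟨m'', hm''⟩ := hv _ hdR hd0
      rw [hm'', hm', exp_lt_exp] at hc
      have hlt : m'' < m' := by exact_mod_cast hc
      refine Submodule.span_mono ?_ (ih m'' (by omega) _ hdR hm''.le)
      rintro _ ⟨r, s, hrs, rfl⟩
      exact ⟨r, s, by omega, rfl⟩
    have hsum : a = (a - algebraMap k K c * (x ^ s * e r)) + c • (x ^ s * e r) := by
      rw [Algebra.smul_def]
      ring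
    rw [hsum]
    exact Submodule.add_mem _ hdiff (Submodule.smul_mem _ c hmem)

/-- Elements of `R` of bounded pole order, divided by powers of `x`, are integral over `k[1/x]`. -/
theorem isIntegral_div {j : ℕ} {c : K} (hc : c ∈ R) (hvc : v c ≤ exp ((j * N : ℕ) : ℤ)) :
    IsIntegral (Algebra.adjoin k {x⁻¹}) (c / x ^ j) := by
  classical
  have hx0 := x_ne_zero R v hv hlead hxR hN hx
  obtain ⟨d, e, heR, hed, hspan⟩ := exists_apery R v hv hlead hxR hN hx
  let h : Fin N → ℕ := fun r => (d r + N - 1) / N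
  have hdh : ∀ r, d r ≤ h r * N := by
    intro r
    have := Nat.lt_div_mul_add (a := d r + N - 1) hN
    change d r ≤ (d r + N - 1) / N * N
    omega
  have hhj : ∀ (r : Fin N) (s j : ℕ), d r + N * s ≤ j * N → s + h r ≤ j := by
    intro r s j hj
    have h1 : h r * N ≤ d r + N - 1 := Nat.div_mul_le_self _ _
    by_contra hlt
    push Not at hlt
    have h2 : (j + 1) * N ≤ (s + h r) * N := Nat.mul_le_mul_right _ hlt
    have h3 : (s + h r) * N ≤ N * s + (d r + N - 1) := by
      rw [add_mul, mul_comm s N]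
      omega
    have h4 : (j + 1) * N = j * N + N := by ring
    omega
  let u : Algebra.adjoin k {x⁻¹} := ⟨x⁻¹, Algebra.self_mem_adjoin_singleton k x⁻¹⟩
  let M : Submodule (Algebra.adjoin k {x⁻¹}) K :=
    Submodule.span _ (Set.range fun r => e r / x ^ h r)
  -- bounded elements are in `M`
  have hBM : ∀ (j : ℕ) (c : K), c ∈ R → v c ≤ exp ((j * N : ℕ) : ℤ) → c / x ^ j ∈ M := by
    intro j c hc hvc
    have hk1 := hspan (j * N) c hc hvc
    have hle : Submodule.span k {y : K | ∃ (r : Fin N) (s : ℕ), d r + N * s ≤ j * N ∧ y = x ^ s * e r} ≤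
        ((M.restrictScalars k).comap (LinearMap.mulRight k (x ^ j)⁻¹)) := by
      rw [Submodule.span_le]
      rintro _ ⟨r, s, hrs, rfl⟩
      change x ^ s * e r * (x ^ j)⁻¹ ∈ M
      have hsj := hhj r s j hrs
      obtain ⟨i, rfl⟩ := Nat.exists_eq_add_of_le hsj
      have heq : x ^ s * e r * (x ^ (s + h r + i))⁻¹ = (u ^ i) • (e r / x ^ h r) := by
        rw [Algebra.smul_def]
        change _ = (x⁻¹) ^ i * (e r / x ^ h r)
        rw [pow_add, pow_add, inv_pow]
        field_simp
      rw [heq]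
      exact Submodule.smul_mem _ _ (Submodule.subset_span ⟨r, rfl⟩)
    have := hle hk1
    change c * (x ^ j)⁻¹ ∈ M at this
    rwa [div_eq_mul_inv]
  have hFG : M.FG := Submodule.fg_span (Set.finite_range _)
  have hne : M ≠ ⊥ := by
    intro hbot
    have h1 := hBM 0 1 R.one_mem (by simp)
    rw [hbot, Submodule.mem_bot, pow_zero, div_one] at h1
    exact one_ne_zero h1
  refine isIntegral_of_smul_mem_submodule M hne hFG _ ?_
  intro n hn
  induction hn using Submodule.span_induction with
  | mem y hy =>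
    obtain ⟨r, rfl⟩ := hy
    have h1 := hBM (j + h r) (c * e r) (R.mul_mem hc (heR r)) (by
      rw [map_mul]
      calc v c * v (e r) ≤ exp ((j * N : ℕ) : ℤ) * exp (d r : ℤ) := by
            gcongr
            exact hed r
        _ ≤ exp ((j * N : ℕ) : ℤ) * exp ((h r * N : ℕ) : ℤ) := by
            gcongr
            exact exp_le_exp.2 (by exact_mod_cast hdh r)
        _ = exp (((j + h r) * N : ℕ) : ℤ) := by
            rw [← exp_add]
            congr 1
            push_cast
            ring)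
    rw [smul_eq_mul]
    have h2 : c / x ^ j * (e r / x ^ h r) = c * e r / x ^ (j + h r) := by
      rw [pow_add]
      field_simp
    rw [h2]
    exact h1
  | zero => simp
  | add a b _ _ ha hb =>
    rw [smul_add]
    exact M.add_mem ha hb
  | smul a y _ hy =>
    rw [smul_comm]
    exact M.smul_mem a hy

variable (hfrac : ∀ f : K, ∃ a ∈ R, ∃ b ∈ R, b ≠ 0 ∧ f = a / b)
  (hvk : ∀ c : k, c ≠ 0 → v (algebraMap k K c) = 1)

include hfrac hvk

/-- The place at infinity is the only place not containing `R`. -/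
theorem eq_valuationSubring (O' : ValuationSubring K) (htop : O' ≠ ⊤)
    (hk : ∀ c : k, algebraMap k K c ∈ O') (hR : ¬ ∀ a ∈ R, a ∈ O') : O' = v.valuationSubring := by
  classical
  have hx0 := x_ne_zero R v hv hlead hxR hN hx
  -- `x ∉ O'`
  have hxO : x ∉ O' := by
    intro hxO
    apply hR
    obtain ⟨d, e, heR, hed, hspan⟩ := exists_apery R v hv hlead hxR hN hx
    -- every element of `R` is integral over `k[x]`
    have hadj : ∀ r : Algebra.adjoin k {x}, algebraMap (Algebra.adjoin k {x}) K r ∈ O' := by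
      have : Algebra.adjoin k {x} ≤ (⟨O'.toSubring.toSubsemiring, hk⟩ : Subalgebra k K) :=
        Algebra.adjoin_le (by simpa using hxO)
      intro r
      exact this r.2
    let M : Submodule (Algebra.adjoin k {x}) K := Submodule.span _ (Set.range e)
    let t : Algebra.adjoin k {x} := ⟨x, Algebra.self_mem_adjoin_singleton k x⟩
    have hRM : ∀ a ∈ R, a ∈ M := by
      intro a ha
      have hle : ∀ m : ℕ, Submodule.span k
          {y : K | ∃ (r : Fin N) (s : ℕ), d r + N * s ≤ m ∧ y = x ^ s * e r} ≤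
          M.restrictScalars k := by
        intro m
        rw [Submodule.span_le]
        rintro _ ⟨r, s, -, rfl⟩
        have : x ^ s * e r = (t ^ s) • e r := by
          rw [Algebra.smul_def]
          rfl
        rw [this]
        exact M.smul_mem _ (Submodule.subset_span (Set.mem_range_self r))
      by_cases ha0 : a = 0
      · rw [ha0]
        exact M.zero_mem
      obtain ⟨m, hm⟩ := hv a ha ha0
      exact hle m (hspan m a ha hm.le)
    have hne : M ≠ ⊥ := by
      intro hbot
      have h1 := hRM 1 R.one_mem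
      rw [hbot, Submodule.mem_bot] at h1
      exact one_ne_zero h1
    intro a ha
    refine MiscA.WCPlace.mem_of_isIntegral O' hadj
      (isIntegral_of_smul_mem_submodule M hne (Submodule.fg_span (Set.finite_range _)) a ?_)
    intro n hn
    induction hn using Submodule.span_induction with
    | mem y hy =>
      obtain ⟨r, rfl⟩ := hy
      exact hRM _ (R.mul_mem ha (heR r))
    | zero => simp
    | add a b _ _ ha hb =>
      rw [smul_add]
      exact M.add_mem ha hb
    | smul a y _ hy =>
      rw [smul_comm]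
      exact M.smul_mem a hy
  have hxinv : x⁻¹ ∈ O' := (O'.mem_or_inv_mem x).resolve_left hxO
  have hxval : 1 < O'.valuation x := by
    rw [← not_le, O'.valuation_le_one_iff]
    exact hxO
  have hxinvval : O'.valuation x⁻¹ < 1 := by
    rw [map_inv₀]
    exact inv_lt_one_of_one_lt₀ hxval
  have hadj : ∀ r : Algebra.adjoin k {x⁻¹}, algebraMap (Algebra.adjoin k {x⁻¹}) K r ∈ O' := by
    have : Algebra.adjoin k {x⁻¹} ≤ (⟨O'.toSubring.toSubsemiring, hk⟩ : Subalgebra k K) :=
      Algebra.adjoin_le (by simpa using hxinv)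
    intro r
    exact this r.2
  have hB : ∀ (j : ℕ) (c : K), c ∈ R → v c ≤ exp ((j * N : ℕ) : ℤ) → c / x ^ j ∈ O' :=
    fun j c hc hvc => MiscA.WCPlace.mem_of_isIntegral O' hadj
      (isIntegral_div R v hv hlead hxR hN hx hc hvc)
  -- elements of smaller value are in the maximal ideal
  have hsmall : ∀ (j : ℕ) (c : K), c ∈ R → v c < exp ((j * N : ℕ) : ℤ) →
      O'.valuation (c / x ^ j) < 1 := by
    intro j c hc hvc
    have h1 : (c / x ^ j) ^ N * x ∈ O' := by
      have h2 : c ^ N * x / x ^ (j * N) = (c / x ^ j) ^ N * x := by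
        rw [div_pow, ← pow_mul]
        ring
      rw [← h2]
      refine hB (j * N) _ (R.mul_mem (R.pow_mem hc N) hxR) ?_
      by_cases hc0 : c = 0
      · rw [hc0, zero_pow hN.ne', zero_mul, map_zero]
        exact zero_le
      obtain ⟨m, hm⟩ := hv c hc hc0
      rw [hm, exp_lt_exp] at hvc
      have hmlt : m + 1 ≤ j * N := by exact_mod_cast hvc
      rw [map_mul, map_pow, hm, hx, ← exp_nsmul, ← exp_add, exp_le_exp, nsmul_eq_mul]
      have h3 : (m + 1) * N ≤ j * N * N := Nat.mul_le_mul_right _ hmlt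
      have h4 : (N : ℤ) * m + N = (((m + 1) * N : ℕ) : ℤ) := by
        push_cast
        ring
      rw [h4]
      exact_mod_cast h3
    have h2 : O'.valuation (c / x ^ j) ^ N * O'.valuation x ≤ 1 := by
      rw [← map_pow, ← map_mul]
      exact (O'.valuation_le_one_iff _).2 h1
    by_contra hcon
    push Not at hcon
    have h3 : 1 ≤ O'.valuation (c / x ^ j) ^ N := one_le_pow₀ hcon
    have h4 : O'.valuation x ≤ O'.valuation (c / x ^ j) ^ N * O'.valuation x :=
      le_mul_of_one_le_left' h3
    exact absurd (h4.trans h2) (not_le.2 hxval)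
  -- the valuation ring of `v` is contained in `O'`
  refine eq_of_le ?_ htop
  intro f hf
  rw [Valuation.mem_valuationSubring_iff] at hf
  obtain ⟨a, ha, b, hb, hb0, rfl⟩ := hfrac f
  obtain ⟨m, hm⟩ := hv b hb hb0
  have hvb0 : 0 < v b := by
    rw [hm]
    exact zero_lt_iff.2 exp_ne_zero
  have hab : v a ≤ v b := by
    rw [map_div₀] at hf
    exact (div_le_one₀ hvb0).1 hf
  obtain ⟨N', rfl⟩ : ∃ N', N = N' + 1 := ⟨N - 1, by omega⟩
  -- numerator
  have hnum : a * b ^ N' / x ^ m ∈ O' := by
    refine hB m _ (R.mul_mem ha (R.pow_mem hb _)) ?_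
    rw [map_mul, map_pow]
    calc v a * v b ^ N' ≤ v b * v b ^ N' := by gcongr
      _ = exp ((m * (N' + 1) : ℕ) : ℤ) := by
        rw [← pow_succ', hm, ← exp_nsmul, nsmul_eq_mul]
        congr 1
        push_cast
        ring
  -- denominator
  have hbN : v (b ^ (N' + 1)) = v (x ^ m) := by
    rw [map_pow, map_pow, hm, hx, ← exp_nsmul, ← exp_nsmul, nsmul_eq_mul, nsmul_eq_mul,
      mul_comm]
  have hxm : v (x ^ m) = exp ((m * (N' + 1) : ℕ) : ℤ) := by
    rw [map_pow, hx, ← exp_nsmul, nsmul_eq_mul]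
    congr 1
  obtain ⟨c, hc⟩ := hlead (b ^ (N' + 1)) (R.pow_mem hb _) (x ^ m) (R.pow_mem hxR _)
    (pow_ne_zero _ hb0) (pow_ne_zero _ hx0) hbN
  have hc0 : c ≠ 0 := by
    rintro rfl
    rw [map_zero, zero_mul, sub_zero] at hc
    exact absurd hc (lt_irrefl _)
  have hγ' : O'.valuation ((b ^ (N' + 1) - algebraMap k K c * x ^ m) / x ^ m) < 1 := by
    refine hsmall m _ (R.sub_mem (R.pow_mem hb _) (R.mul_mem (R.algebraMap_mem c)
      (R.pow_mem hxR _))) ?_
    rw [hbN, hxm] at hc
    exact hc
  have hkval : O'.valuation (algebraMap k K c) = 1 := by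
    refine le_antisymm ((O'.valuation_le_one_iff _).2 (hk c)) ?_
    have h1 := (O'.valuation_le_one_iff _).2 (hk c⁻¹)
    have hcK : algebraMap k K c ≠ 0 := by simpa using hc0
    rw [map_inv₀, map_inv₀] at h1
    by_contra hcon
    push Not at hcon
    have h2 : 1 < (O'.valuation (algebraMap k K c))⁻¹ :=
      (one_lt_inv₀ (zero_lt_iff.2 (by simpa using hc0))).2 hcon
    exact absurd h1 (not_le.2 h2)
  have hγ : O'.valuation (b ^ (N' + 1) / x ^ m) = 1 := by
    have h1 : b ^ (N' + 1) / x ^ m =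
        (b ^ (N' + 1) - algebraMap k K c * x ^ m) / x ^ m + algebraMap k K c := by
      have := pow_ne_zero m hx0
      field_simp
      ring
    rw [h1, Valuation.map_add_eq_of_lt_right _ (by rw [hkval]; exact hγ'), hkval]
  have h5 : a / b = (a * b ^ N' / x ^ m) * (b ^ (N' + 1) / x ^ m)⁻¹ := by
    have := pow_ne_zero m hx0
    field_simp
    ring
  rw [h5]
  refine O'.mul_mem _ _ hnum ?_
  rw [← O'.valuation_le_one_iff, map_inv₀, hγ, inv_one]

end Main

/-- Version for a `k`-algebra `A` with fraction field `K`. -/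
theorem eq_valuationSubring_of_isFractionRing {A : Type*} [CommRing A] [IsDomain A] [Algebra k A]
    [Algebra A K] [IsScalarTower k A K] [IsFractionRing A K] (v : Valuation K ℤᵐ⁰)
    (hvk : ∀ c : k, c ≠ 0 → v (algebraMap k K c) = 1)
    (hv : ∀ a : A, a ≠ 0 → ∃ m : ℕ, v (algebraMap A K a) = exp (m : ℤ))
    (hlead : ∀ a b : A, a ≠ 0 → b ≠ 0 → v (algebraMap A K a) = v (algebraMap A K b) →
      ∃ c : k, v (algebraMap A K (a - c • b)) < v (algebraMap A K a))
    (x : A) (N : ℕ) (hN : 0 < N) (hx : v (algebraMap A K x) = exp (N : ℤ))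
    (O' : ValuationSubring K) (htop : O' ≠ ⊤) (hk : ∀ c : k, algebraMap k K c ∈ O')
    (hA : ¬ ∀ a : A, algebraMap A K a ∈ O') : O' = v.valuationSubring := by
  let R : Subalgebra k K := (IsScalarTower.toAlgHom k A K).range
  have hinj : Function.Injective (algebraMap A K) := IsFractionRing.injective A K
  have hmem : ∀ a : A, algebraMap A K a ∈ R := fun a => ⟨a, rfl⟩
  refine eq_valuationSubring R v ?_ ?_ (hmem x) hN hx ?_ hvk O' htop hk ?_
  · rintro _ ⟨a, rfl⟩ ha
    refine hv a ?_
    rintro rfl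
    exact ha (map_zero _)
  · rintro _ ⟨a, rfl⟩ _ ⟨b, rfl⟩ ha hb hab
    obtain ⟨c, hc⟩ := hlead a b (by rintro rfl; exact ha (map_zero _))
      (by rintro rfl; exact hb (map_zero _)) hab
    refine ⟨c, ?_⟩
    rw [map_sub, Algebra.smul_def, map_mul, ← IsScalarTower.algebraMap_apply] at hc
    exact hc
  · intro f
    obtain ⟨a, b, hb, rfl⟩ := IsFractionRing.div_surjective (A := A) f
    exact ⟨_, hmem a, _, hmem b, fun h => nonZeroDivisors.ne_zero hb
      (hinj (by rw [h, map_zero])), rfl⟩
  · intro h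
    exact hA fun a => h _ (hmem a)

end Groth.Agent.CurvesA.SpPlaceInf
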