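import Groth.Agent.CurvesA.SpDefs
import Groth.Agent.CurvesA.SpPlaceInf922
import Groth.Agent.MiscA.WCSep
import Mathlib.Data.ZMod.Basic

/-!
# Specialization of torsion: decoding the structure constants

`A` an integrally closed domain over the algebraically closed field `k`, with a `k[x]`-basis `e₀ = 1, ..., e_n`
and a pole order valuation; then `A` is the ring of functions regular away from one place of its fraction field.
-/

set_option autoImplicit false
open WithZero Polynomial

namespace Groth.Agent.CurvesA.SpDec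

open Groth.Agent.MiscA.WCPlace Groth.Agent.MiscA.WCPlaceCrv Groth.Agent.CurvesA.Sp

universe u v

variable {k K : Type u} {A : Type v} [Field k] [Field K] [Algebra k K] [CommRing A] [IsDomain A]
  [Algebra k A] [Algebra A K] [IsScalarTower k A K] [IsFractionRing A K] {n : ℕ}

omit [IsDomain A] [IsFractionRing A K] in
/-- `A` is spanned over `k[x]` by `e`, so it is integral over `k[x]`. -/
theorem isIntegral_adjoin (x : A) (e : Fin (n + 1) → A)
    (hspan : ∀ a : A, ∃ u : Fin (n + 1) → k[X], a = ∑ i, aeval x (u i) * e i) (a : A) :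
    IsIntegral (Algebra.adjoin k {algebraMap A K x}) (algebraMap A K a) := by
  classical
  let M : Submodule (Algebra.adjoin k {algebraMap A K x}) K :=
    Submodule.span _ (Set.range fun i => algebraMap A K (e i))
  have hM : ∀ a : A, algebraMap A K a ∈ M := by
    intro a
    obtain ⟨u, hu⟩ := hspan a
    rw [hu, map_sum]
    refine sum_mem fun i _ => ?_
    have h1 : aeval (algebraMap A K x) (u i) ∈ Algebra.adjoin k {algebraMap A K x} := by
      rw [Algebra.adjoin_singleton_eq_range_aeval]
      exact ⟨u i, rfl⟩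
    have h2 : algebraMap A K (aeval x (u i) * e i) =
        (⟨_, h1⟩ : Algebra.adjoin k {algebraMap A K x}) • algebraMap A K (e i) := by
      rw [Algebra.smul_def, map_mul]
      change _ = aeval (algebraMap A K x) (u i) * _
      rw [aeval_algebraMap_apply]
    rw [h2]
    exact M.smul_mem _ (Submodule.subset_span ⟨i, rfl⟩)
  have hne : M ≠ ⊥ := by
    intro hbot
    have h1 := hM 1
    rw [hbot, Submodule.mem_bot, map_one] at h1
    exact one_ne_zero h1
  refine isIntegral_of_smul_mem_submodule M hne (Submodule.fg_span (Set.finite_range _)) _ ?_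
  intro m hm
  induction hm using Submodule.span_induction with
  | mem y hy =>
    obtain ⟨i, rfl⟩ := hy
    rw [smul_eq_mul, ← map_mul]
    exact hM _
  | zero => simp
  | add a b _ _ ha hb =>
    rw [smul_add]
    exact M.add_mem ha hb
  | smul a y _ hy =>
    rw [smul_comm]
    exact M.smul_mem a hy

omit [IsDomain A] in
theorem finiteType (x : A) (e : Fin (n + 1) → A)
    (hspan : ∀ a : A, ∃ u : Fin (n + 1) → k[X], a = ∑ i, aeval x (u i) * e i) :
    Algebra.FiniteType k A := by
  refine ⟨Subalgebra.fg_def.2 ⟨{x} ∪ Set.range e, (Set.finite_singleton x).union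
    (Set.finite_range e), ?_⟩⟩
  rw [eq_top_iff]
  intro a _
  obtain ⟨u, hu⟩ := hspan a
  rw [hu]
  refine sum_mem fun i _ => Subalgebra.mul_mem _ ?_ (Algebra.subset_adjoin (Or.inr ⟨i, rfl⟩))
  have h1 : aeval x (u i) ∈ Algebra.adjoin k {x} := by
    rw [Algebra.adjoin_singleton_eq_range_aeval]
    exact ⟨u i, rfl⟩
  exact Algebra.adjoin_mono (Set.subset_union_left) h1

omit [IsDomain A] in
/-- The fraction field of `A` has a separating element. -/
theorem exists_isSep [PerfectField k] (x : A) (e : Fin (n + 1) → A)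
    (hspan : ∀ a : A, ∃ u : Fin (n + 1) → k[X], a = ∑ i, aeval x (u i) * e i)
    (htr : Transcendental k (algebraMap A K x)) : ∃ t : K, IsSep k K t := by
  have hft := finiteType x e hspan
  have hess1 : Algebra.EssFiniteType A K :=
    Algebra.EssFiniteType.of_isLocalization _ (nonZeroDivisors A)
  have hess : Algebra.EssFiniteType k K := Algebra.EssFiniteType.comp k A K
  refine Groth.Agent.MiscA.WCSep.exists_isSep_of_trdeg k K ?_
  have hind : AlgebraicIndependent k (fun _ : PUnit.{u + 1} => algebraMap A K x) := by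
    rw [algebraicIndependent_unique_type_iff]
    exact htr
  have hbas : IsTranscendenceBasis k (fun _ : PUnit.{u + 1} => algebraMap A K x) := by
    rw [hind.isTranscendenceBasis_iff_isAlgebraic]
    rw [Set.range_const]
    refine ⟨fun f => ?_⟩
    obtain ⟨a, b, hb, rfl⟩ := IsFractionRing.div_surjective (A := A) f
    have ha := (isIntegral_adjoin (K := K) x e hspan a).isAlgebraic
    have hb' := (isIntegral_adjoin (K := K) x e hspan b).isAlgebraic
    rw [div_eq_mul_inv]
    exact ha.mul hb'.inv
  have h2 := hbas.cardinalMk_eq_trdeg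
  rw [← h2, Cardinal.mk_punit]

/-- Transcendence from a pole. -/
theorem transcendental_of_pole (v : Valuation K ℤᵐ⁰)
    (hvk : ∀ c : k, c ≠ 0 → v (algebraMap k K c) = 1) {x : K} {N : ℕ} (hN : 0 < N)
    (hx : v x = exp (N : ℤ)) : Transcendental k x := by
  intro h
  have hvk' : ∀ c : k, algebraMap k K c ∈ v.valuationSubring := by
    intro c
    rw [Valuation.mem_valuationSubring_iff]
    by_cases hc : c = 0
    · rw [hc, map_zero, map_zero]
      exact zero_le
    · exact (hvk c hc).le
  have h1 : x ∈ v.valuationSubring := mem_of_isIntegral _ hvk' h.isIntegral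
  rw [Valuation.mem_valuationSubring_iff, hx, ← exp_zero, exp_le_exp] at h1
  omega

/-- The place at infinity. -/
def place (v : Valuation K ℤᵐ⁰) (hvk : ∀ c : k, c ≠ 0 → v (algebraMap k K c) = 1) {x : K} {N : ℕ}
    (hN : 0 < N) (hx : v x = exp (N : ℤ)) : Place k K :=
  ⟨v.valuationSubring, by
    intro h
    have h1 : x ∈ v.valuationSubring := by
      rw [h]
      exact ValuationSubring.mem_top _
    rw [Valuation.mem_valuationSubring_iff, hx, ← exp_zero, exp_le_exp] at h1
    omega, by
    intro c
    rw [Valuation.mem_valuationSubring_iff]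
    by_cases hc : c = 0
    · rw [hc, map_zero, map_zero]
      exact zero_le
    · exact (hvk c hc).le⟩

/-- A uniformizer, from pole orders. -/
theorem exists_unif (v : Valuation K ℤᵐ⁰) {x : K} {e : Fin (n + 1) → K} {s : Fin (n + 1) → ℕ}
    (hs : ∀ i j, s i ≡ s j [MOD (n + 1)] → i = j) (hx : v x = exp ((n + 1 : ℕ) : ℤ))
    (he : ∀ i, v (e i) = exp (s i : ℤ)) : ∃ π, v π = exp (-1 : ℤ) := by
  have hinj : Function.Injective (fun i : Fin (n + 1) => ((s i : ℕ) : ZMod (n + 1))) := by
    intro i j hij
    exact hs i j ((ZMod.natCast_eq_natCast_iff _ _ _).1 hij)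
  have hsurj : Function.Surjective (fun i : Fin (n + 1) => ((s i : ℕ) : ZMod (n + 1))) :=
    ((Fintype.bijective_iff_injective_and_card _).2 ⟨hinj, by simp [ZMod.card]⟩).2
  obtain ⟨i, hi⟩ := hsurj 1
  have h1 : (((n + 1 : ℕ) : ℤ)) ∣ (s i : ℤ) - 1 := by
    rw [← ZMod.intCast_zmod_eq_zero_iff_dvd]
    push_cast
    rw [sub_eq_zero]
    exact hi
  obtain ⟨q, hq⟩ := h1
  refine ⟨x ^ q / e i, ?_⟩
  rw [map_div₀, map_zpow₀, hx, he, ← exp_zsmul, ← exp_sub]
  congr 1
  rw [smul_eq_mul]
  linarith

/-- The coordinate ring is the ring of functions regular away from the place at infinity. -/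
theorem exists_pres [IsAlgClosed k] [IsIntegrallyClosed A] (x : A) (e : Fin (n + 1) → A)
    (s : Fin (n + 1) → ℕ) (P : SC n k[X])
    (hspan : ∀ a : A, ∃ u : Fin (n + 1) → k[X], a = ∑ i, aeval x (u i) * e i)
    (he0 : e 0 = 1) (hmul : ∀ i j, e i * e j = ∑ l, aeval x (P i j l) * e l)
    (v : Valuation K ℤᵐ⁰) (hvk : ∀ c : k, c ≠ 0 → v (algebraMap k K c) = 1)
    (hv : ∀ a : A, a ≠ 0 → ∃ m : ℕ, v (algebraMap A K a) = exp (m : ℤ))
    (hlead : ∀ a b : A, a ≠ 0 → b ≠ 0 → v (algebraMap A K a) = v (algebraMap A K b) →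
      ∃ c : k, v (algebraMap A K (a - c • b)) < v (algebraMap A K a))
    (hx : v (algebraMap A K x) = exp ((n + 1 : ℕ) : ℤ))
    (he : ∀ i, v (algebraMap A K (e i)) = exp (s i : ℤ))
    (hs : ∀ i j, s i ≡ s j [MOD (n + 1)] → i = j) :
    ∃ (h : ∃ t : K, IsSep k K t) (O : Place k K), O.1 = v.valuationSubring ∧ O.val = v ∧
      Pres (crv h) O s P (algebraMap A K x) (fun i => algebraMap A K (e i)) := by
  have hN : 0 < n + 1 := Nat.succ_pos n
  have htr := transcendental_of_pole v hvk hN hx
  have h := exists_isSep (K := K) x e hspan htr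
  let O : Place k K := place v hvk hN hx
  have hOval : O.val = v := by
    obtain ⟨t, ht⟩ := h
    exact ht.val_eq_of O (exists_unif v hs hx he) rfl
  refine ⟨h, O, rfl, hOval, ?_, ?_, ?_, ?_, ?_⟩
  · rw [he0, map_one]
  · intro i j
    rw [← map_mul, hmul, map_sum]
    refine Finset.sum_congr rfl fun l _ => ?_
    rw [map_mul, aeval_algebraMap_apply]
  · rw [crv_v, hOval]
    exact hx
  · intro i
    rw [crv_v, hOval]
    exact he i
  · intro f
    have hrange : (∃ u : Fin (n + 1) → k[X], f = ∑ i, aeval (algebraMap A K x) (u i) *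
        algebraMap A K (e i)) ↔ ∃ a : A, algebraMap A K a = f := by
      constructor
      · rintro ⟨u, rfl⟩
        refine ⟨∑ i, aeval x (u i) * e i, ?_⟩
        rw [map_sum]
        refine Finset.sum_congr rfl fun l _ => ?_
        rw [map_mul, aeval_algebraMap_apply]
      · rintro ⟨a, rfl⟩
        obtain ⟨u, hu⟩ := hspan a
        refine ⟨u, ?_⟩
        conv_lhs => rw [hu]
        rw [map_sum]
        refine Finset.sum_congr rfl fun l _ => ?_
        rw [map_mul, aeval_algebraMap_apply]
    rw [hrange]
    constructor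
    · intro hf
      by_contra hcon
      have h1 : f ∉ (⊥ : Subalgebra A K).toSubring := by
        intro h1
        have h2 : f ∈ (⊥ : Subalgebra A K) := h1
        exact hcon (Algebra.mem_bot.1 h2)
      have h2 : IsIntegrallyClosedIn (⊥ : Subalgebra A K).toSubring K := by
        have h3 : IsIntegrallyClosedIn (⊥ : Subalgebra A K) K := by
          rw [isIntegrallyClosedIn_iff]
          refine ⟨Subtype.val_injective, ?_⟩
          intro y hy
          have h4 : Algebra.IsIntegral A (⊥ : Subalgebra A K) := by
            refine ⟨fun z => ?_⟩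
            obtain ⟨a, ha⟩ := Algebra.mem_bot.1 z.2
            have : z = algebraMap A (⊥ : Subalgebra A K) a := Subtype.ext ha.symm
            rw [this]
            exact isIntegral_algebraMap
          have h5 : IsIntegral A y := isIntegral_trans y hy
          obtain ⟨a, ha⟩ := IsIntegrallyClosed.isIntegral_iff.1 h5
          exact ⟨algebraMap A (⊥ : Subalgebra A K) a, ha⟩
        exact h3
      obtain ⟨V, hV, hfV⟩ := Subring.exists_le_valuationSubring_of_isIntegrallyClosedIn h1
      have hAV : ∀ a : A, algebraMap A K a ∈ V := fun a => hV (Algebra.mem_bot.2 ⟨a, rfl⟩)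
      let Q : Place k K := ⟨V, by
        rintro rfl
        exact hfV (ValuationSubring.mem_top _), by
        intro a
        rw [IsScalarTower.algebraMap_apply k A K]
        exact hAV _⟩
      have hQO : Q ≠ O := by
        intro hQO
        have h3 : algebraMap A K x ∈ O.1 := by
          rw [← hQO]
          exact hAV x
        have h4 : algebraMap A K x ∈ v.valuationSubring := h3
        rw [Valuation.mem_valuationSubring_iff, hx, ← exp_zero, exp_le_exp] at h4
        omega
      obtain ⟨t, ht⟩ := h
      exact hfV ((ht.val_le_one_iff Q f).1 (hf Q hQO))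
    · rintro ⟨a, rfl⟩ Q hQO
      obtain ⟨t, ht⟩ := h
      rw [crv_v, ht.val_le_one_iff Q]
      by_contra hcon
      apply hQO
      apply Place.ext
      exact SpPlaceInf.eq_valuationSubring_of_isFractionRing v hvk hv hlead x (n + 1) hN hx Q.1
        Q.2.1 Q.2.2 (fun hall => hcon (hall a))

end Groth.Agent.CurvesA.SpDec
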