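import Groth.Agent.CurvesA.SpDefs
import Mathlib.LinearAlgebra.Basis.Basic
import Mathlib.LinearAlgebra.StdBasis
import Mathlib.LinearAlgebra.FreeModule.Basic

/-!
# The algebra with given structure constants
-/

set_option autoImplicit false

namespace Groth.Agent.CurvesA.SpDecA109

open Polynomial Groth.Agent.CurvesA.Sp

universe u

section Alg

variable {B : Type u} [CommRing B] {n : ℕ}

theorem mulc_add (P : SC n B) (u w w' : Fin (n + 1) → B) :
    mulc P u (w + w') = mulc P u w + mulc P u w' := by
  funext l
  simp only [mulc, Pi.add_apply, ← Finset.sum_add_distrib]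
  refine Finset.sum_congr rfl fun i _ => Finset.sum_congr rfl fun j _ => ?_
  ring

theorem add_mulc (P : SC n B) (u u' w : Fin (n + 1) → B) :
    mulc P (u + u') w = mulc P u w + mulc P u' w := by
  funext l
  simp only [mulc, Pi.add_apply, ← Finset.sum_add_distrib]
  refine Finset.sum_congr rfl fun i _ => Finset.sum_congr rfl fun j _ => ?_
  ring

theorem zero_mulc (P : SC n B) (w : Fin (n + 1) → B) : mulc P 0 w = 0 := by
  funext l
  simp [mulc]

theorem mulc_zero (P : SC n B) (w : Fin (n + 1) → B) : mulc P w 0 = 0 := by
  funext l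
  simp [mulc]

theorem smul_mulc (P : SC n B) (c : B) (u w : Fin (n + 1) → B) :
    mulc P (c • u) w = c • mulc P u w := by
  funext l
  simp only [mulc, Pi.smul_apply, smul_eq_mul, Finset.mul_sum]
  refine Finset.sum_congr rfl fun i _ => Finset.sum_congr rfl fun j _ => ?_
  ring

theorem mulc_comm {P : SC n B} (hP : IsRing P) (u w : Fin (n + 1) → B) :
    mulc P u w = mulc P w u := by
  funext l
  simp only [mulc]
  rw [Finset.sum_comm]
  refine Finset.sum_congr rfl fun i _ => Finset.sum_congr rfl fun j _ => ?_
  rw [hP.comm j i l]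
  ring

theorem one_mulc {P : SC n B} (hP : IsRing P) (w : Fin (n + 1) → B) :
    mulc P onec w = w := by
  funext l
  simp only [mulc, onec, ite_mul, one_mul, zero_mul]
  rw [Finset.sum_comm]
  simp [hP.one]

theorem mulc_assoc {P : SC n B} (hP : IsRing P) (u w z : Fin (n + 1) → B) :
    mulc P (mulc P u w) z = mulc P u (mulc P w z) := by
  funext r
  have h1 : mulc P (mulc P u w) z r =
      ∑ i, ∑ j, ∑ m, u i * w j * z m * ∑ l, P i j l * P l m r := by
    calc mulc P (mulc P u w) z r
        = ∑ l, ∑ m, ∑ i, ∑ j, u i * w j * z m * (P i j l * P l m r) := by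
          simp only [mulc, Finset.sum_mul]
          refine Finset.sum_congr rfl fun l _ => Finset.sum_congr rfl fun m _ =>
            Finset.sum_congr rfl fun i _ => Finset.sum_congr rfl fun j _ => ?_
          ring
      _ = ∑ i, ∑ j, ∑ m, ∑ l, u i * w j * z m * (P i j l * P l m r) := by
          rw [Finset.sum_comm]
          calc _ = ∑ m, ∑ i, ∑ l, ∑ j, u i * w j * z m * (P i j l * P l m r) :=
                Finset.sum_congr rfl fun m _ => Finset.sum_comm
            _ = ∑ m, ∑ i, ∑ j, ∑ l, u i * w j * z m * (P i j l * P l m r) :=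
                Finset.sum_congr rfl fun m _ => Finset.sum_congr rfl fun i _ => Finset.sum_comm
            _ = ∑ i, ∑ m, ∑ j, ∑ l, u i * w j * z m * (P i j l * P l m r) := Finset.sum_comm
            _ = _ := Finset.sum_congr rfl fun i _ => Finset.sum_comm
      _ = _ := by
          simp only [Finset.mul_sum]
  have h2 : mulc P u (mulc P w z) r =
      ∑ i, ∑ j, ∑ m, u i * w j * z m * ∑ l, P j m l * P i l r := by
    calc mulc P u (mulc P w z) r
        = ∑ i, ∑ l, ∑ j, ∑ m, u i * w j * z m * (P j m l * P i l r) := by
          simp only [mulc, Finset.sum_mul, Finset.mul_sum]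
          refine Finset.sum_congr rfl fun l _ => Finset.sum_congr rfl fun m _ =>
            Finset.sum_congr rfl fun i _ => Finset.sum_congr rfl fun j _ => ?_
          ring
      _ = ∑ i, ∑ j, ∑ m, ∑ l, u i * w j * z m * (P j m l * P i l r) := by
          refine Finset.sum_congr rfl fun i _ => ?_
          rw [Finset.sum_comm]
          exact Finset.sum_congr rfl fun j _ => Finset.sum_comm
      _ = _ := by
          simp only [Finset.mul_sum]
  rw [h1, h2]
  refine Finset.sum_congr rfl fun i _ => Finset.sum_congr rfl fun j _ =>
    Finset.sum_congr rfl fun m _ => ?_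
  rw [hP.assoc]

/-- The algebra with structure constants `P`. -/
def Alg {P : SC n B} (_ : IsRing P) : Type u := Fin (n + 1) → B

variable {P : SC n B} (hP : IsRing P)

noncomputable instance : AddCommGroup (Alg hP) := inferInstanceAs (AddCommGroup (Fin (n + 1) → B))

noncomputable instance instModuleAlg : Module B (Alg hP) :=
  inferInstanceAs (Module B (Fin (n + 1) → B))

noncomputable instance instCommRingAlg : CommRing (Alg hP) :=
  { (inferInstance : AddCommGroup (Alg hP)) with
    mul := fun u w => mulc P u w
    one := (onec : Fin (n + 1) → B)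
    left_distrib := mulc_add P
    right_distrib := add_mulc P
    zero_mul := zero_mulc P
    mul_zero := mulc_zero P
    mul_assoc := mulc_assoc hP
    one_mul := one_mulc hP
    mul_one := fun u => (mulc_comm hP _ _).trans (one_mulc hP u)
    mul_comm := mulc_comm hP }

theorem mul_def (u w : Alg hP) : u * w = mulc P u w := rfl

noncomputable instance : Algebra B (Alg hP) :=
  Algebra.ofModule (fun r x y => smul_mulc P r x y) (fun r x y => by
    rw [mul_comm x, mul_comm x]
    exact smul_mulc P r y x)

/-- The basis of the algebra with structure constants `P`. -/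
noncomputable def bas : Module.Basis (Fin (n + 1)) B (Alg hP) := Pi.basisFun B (Fin (n + 1))

theorem bas_apply (i j : Fin (n + 1)) : (bas hP i : Fin (n + 1) → B) j = if j = i then 1 else 0 := by
  have : (bas hP i : Fin (n + 1) → B) = Pi.single i 1 :=
    Pi.basisFun_apply B (Fin (n + 1)) i
  rw [this, Pi.single_apply]

theorem bas_zero : bas hP 0 = 1 := by
  funext l
  rw [bas_apply]
  rfl

theorem bas_mul (i j : Fin (n + 1)) : bas hP i * bas hP j = ∑ l, P i j l • bas hP l := by
  funext r
  rw [mul_def]
  have h1 : mulc P (bas hP i) (bas hP j) r = P i j r := by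
    simp only [mulc, bas_apply]
    simp
  have h2 : (∑ l, P i j l • bas hP l) = fun r => P i j r := by
    have := (bas hP).sum_repr (fun r => P i j r : Fin (n + 1) → B)
    rw [← this]
    rfl
  rw [h1, h2]

end Alg

end Groth.Agent.CurvesA.SpDecA109
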