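import Groth.Agent.CurvesA.SpDefs
import Mathlib.LinearAlgebra.Basis.Basic
import Mathlib.RingTheory.Valuation.ExtendToLocalization

/-!
# The degree valuation
-/

set_option autoImplicit false

namespace Groth.Agent.CurvesA.SpDecB109

open Polynomial WithZero Groth.Agent.CurvesA.Sp

universe u

section W

variable {k : Type u} [Field k] (n : ℕ)

/-- the scaled degree valuation on polynomials -/
noncomputable def w (p : k[X]) : ℤᵐ⁰ :=
  open scoped Classical in
  if p = 0 then 0 else exp (((n + 1) * p.natDegree : ℕ) : ℤ)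

@[simp] theorem w_zero : w n (0 : k[X]) = 0 := by simp [w]

theorem w_of_ne {p : k[X]} (hp : p ≠ 0) : w n p = exp (((n + 1) * p.natDegree : ℕ) : ℤ) := by
  simp [w, hp]

theorem w_eq_zero {p : k[X]} : w n p = 0 ↔ p = 0 := by
  constructor
  · intro h
    by_contra hp
    rw [w_of_ne n hp] at h
    exact exp_ne_zero h
  · rintro rfl
    exact w_zero n

theorem w_one : w n (1 : k[X]) = 1 := by
  rw [w_of_ne n one_ne_zero]
  simp

theorem w_mul (p q : k[X]) : w n (p * q) = w n p * w n q := by
  by_cases hp : p = 0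
  · simp [hp]
  by_cases hq : q = 0
  · simp [hq]
  rw [w_of_ne n (mul_ne_zero hp hq), w_of_ne n hp, w_of_ne n hq, natDegree_mul hp hq, ← exp_add]
  congr 1
  push_cast
  ring

theorem w_add (p q : k[X]) : w n (p + q) ≤ max (w n p) (w n q) := by
  by_cases hp : p = 0
  · simp [hp]
  by_cases hq : q = 0
  · simp [hq]
  by_cases hpq : p + q = 0
  · simp [hpq]
  rw [w_of_ne n hpq, w_of_ne n hp, w_of_ne n hq]
  have h := natDegree_add_le p q
  rcases le_max_iff.1 h with h | h
  · exact le_max_of_le_left (exp_le_exp.2 (by exact_mod_cast Nat.mul_le_mul_left _ h))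
  · exact le_max_of_le_right (exp_le_exp.2 (by exact_mod_cast Nat.mul_le_mul_left _ h))

theorem w_neg (p : k[X]) : w n (-p) = w n p := by
  by_cases hp : p = 0
  · simp [hp]
  rw [w_of_ne n hp, w_of_ne n (neg_ne_zero.2 hp), natDegree_neg]

theorem w_X : w n (X : k[X]) = exp ((n + 1 : ℕ) : ℤ) := by
  rw [w_of_ne n X_ne_zero, natDegree_X, mul_one]

theorem w_C {c : k} (hc : c ≠ 0) : w n (C c) = 1 := by
  rw [w_of_ne n (C_ne_zero.2 hc), natDegree_C]
  simp

end W

/-- `b` is a basis with structure constants `P`. -/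
structure IsB {k : Type u} [Field k] {n : ℕ} (P : SC n k[X]) {A : Type u} [CommRing A]
    [Algebra k[X] A] (b : Module.Basis (Fin (n + 1)) k[X] A) : Prop where
  zero : b 0 = 1
  mul : ∀ i j, b i * b j = ∑ l, P i j l • b l

section V

variable {k : Type u} [Field k] {n : ℕ} (s : Fin (n + 1) → ℕ)
  {A : Type u} [CommRing A] [Algebra k[X] A] (b : Module.Basis (Fin (n + 1)) k[X] A)

/-- the degree -/
noncomputable def vv (a : A) : ℤᵐ⁰ :=
  Finset.univ.sup fun i => w n (b.repr a i) * exp (s i : ℤ)

variable {s b}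

theorem vv_le_iff {a : A} {γ : ℤᵐ⁰} :
    vv s b a ≤ γ ↔ ∀ i, w n (b.repr a i) * exp (s i : ℤ) ≤ γ := by
  simp [vv, Finset.sup_le_iff]

theorem le_vv (a : A) (i : Fin (n + 1)) : w n (b.repr a i) * exp (s i : ℤ) ≤ vv s b a :=
  vv_le_iff.1 le_rfl i

theorem exists_vv (a : A) : ∃ i, vv s b a = w n (b.repr a i) * exp (s i : ℤ) := by
  obtain ⟨i, -, hi⟩ := Finset.exists_mem_eq_sup (Finset.univ : Finset (Fin (n + 1)))
    Finset.univ_nonempty (fun i => w n (b.repr a i) * exp (s i : ℤ))
  exact ⟨i, hi⟩

theorem vv_zero : vv s b (0 : A) = 0 := by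
  apply le_antisymm _ zero_le
  rw [vv_le_iff]
  intro i
  simp

theorem vv_eq_zero {a : A} : vv s b a = 0 ↔ a = 0 := by
  constructor
  · intro h
    have h1 : ∀ i, b.repr a i = 0 := by
      intro i
      have h2 := le_vv (s := s) (b := b) a i
      rw [h] at h2
      have h3 := le_antisymm h2 zero_le
      rcases mul_eq_zero.1 h3 with h4 | h4
      · exact (w_eq_zero n).1 h4
      · exact absurd h4 exp_ne_zero
    apply b.repr.injective
    ext i
    simp [h1 i]
  · rintro rfl
    exact vv_zero

theorem vv_add (a c : A) : vv s b (a + c) ≤ max (vv s b a) (vv s b c) := by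
  rw [vv_le_iff]
  intro i
  rw [map_add, Finsupp.add_apply]
  calc w n (b.repr a i + b.repr c i) * exp (s i : ℤ)
      ≤ max (w n (b.repr a i)) (w n (b.repr c i)) * exp (s i : ℤ) := by
        gcongr
        exact w_add n _ _
    _ ≤ _ := by
        rcases le_total (w n (b.repr a i)) (w n (b.repr c i)) with h | h
        · rw [max_eq_right h]
          exact le_max_of_le_right (le_vv c i)
        · rw [max_eq_left h]
          exact le_max_of_le_left (le_vv a i)

theorem vv_neg (a : A) : vv s b (-a) = vv s b a := by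
  simp [vv, w_neg]

theorem vv_smul (p : k[X]) (a : A) : vv s b (p • a) = w n p * vv s b a := by
  apply le_antisymm
  · rw [vv_le_iff]
    intro i
    rw [map_smul, Finsupp.smul_apply, smul_eq_mul, w_mul, mul_assoc]
    gcongr
    exact le_vv a i
  · obtain ⟨i, hi⟩ := exists_vv (s := s) (b := b) a
    rw [hi]
    refine le_trans (le_of_eq ?_) (le_vv _ i)
    rw [map_smul, Finsupp.smul_apply, smul_eq_mul, w_mul, mul_assoc]

theorem vv_basis (i : Fin (n + 1)) : vv s b (b i) = exp (s i : ℤ) := by
  apply le_antisymm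
  · rw [vv_le_iff]
    intro j
    rw [b.repr_self]
    by_cases h : j = i
    · subst h
      rw [Finsupp.single_eq_same, w_one, one_mul]
    · rw [Finsupp.single_eq_of_ne h]
      simp
  · refine le_trans (le_of_eq ?_) (le_vv _ i)
    rw [b.repr_self, Finsupp.single_eq_same, w_one, one_mul]

theorem vv_sum_le {ι : Type*} (t : Finset ι) (f : ι → A) {γ : ℤᵐ⁰}
    (h : ∀ i ∈ t, vv s b (f i) ≤ γ) : vv s b (∑ i ∈ t, f i) ≤ γ := by
  classical
  induction t using Finset.induction_on with
  | empty =>
    rw [Finset.sum_empty, vv_zero]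
    exact zero_le
  | insert a t ha ih =>
    rw [Finset.sum_insert ha]
    refine (vv_add _ _).trans (max_le (h a (Finset.mem_insert_self a t)) (ih ?_))
    intro i hi
    exact h i (Finset.mem_insert_of_mem hi)

theorem vv_add_eq_left {a c : A} (h : vv s b c < vv s b a) : vv s b (a + c) = vv s b a := by
  apply le_antisymm
  · exact (vv_add a c).trans (max_le le_rfl h.le)
  · by_contra hcon
    rw [not_le] at hcon
    have h1 : vv s b ((a + c) + -c) ≤ max (vv s b (a + c)) (vv s b (-c)) := vv_add _ _
    rw [vv_neg, add_neg_cancel_right] at h1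
    exact absurd h1 (not_le.2 (max_lt hcon h))

variable {P : SC n k[X]} (hs : IsWt s) (hd : IsDeg s P) (hb : IsB P b)

include hd hb in
theorem vv_mul_basis (i j : Fin (n + 1)) (hs : IsWt s) :
    vv s b (b i * b j) = exp ((s i : ℤ) + s j) := by
  have hrepr : ∀ l, b.repr (b i * b j) l = P i j l := by
    intro l
    rw [hb.mul, map_sum, Finsupp.finsetSum_apply]
    simp [Finsupp.single_apply]
  apply le_antisymm
  · rw [vv_le_iff]
    intro l
    rw [hrepr]
    by_cases h0 : P i j l = 0
    · simp [h0]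
    rw [w_of_ne n h0, ← exp_add, exp_le_exp]
    by_contra hcon
    push Not at hcon
    have := hd.le i j l (P i j l).natDegree (by
      have h1 : ((s i : ℤ) + s j) < (((n + 1) * (P i j l).natDegree + s l : ℕ) : ℤ) := by
        push_cast at hcon ⊢
        exact hcon
      exact_mod_cast h1)
    rw [coeff_natDegree, leadingCoeff_eq_zero] at this
    exact h0 this
  · obtain ⟨l, d, hl⟩ := hs.add i j
    refine le_trans ?_ (le_vv _ l)
    have h1 := hd.ne i j l d hl
    have h0 : P i j l ≠ 0 := by
      intro h0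
      rw [h0, coeff_zero] at h1
      exact h1 rfl
    rw [hrepr, w_of_ne n h0, ← exp_add, exp_le_exp]
    have h2 := le_natDegree_of_ne_zero h1
    have h3 : ((s i : ℤ) + s j) = (((n + 1) * d + s l : ℕ) : ℤ) := by
      rw [← hl]
      push_cast
      ring
    rw [h3]
    have h4 : (n + 1) * d + s l ≤ (n + 1) * (P i j l).natDegree + s l := by
      gcongr
    exact_mod_cast h4

include hs hd hb in
theorem vv_mul_le (a c : A) : vv s b (a * c) ≤ vv s b a * vv s b c := by
  conv_lhs => rw [← b.sum_repr a, ← b.sum_repr c]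
  rw [Finset.sum_mul_sum]
  refine vv_sum_le _ _ fun i _ => vv_sum_le _ _ fun j _ => ?_
  rw [smul_mul_smul_comm, vv_smul, vv_mul_basis hd hb i j hs, w_mul, exp_add]
  calc w n (b.repr a i) * w n (b.repr c j) * (exp (s i : ℤ) * exp (s j : ℤ))
      = (w n (b.repr a i) * exp (s i : ℤ)) * (w n (b.repr c j) * exp (s j : ℤ)) := by
        rw [mul_mul_mul_comm]
    _ ≤ _ := mul_le_mul' (le_vv a i) (le_vv c j)

include hs in
/-- the leading term -/
theorem exists_lead {a : A} (ha : a ≠ 0) : ∃ (i : Fin (n + 1)) (p : k[X]) (a' : A), p ≠ 0 ∧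
    a = p • b i + a' ∧ vv s b a = w n p * exp (s i : ℤ) ∧ vv s b a' < vv s b a := by
  obtain ⟨i, hi⟩ := exists_vv (s := s) (b := b) a
  have hva : vv s b a ≠ 0 := fun h => ha (vv_eq_zero.1 h)
  have hp : b.repr a i ≠ 0 := by
    intro h
    rw [h, w_zero, zero_mul] at hi
    exact hva hi
  refine ⟨i, b.repr a i, ∑ j ∈ Finset.univ.erase i, b.repr a j • b j, hp, ?_, hi, ?_⟩
  · rw [Finset.add_sum_erase Finset.univ (fun j => b.repr a j • b j) (Finset.mem_univ i),
      b.sum_repr]
  · have h1 : ∀ j ∈ Finset.univ.erase i, vv s b (b.repr a j • b j) < vv s b a := by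
      intro j hj
      have hji : j ≠ i := Finset.ne_of_mem_erase hj
      rw [vv_smul, vv_basis]
      refine lt_of_le_of_ne (le_vv a j) ?_
      intro heq
      have hpj : b.repr a j ≠ 0 := by
        intro h
        rw [h, w_zero, zero_mul] at heq
        exact hva heq.symm
      rw [hi, w_of_ne n hp, w_of_ne n hpj, ← exp_add, ← exp_add, exp_inj] at heq
      have h2 : (n + 1) * (b.repr a j).natDegree + s j = (n + 1) * (b.repr a i).natDegree + s i := by
        exact_mod_cast heq
      apply hji
      apply hs.inj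
      have h3 : ((n + 1) * (b.repr a j).natDegree + s j) % (n + 1) =
        ((n + 1) * (b.repr a i).natDegree + s i) % (n + 1) := by rw [h2]
      rw [Nat.mul_add_mod, Nat.mul_add_mod] at h3
      exact h3
    have h2 : ∀ t : Finset (Fin (n + 1)), (∀ j ∈ t, vv s b (b.repr a j • b j) < vv s b a) →
        vv s b (∑ j ∈ t, b.repr a j • b j) < vv s b a := by
      classical
      intro t
      induction t using Finset.induction_on with
      | empty =>
        intro _
        rw [Finset.sum_empty, vv_zero]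
        exact zero_lt_iff.2 hva
      | insert j t hj ih =>
        intro h
        rw [Finset.sum_insert hj]
        exact (vv_add _ _).trans_lt (max_lt (h j (Finset.mem_insert_self j t))
          (ih fun i hi => h i (Finset.mem_insert_of_mem hi)))
    exact h2 _ h1

include hs hd hb in
theorem vv_mul (a c : A) : vv s b (a * c) = vv s b a * vv s b c := by
  by_cases ha : a = 0
  · rw [ha, zero_mul, vv_zero, zero_mul]
  by_cases hc : c = 0
  · rw [hc, mul_zero, vv_zero, mul_zero]
  obtain ⟨i, p, a', hp, rfl, h1, h2⟩ := exists_lead (b := b) hs ha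
  obtain ⟨j, q, c', hq, rfl, h3, h4⟩ := exists_lead (b := b) hs hc
  have hva : vv s b (p • b i + a') ≠ 0 := fun h => ha (vv_eq_zero.1 h)
  have hvc : vv s b (q • b j + c') ≠ 0 := fun h => hc (vv_eq_zero.1 h)
  have h5 : (p • b i + a') * (q • b j + c') =
      (p * q) • (b i * b j) + (p • b i * c' + a' * (q • b j + c')) := by
    rw [add_mul, mul_add (p • b i), smul_mul_smul_comm]
    ring
  have h6 : vv s b ((p * q) • (b i * b j)) = vv s b (p • b i + a') * vv s b (q • b j + c') := by
    rw [vv_smul, vv_mul_basis hd hb i j hs, w_mul, h1, h3, exp_add, mul_mul_mul_comm]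
  rw [h5, ← h6]
  apply vv_add_eq_left
  rw [h6]
  refine (vv_add _ _).trans_lt (max_lt ?_ ?_)
  · refine (vv_mul_le hs hd hb _ _).trans_lt ?_
    rw [vv_smul, vv_basis, ← h1]
    exact mul_lt_mul_of_pos_left h4 (zero_lt_iff.2 hva)
  · refine (vv_mul_le hs hd hb _ _).trans_lt ?_
    exact mul_lt_mul_of_pos_right h2 (zero_lt_iff.2 hvc)

include hs hb in
theorem vv_one : vv s b (1 : A) = 1 := by
  rw [← hb.zero, vv_basis, hs.zero]
  simp

/-- the degree valuation on `A` -/
noncomputable def valA : Valuation A ℤᵐ⁰ where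
  toFun := vv s b
  map_zero' := vv_zero
  map_one' := vv_one hs hb
  map_mul' := vv_mul hs hd hb
  map_add_le_max' := vv_add

theorem valA_apply (a : A) : valA hs hd hb a = vv s b a := rfl

include hs hd hb in
theorem isDomain : IsDomain A := by
  have h1 : Nontrivial A := by
    refine ⟨⟨0, 1, ?_⟩⟩
    intro h
    have h2 := vv_one (s := s) (b := b) hs hb
    rw [← h, vv_zero] at h2
    exact zero_ne_one h2
  have h2 : NoZeroDivisors A := by
    refine ⟨?_⟩
    intro a c h
    have h3 := vv_mul hs hd hb a c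
    rw [h, vv_zero] at h3
    rcases mul_eq_zero.1 h3.symm with h4 | h4
    · exact Or.inl (vv_eq_zero.1 h4)
    · exact Or.inr (vv_eq_zero.1 h4)
  exact NoZeroDivisors.to_isDomain A

end V

end Groth.Agent.CurvesA.SpDecB109
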