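import Groth.Agent.CurvesA.SpDecB109
import Mathlib.RingTheory.Nakayama
import Mathlib.RingTheory.LocalProperties.IntegrallyClosed
import Mathlib.RingTheory.DiscreteValuationRing.TFAE
import Mathlib.RingTheory.DedekindDomain.Dvr
import Mathlib.RingTheory.Jacobson.Ring
import Mathlib.FieldTheory.IsAlgClosed.Basic
import Mathlib.LinearAlgebra.Basis.VectorSpace

/-!
# Normality from the tangent spaces
-/

set_option autoImplicit false

namespace Groth.Agent.CurvesA.SpDecC109

open Polynomial Groth.Agent.CurvesA.Sp Groth.Agent.CurvesA.SpDecB109 IsLocalRing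

universe u

variable {k : Type u} [Field k] {n : ℕ} {P : SC n k[X]}
  {A : Type u} [CommRing A] [Algebra k[X] A] [Algebra k A] [IsScalarTower k k[X] A]
  {b : Module.Basis (Fin (n + 1)) k[X] A}

/-- `D` is a derivation at the point `ev`. -/
def IsDer (ev : A →ₐ[k] k) (D : A →ₗ[k] k) : Prop :=
  ∀ a c, D (a * c) = ev a * D c + D a * ev c

omit [Algebra k[X] A] [IsScalarTower k k[X] A] in
theorem IsDer.one {ev : A →ₐ[k] k} {D : A →ₗ[k] k} (h : IsDer ev D) : D 1 = 0 := by
  have h1 := h 1 1
  rw [mul_one, map_one ev, one_mul, mul_one] at h1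
  have h2 : D 1 + 0 = D 1 + D 1 := by rw [add_zero]; exact h1
  exact (add_left_cancel h2).symm

theorem ev_poly (ev : A →ₐ[k] k) (p : k[X]) :
    ev (algebraMap k[X] A p) = p.eval (ev (algebraMap k[X] A X)) := by
  have h1 : (ev.comp (IsScalarTower.toAlgHom k k[X] A)) = aeval (ev (algebraMap k[X] A X)) := by
    apply Polynomial.algHom_ext
    simp
  have h2 := DFunLike.congr_fun h1 p
  rw [Polynomial.aeval_def, eval₂_eq_eval_map] at h2
  simpa using h2

theorem IsDer.pow {ev : A →ₐ[k] k} {D : A →ₗ[k] k} (h : IsDer ev D) (a : A) (m : ℕ) :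
    D (a ^ m) = m * ev a ^ (m - 1) * D a := by
  induction m with
  | zero => simp [h.one]
  | succ m ih =>
    rw [pow_succ, h, ih, map_pow]
    rcases m with _ | m
    · simp
    · simp only [Nat.succ_sub_one, Nat.cast_add, Nat.cast_one]
      ring

theorem IsDer.poly {ev : A →ₐ[k] k} {D : A →ₗ[k] k} (h : IsDer ev D) (p : k[X]) :
    D (algebraMap k[X] A p) =
      D (algebraMap k[X] A X) * (derivative p).eval (ev (algebraMap k[X] A X)) := by
  induction p using Polynomial.induction_on' with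
  | add p q hp hq =>
    rw [map_add, map_add, hp, hq, derivative_add, eval_add]
    ring
  | monomial m c =>
    have h1 : algebraMap k[X] A (monomial m c) = c • (algebraMap k[X] A X) ^ m := by
      rw [← C_mul_X_pow_eq_monomial, map_mul, map_pow, Algebra.smul_def,
        IsScalarTower.algebraMap_apply k k[X] A]
      rfl
    rw [h1, map_smul, h.pow, derivative_monomial, eval_monomial, smul_eq_mul]
    ring

theorem isPt (hb : IsB P b) (ev : A →ₐ[k] k) :
    IsPt P (ev (algebraMap k[X] A X)) (fun i => ev (b i)) where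
  one := by rw [hb.zero, map_one]
  mul i j := by
    rw [← map_mul, hb.mul, map_sum]
    refine Finset.sum_congr rfl fun l _ => ?_
    rw [Algebra.smul_def, map_mul, ev_poly]

theorem isTan (hb : IsB P b) {ev : A →ₐ[k] k} {D : A →ₗ[k] k} (h : IsDer ev D) :
    IsTan P (ev (algebraMap k[X] A X)) (fun i => ev (b i)) (D (algebraMap k[X] A X))
      (fun i => D (b i)) where
  one := by rw [hb.zero, h.one]
  mul i j := by
    rw [← h, hb.mul, map_sum]
    refine Finset.sum_congr rfl fun l _ => ?_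
    rw [Algebra.smul_def, h, ev_poly, h.poly]

theorem IsDer.eq_zero {ev : A →ₐ[k] k} {D : A →ₗ[k] k} (h : IsDer ev D)
    (hx : D (algebraMap k[X] A X) = 0) (he : ∀ i, D (b i) = 0) : D = 0 := by
  ext a
  rw [← b.sum_repr a, map_sum]
  refine Finset.sum_eq_zero fun i _ => ?_
  rw [Algebra.smul_def, h, h.poly, hx, he]
  ring

omit [Algebra k[X] A] [IsScalarTower k k[X] A] in
theorem isDer_sub {ev : A →ₐ[k] k} {D₁ D₂ : A →ₗ[k] k} (h₁ : IsDer ev D₁) (h₂ : IsDer ev D₂)
    (c₁ c₂ : k) : IsDer ev (c₁ • D₁ - c₂ • D₂) := by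
  intro a c
  simp only [LinearMap.sub_apply, LinearMap.smul_apply, smul_eq_mul, h₁ a c, h₂ a c]
  ring

theorem minors (hb : IsB P b) (hsm : IsSm P) {ev : A →ₐ[k] k} {D₁ D₂ : A →ₗ[k] k}
    (h₁ : IsDer ev D₁) (h₂ : IsDer ev D₂) (a c : A) : D₁ a * D₂ c = D₁ c * D₂ a := by
  obtain ⟨h3, h4⟩ := hsm _ _ (isPt hb ev) _ _ _ _ (isTan hb h₁) (isTan hb h₂)
  -- first for `c` a generator
  have h5 : D₂ (algebraMap k[X] A X) • D₁ - D₁ (algebraMap k[X] A X) • D₂ = 0 := by
    apply (isDer_sub h₁ h₂ _ _).eq_zero (b := b)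
    · simp only [LinearMap.sub_apply, LinearMap.smul_apply, smul_eq_mul]
      ring
    · intro i
      simp only [LinearMap.sub_apply, LinearMap.smul_apply, smul_eq_mul]
      rw [h3 i, sub_self]
  have h6 : ∀ j, D₂ (b j) • D₁ - D₁ (b j) • D₂ = 0 := by
    intro j
    apply (isDer_sub h₁ h₂ _ _).eq_zero (b := b)
    · simp only [LinearMap.sub_apply, LinearMap.smul_apply, smul_eq_mul]
      rw [mul_comm (D₂ (b j)), h3 j]
      ring
    · intro i
      simp only [LinearMap.sub_apply, LinearMap.smul_apply, smul_eq_mul]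
      rw [← h4 i j]
      ring
  have h7 : D₂ a • D₁ - D₁ a • D₂ = 0 := by
    apply (isDer_sub h₁ h₂ _ _).eq_zero (b := b)
    · have := DFunLike.congr_fun h5 a
      simp only [LinearMap.sub_apply, LinearMap.smul_apply, smul_eq_mul, LinearMap.zero_apply] at this ⊢
      rw [sub_eq_zero] at this ⊢
      rw [mul_comm, ← this, mul_comm]
    · intro i
      have := DFunLike.congr_fun (h6 i) a
      simp only [LinearMap.sub_apply, LinearMap.smul_apply, smul_eq_mul, LinearMap.zero_apply] at this ⊢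
      rw [sub_eq_zero] at this ⊢
      rw [mul_comm, ← this, mul_comm]
  have := DFunLike.congr_fun h7 c
  simp only [LinearMap.sub_apply, LinearMap.smul_apply, smul_eq_mul, LinearMap.zero_apply] at this
  rw [sub_eq_zero] at this
  rw [← this, mul_comm]

omit [Algebra k[X] A] [IsScalarTower k k[X] A] in
/-- functionals vanishing on `1` and `𝔪²` are derivations -/
theorem isDer_of_vanish {ev : A →ₐ[k] k} {D : A →ₗ[k] k} (h1 : D 1 = 0)
    (h2 : ∀ a ∈ (RingHom.ker ev.toRingHom) ^ 2, D a = 0) : IsDer ev D := by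
  intro a c
  have h3 : ∀ a : A, a - algebraMap k A (ev a) ∈ RingHom.ker ev.toRingHom := by
    intro a
    rw [RingHom.mem_ker]
    simp
  have h4 := h2 _ (by
    rw [pow_two]
    exact Ideal.mul_mem_mul (h3 a) (h3 c))
  have h5 : (a - algebraMap k A (ev a)) * (c - algebraMap k A (ev c)) =
      a * c - ev a • c - ev c • a + (ev a * ev c) • 1 := by
    simp only [Algebra.smul_def, map_mul]
    ring
  rw [h5, map_add, map_sub, map_sub, map_smul, map_smul, map_smul, h1] at h4
  simp only [smul_eq_mul, mul_zero, add_zero] at h4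
  linear_combination h4

omit [IsScalarTower k k[X] A] [Algebra k[X] A] in
theorem exists_ev [IsAlgClosed k] [Algebra.FiniteType k A] (m : Ideal A) [m.IsMaximal] :
    ∃ ev : A →ₐ[k] k, RingHom.ker ev.toRingHom = m := by
  let : Field (A ⧸ m) := Ideal.Quotient.field m
  have : Algebra.FiniteType k (A ⧸ m) :=
    Algebra.FiniteType.of_surjective (Ideal.Quotient.mkₐ k m) Ideal.Quotient.mk_surjective
  have : Module.Finite k (A ⧸ m) := finite_of_finite_type_of_isJacobsonRing k (A ⧸ m)
  have h1 : Function.Bijective (algebraMap k (A ⧸ m)) :=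
    IsAlgClosed.algebraMap_bijective_of_isIntegral
  let e : k ≃ₐ[k] (A ⧸ m) := AlgEquiv.ofBijective (Algebra.ofId k (A ⧸ m)) h1
  refine ⟨(e.symm.toAlgHom).comp (Ideal.Quotient.mkₐ k m), ?_⟩
  ext a
  rw [RingHom.mem_ker]
  change e.symm (Ideal.Quotient.mk m a) = 0 ↔ _
  rw [map_eq_zero_iff _ e.symm.injective, Ideal.Quotient.eq_zero_iff_mem]

theorem exists_gen (hb : IsB P b) (hsm : IsSm P) (ev : A →ₐ[k] k) :
    ∃ π ∈ RingHom.ker ev.toRingHom, ∀ a ∈ RingHom.ker ev.toRingHom,
      ∃ c : k, a - c • π ∈ (RingHom.ker ev.toRingHom) ^ 2 := by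
  by_cases hm : RingHom.ker ev.toRingHom ≤ (RingHom.ker ev.toRingHom) ^ 2
  · refine ⟨0, Ideal.zero_mem _, fun a ha => ⟨0, ?_⟩⟩
    simpa using hm ha
  obtain ⟨π, hπ, hπ2⟩ := SetLike.not_le_iff_exists.1 hm
  refine ⟨π, hπ, ?_⟩
  intro a ha
  let U : Submodule k A := Submodule.span k {1} ⊔
    ((RingHom.ker ev.toRingHom) ^ 2).restrictScalars k
  have hU1 : (1 : A) ∈ U := Submodule.mem_sup_left (Submodule.mem_span_singleton_self 1)
  have hU2 : ∀ q ∈ (RingHom.ker ev.toRingHom) ^ 2, q ∈ U := fun q hq =>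
    Submodule.mem_sup_right hq
  have hle : (RingHom.ker ev.toRingHom) ^ 2 ≤ RingHom.ker ev.toRingHom :=
    Ideal.pow_le_self two_ne_zero
  have hmem : ∀ q ∈ (RingHom.ker ev.toRingHom) ^ 2, ev q = 0 := fun q hq => hle hq
  have hπU : π ∉ U := by
    intro h
    obtain ⟨y, hy, z, hz, hyz⟩ := Submodule.mem_sup.1 h
    obtain ⟨c, rfl⟩ := Submodule.mem_span_singleton.1 hy
    have hz' : z ∈ (RingHom.ker ev.toRingHom) ^ 2 := hz
    have h1 : ev π = 0 := hπ
    rw [← hyz, map_add, hmem z hz', map_smul, map_one, smul_eq_mul, mul_one, add_zero] at h1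
    rw [h1, zero_smul, zero_add] at hyz
    rw [← hyz] at hπ2
    exact hπ2 hz'
  have haU : a ∈ U ⊔ Submodule.span k {π} := by
    by_contra hcon
    obtain ⟨D₁, hD₁a, hD₁⟩ := Submodule.exists_le_ker_of_notMem hcon
    obtain ⟨D₂, hD₂π, hD₂⟩ := Submodule.exists_le_ker_of_notMem hπU
    have hder₁ : IsDer ev D₁ := isDer_of_vanish (hD₁ (Submodule.mem_sup_left hU1))
      (fun q hq => hD₁ (Submodule.mem_sup_left (hU2 q hq)))
    have hder₂ : IsDer ev D₂ := isDer_of_vanish (hD₂ hU1) (fun q hq => hD₂ (hU2 q hq))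
    have h1 := minors hb hsm hder₁ hder₂ a π
    have h2 : D₁ π = 0 := hD₁ (Submodule.mem_sup_right (Submodule.mem_span_singleton_self π))
    rw [h2, zero_mul] at h1
    rcases mul_eq_zero.1 h1 with h3 | h3
    · exact hD₁a h3
    · exact hD₂π h3
  obtain ⟨y, hy, z, hz, hyz⟩ := Submodule.mem_sup.1 haU
  obtain ⟨y1, hy1, q, hq, hyq⟩ := Submodule.mem_sup.1 hy
  obtain ⟨c, rfl⟩ := Submodule.mem_span_singleton.1 hy1
  obtain ⟨c', rfl⟩ := Submodule.mem_span_singleton.1 hz
  have hq' : q ∈ (RingHom.ker ev.toRingHom) ^ 2 := hq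
  have h1 : ev a = 0 := ha
  have h2 : ev π = 0 := hπ
  rw [← hyz, ← hyq, map_add, map_add, hmem q hq', map_smul, map_smul, h2, map_one, smul_eq_mul,
    mul_one, smul_zero, add_zero, add_zero] at h1
  refine ⟨c', ?_⟩
  rw [← hyz, ← hyq, h1, zero_smul, zero_add, add_sub_cancel_right]
  exact hq'

/-- Normality. -/
theorem isIntegrallyClosed [IsAlgClosed k] [IsDomain A] (hb : IsB P b) (hsm : IsSm P) :
    IsIntegrallyClosed A := by
  have hfin : Module.Finite k[X] A := Module.Finite.of_basis b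
  have hnoeth : IsNoetherianRing A := IsNoetherianRing.of_finite k[X] A
  have hft : Algebra.FiniteType k A := Algebra.FiniteType.trans
    (inferInstance : Algebra.FiniteType k k[X]) (inferInstance : Algebra.FiniteType k[X] A)
  apply IsIntegrallyClosed.of_localization_maximal
  intro m hm _
  obtain ⟨ev, hev⟩ := exists_ev (k := k) m
  obtain ⟨π, hπ, hgen⟩ := exists_gen hb hsm ev
  rw [hev] at hπ hgen
  have hnf : ¬ IsField (Localization.AtPrime m) :=
    IsLocalization.AtPrime.not_isField A hm _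
  have hprin : (maximalIdeal (Localization.AtPrime m)).IsPrincipal := by
    refine ⟨⟨algebraMap A (Localization.AtPrime m) π, ?_⟩⟩
    apply le_antisymm
    · apply Submodule.le_of_le_smul_of_le_jacobson_bot
        (I := maximalIdeal (Localization.AtPrime m))
      · exact IsNoetherian.noetherian _
      · exact IsLocalRing.maximalIdeal_le_jacobson _
      · rw [← Localization.AtPrime.map_eq_maximalIdeal, Ideal.map_le_iff_le_comap]
        intro a ha
        obtain ⟨c, hc⟩ := hgen a ha
        rw [Ideal.mem_comap]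
        have h1 : algebraMap A (Localization.AtPrime m) a =
            algebraMap A (Localization.AtPrime m) (c • π) +
            algebraMap A (Localization.AtPrime m) (a - c • π) := by
          rw [← map_add, add_sub_cancel]
        rw [h1]
        refine Submodule.add_mem_sup ?_ ?_
        · rw [Submodule.mem_span_singleton]
          refine ⟨algebraMap A _ (algebraMap k A c), ?_⟩
          rw [Algebra.smul_def c π, map_mul, smul_eq_mul]
        · rw [smul_eq_mul, ← pow_two, ← Ideal.map_pow]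
          exact Ideal.mem_map_of_mem _ hc
    · rw [Submodule.span_singleton_le_iff_mem, ← Localization.AtPrime.map_eq_maximalIdeal]
      exact Ideal.mem_map_of_mem _ hπ
  have hdvr : IsDiscreteValuationRing (Localization.AtPrime m) :=
    ((IsDiscreteValuationRing.TFAE (Localization.AtPrime m) hnf).out 4 0).1 hprin
  infer_instance

end Groth.Agent.CurvesA.SpDecC109
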