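import Groth.Agent.CurvesA.SpDecB109
import Mathlib.RingTheory.Valuation.IsTrivialOn

/-!
# The place at infinity is unique
-/

set_option autoImplicit false

namespace Groth.Agent.CurvesA.SpDecD109

open Polynomial WithZero Groth.Agent.CurvesA.Sp Groth.Agent.CurvesA.SpDecB109

universe u

section Comb

variable {n : ℕ} {s : Fin (n + 1) → ℕ}

theorem exists_mod (hs : IsWt s) (r : ℕ) : ∃ i, s i % (n + 1) = r % (n + 1) := by
  have h1 : Function.Injective (fun i : Fin (n + 1) =>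
      (⟨s i % (n + 1), Nat.mod_lt _ (Nat.succ_pos n)⟩ : Fin (n + 1))) := by
    intro i j hij
    exact hs.inj i j (congrArg Fin.val hij)
  have h2 := Finite.surjective_of_injective h1
  obtain ⟨i, hi⟩ := h2 ⟨r % (n + 1), Nat.mod_lt _ (Nat.succ_pos n)⟩
  exact ⟨i, congrArg Fin.val hi⟩

/-- complete a degree to a multiple of `n + 1` -/
theorem exists_compl (hs : IsWt s) (m : ℕ) : ∃ i d, m + s i = (n + 1) * d := by
  obtain ⟨i, hi⟩ := exists_mod hs (n * m)
  have h1 : (n + 1) ∣ m + s i := by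
    apply Nat.dvd_of_mod_eq_zero
    rw [Nat.add_mod, hi, ← Nat.add_mod]
    have : m + n * m = (n + 1) * m := by ring
    rw [this]
    exact Nat.mul_mod_right _ _
  obtain ⟨d, hd⟩ := h1
  exact ⟨i, d, hd⟩

end Comb

section Inf

variable {k : Type u} [Field k] {n : ℕ} {s : Fin (n + 1) → ℕ} {P : SC n k[X]}
  {A : Type u} [CommRing A] [Algebra k[X] A] [Algebra k A] [IsScalarTower k k[X] A]
  {b : Module.Basis (Fin (n + 1)) k[X] A}
  {Γ : Type*} [LinearOrderedCommGroupWithZero Γ] {v : Valuation A Γ}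

omit [IsScalarTower k k[X] A] [Algebra k A] in
theorem exists_exp {a : A} (ha : a ≠ 0) : ∃ m : ℕ, vv s b a = exp (m : ℤ) := by
  obtain ⟨i, hi⟩ := exists_vv (s := s) (b := b) a
  have hp : b.repr a i ≠ 0 := by
    intro h
    rw [h, w_zero, zero_mul] at hi
    exact ha (vv_eq_zero.1 hi)
  refine ⟨(n + 1) * (b.repr a i).natDegree + s i, ?_⟩
  rw [hi, w_of_ne n hp, ← exp_add]
  push_cast
  rfl

omit [Algebra k[X] A] [Algebra k A] [IsScalarTower k k[X] A] in
theorem exists_le_sum {ι : Type*} [Fintype ι] [Nonempty ι] (v : Valuation A Γ) (f : ι → A) :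
    ∃ l, v (∑ i, f i) ≤ v (f l) := by
  obtain ⟨l, hl⟩ := Finite.exists_max (fun i => v (f i))
  exact ⟨l, v.map_sum_le fun i _ => hl i⟩

theorem v_poly (hk : v.IsTrivialOn k) (hX : 1 < v (algebraMap k[X] A X)) {p : k[X]} (hp : p ≠ 0) :
    v (algebraMap k[X] A p) = v (algebraMap k[X] A X) ^ p.natDegree := by
  have h1 := Polynomial.valuation_aeval_eq_valuation_X_pow_natDegree_of_one_lt_valuation_X
    (v := v) (algebraMap k[X] A X) hX hp
  rw [← h1]
  congr 1
  have h2 : (IsScalarTower.toAlgHom k k[X] A) = aeval (algebraMap k[X] A X) := by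
    apply Polynomial.algHom_ext
    simp
  exact DFunLike.congr_fun h2 p

theorem v_basis_le (_hs : IsWt s) (hd : IsDeg s P) (hb : IsB P b) (hk : v.IsTrivialOn k)
    (hX : 1 < v (algebraMap k[X] A X)) (i : Fin (n + 1)) :
    v (b i) ^ (n + 1) ≤ v (algebraMap k[X] A X) ^ s i := by
  have hγ0 : v (algebraMap k[X] A X) ≠ 0 := (zero_lt_one.trans hX).ne'
  set γ := v (algebraMap k[X] A X) with hγ
  obtain ⟨i₀, hi₀⟩ := Finite.exists_max (fun i => v (b i) ^ (n + 1) * (γ ^ s i)⁻¹)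
  set M := v (b i₀) ^ (n + 1) * (γ ^ s i₀)⁻¹ with hM
  have h1 : ∀ i, v (b i) ^ (n + 1) ≤ M * γ ^ s i := by
    intro i
    have := hi₀ i
    rwa [mul_inv_le_iff₀ (zero_lt_iff.2 (pow_ne_zero _ hγ0))] at this
  have h2 : v (b i₀) ^ (n + 1) = M * γ ^ s i₀ := by
    rw [hM, mul_assoc, inv_mul_cancel₀ (pow_ne_zero _ hγ0), mul_one]
  suffices hM1 : M ≤ 1 by
    refine (h1 i).trans ?_
    calc M * γ ^ s i ≤ 1 * γ ^ s i := by gcongr
      _ = _ := one_mul _
  -- `e_i²`
  have h3 : M * M * (γ ^ s i₀ * γ ^ s i₀) ≤ M * (γ ^ s i₀ * γ ^ s i₀) := by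
    obtain ⟨l, hl⟩ := exists_le_sum v (fun l => P i₀ i₀ l • b l)
    rw [← hb.mul, map_mul] at hl
    have h4 : M * M * (γ ^ s i₀ * γ ^ s i₀) = (v (b i₀) * v (b i₀)) ^ (n + 1) := by
      rw [mul_pow, h2, mul_mul_mul_comm]
    rw [h4]
    refine (pow_le_pow_left₀ zero_le hl (n + 1)).trans ?_
    by_cases h0 : P i₀ i₀ l = 0
    · rw [h0, zero_smul, map_zero, zero_pow (Nat.succ_ne_zero n)]
      exact zero_le
    rw [Algebra.smul_def, map_mul, v_poly hk hX h0, mul_pow, ← pow_mul]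
    have h5 : (P i₀ i₀ l).natDegree * (n + 1) + s l ≤ s i₀ + s i₀ := by
      by_contra hcon
      have h6 := hd.le i₀ i₀ l (P i₀ i₀ l).natDegree (by
        rw [mul_comm (n + 1)]
        omega)
      rw [coeff_natDegree, leadingCoeff_eq_zero] at h6
      exact h0 h6
    calc γ ^ ((P i₀ i₀ l).natDegree * (n + 1)) * v (b l) ^ (n + 1)
        ≤ γ ^ ((P i₀ i₀ l).natDegree * (n + 1)) * (M * γ ^ s l) := by
          gcongr
          exact h1 l
      _ = M * γ ^ ((P i₀ i₀ l).natDegree * (n + 1) + s l) := by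
          rw [pow_add, mul_left_comm]
      _ ≤ M * γ ^ (s i₀ + s i₀) := by
          gcongr
          exact hX.le
      _ = _ := by rw [pow_add]
  by_contra hM1
  rw [not_le] at hM1
  have h5 : (0 : Γ) < M * (γ ^ s i₀ * γ ^ s i₀) :=
    mul_pos (zero_lt_one.trans hM1) (mul_pos (pow_pos (zero_lt_iff.2 hγ0) _)
      (pow_pos (zero_lt_iff.2 hγ0) _))
  have h6 : 1 * (M * (γ ^ s i₀ * γ ^ s i₀)) < M * (M * (γ ^ s i₀ * γ ^ s i₀)) :=
    mul_lt_mul_of_pos_right hM1 h5
  rw [one_mul] at h6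
  rw [mul_assoc M M] at h3
  exact absurd h3 (not_le.2 h6)

theorem v_le (hs : IsWt s) (hd : IsDeg s P) (hb : IsB P b) (hk : v.IsTrivialOn k)
    (hX : 1 < v (algebraMap k[X] A X)) {a : A} {m : ℕ} (ha : vv s b a ≤ exp (m : ℤ)) :
    v a ^ (n + 1) ≤ v (algebraMap k[X] A X) ^ m := by
  obtain ⟨l, hl⟩ := exists_le_sum v (fun l => b.repr a l • b l)
  rw [b.sum_repr] at hl
  refine (pow_le_pow_left₀ zero_le hl (n + 1)).trans ?_
  by_cases h0 : b.repr a l = 0
  · rw [h0, zero_smul, map_zero, zero_pow (Nat.succ_ne_zero n)]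
    exact zero_le
  rw [Algebra.smul_def, map_mul, v_poly hk hX h0, mul_pow, ← pow_mul]
  have h1 := vv_le_iff.1 ha l
  rw [w_of_ne n h0, ← exp_add, exp_le_exp] at h1
  have h2 : (b.repr a l).natDegree * (n + 1) + s l ≤ m := by
    rw [mul_comm]
    exact_mod_cast h1
  calc v (algebraMap k[X] A X) ^ ((b.repr a l).natDegree * (n + 1)) * v (b l) ^ (n + 1)
      ≤ v (algebraMap k[X] A X) ^ ((b.repr a l).natDegree * (n + 1)) *
          v (algebraMap k[X] A X) ^ s l :=
        mul_le_mul' le_rfl (v_basis_le hs hd hb hk hX l)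
    _ = v (algebraMap k[X] A X) ^ ((b.repr a l).natDegree * (n + 1) + s l) := (pow_add _ _ _).symm
    _ ≤ _ := pow_le_pow_right₀ hX.le h2

theorem v_eq (hs : IsWt s) (hd : IsDeg s P) (hb : IsB P b) (hk : v.IsTrivialOn k)
    (hX : 1 < v (algebraMap k[X] A X)) {a : A} {m : ℕ} (ha : vv s b a = exp (m : ℤ)) :
    v a ^ (n + 1) = v (algebraMap k[X] A X) ^ m := by
  have hγ0 : v (algebraMap k[X] A X) ≠ 0 := (zero_lt_one.trans hX).ne'
  obtain ⟨j, d, hj⟩ := exists_compl hs m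
  have h1 : vv s b (a * b j) = exp (((n + 1) * d : ℕ) : ℤ) := by
    rw [vv_mul hs hd hb, ha, vv_basis, ← exp_add, ← hj]
    push_cast
    rfl
  have h2 : a * b j ≠ 0 := by
    intro h
    rw [h, vv_zero] at h1
    exact exp_ne_zero h1.symm
  obtain ⟨i, p, a', hp, h3, h4, h5⟩ := exists_lead (b := b) hs h2
  rw [h4] at h1
  rw [w_of_ne n hp, ← exp_add, exp_inj] at h1
  have h6 : (n + 1) * p.natDegree + s i = (n + 1) * d := by exact_mod_cast h1
  have hi : i = 0 := by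
    apply hs.inj
    rw [hs.zero]
    have h7 : ((n + 1) * p.natDegree + s i) % (n + 1) = ((n + 1) * d) % (n + 1) := by rw [h6]
    rw [Nat.mul_add_mod, Nat.mul_mod_right] at h7
    exact h7
  subst hi
  rw [hs.zero, add_zero] at h6
  have hdeg : p.natDegree = d := Nat.eq_of_mul_eq_mul_left (Nat.succ_pos n) h6
  rw [hb.zero, Algebra.smul_def, mul_one] at h3
  -- `v p ^ (n+1) = γ ^ ((n+1) d)`
  have h8 : v (algebraMap k[X] A p) ^ (n + 1) = v (algebraMap k[X] A X) ^ ((n + 1) * d) := by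
    rw [v_poly hk hX hp, hdeg, ← pow_mul, mul_comm]
  have h9 : v a' ^ (n + 1) < v (algebraMap k[X] A p) ^ (n + 1) := by
    rw [h8]
    by_cases ha' : a' = 0
    · rw [ha', map_zero, zero_pow (Nat.succ_ne_zero n)]
      exact pow_pos (zero_lt_iff.2 hγ0) _
    obtain ⟨m', hm'⟩ := exists_exp (s := s) (b := b) ha'
    have h10 : m' < (n + 1) * d := by
      rw [hm', h4, w_of_ne n hp, ← exp_add, exp_lt_exp, hs.zero, hdeg] at h5
      simp only [Nat.cast_zero, add_zero] at h5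
      exact_mod_cast h5
    exact (v_le hs hd hb hk hX hm'.le).trans_lt (pow_lt_pow_right₀ hX h10)
  have h10 : v a' < v (algebraMap k[X] A p) := lt_of_pow_lt_pow_left₀ _ zero_le h9
  have h11 : v (a * b j) = v (algebraMap k[X] A p) := by
    rw [h3]
    exact v.map_add_eq_of_lt_left h10
  have h12 : v a ^ (n + 1) * v (b j) ^ (n + 1) = v (algebraMap k[X] A X) ^ (m + s j) := by
    rw [← mul_pow, ← map_mul, h11, h8, hj]
  apply le_antisymm (v_le hs hd hb hk hX ha.le)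
  by_contra hcon
  rw [not_le] at hcon
  have h13 : v a ^ (n + 1) * v (b j) ^ (n + 1) < v (algebraMap k[X] A X) ^ (m + s j) := by
    calc v a ^ (n + 1) * v (b j) ^ (n + 1)
        ≤ v a ^ (n + 1) * v (algebraMap k[X] A X) ^ s j :=
          mul_le_mul' le_rfl (v_basis_le hs hd hb hk hX j)
      _ < v (algebraMap k[X] A X) ^ m * v (algebraMap k[X] A X) ^ s j :=
          mul_lt_mul_of_pos_right hcon (pow_pos (zero_lt_iff.2 hγ0) _)
      _ = _ := (pow_add _ _ _).symm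
  exact absurd h12 h13.ne

/-- Comparison with the degree valuation. -/
theorem v_le_iff (hs : IsWt s) (hd : IsDeg s P) (hb : IsB P b) (hk : v.IsTrivialOn k)
    (hX : 1 < v (algebraMap k[X] A X)) {a c : A} (ha : a ≠ 0) (hc : c ≠ 0) :
    v a ≤ v c ↔ vv s b a ≤ vv s b c := by
  obtain ⟨m, hm⟩ := exists_exp (s := s) (b := b) ha
  obtain ⟨m', hm'⟩ := exists_exp (s := s) (b := b) hc
  rw [← pow_le_pow_iff_left₀ zero_le zero_le (Nat.succ_ne_zero n), v_eq hs hd hb hk hX hm,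
    v_eq hs hd hb hk hX hm', hm, hm', exp_le_exp, pow_le_pow_iff_right₀ hX]
  exact Int.ofNat_le.symm

end Inf

end Groth.Agent.CurvesA.SpDecD109
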