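import Groth.Agent.CurvesA.SpDecA109
import Groth.Agent.CurvesA.SpDecC109
import Groth.Agent.CurvesA.SpDecD109
import Groth.Agent.MiscA.WCSep
import Mathlib.RingTheory.Valuation.LocalSubring

/-!
# Decoding: smooth structure constants define a curve
-/

set_option autoImplicit false

namespace Groth.Agent.CurvesA.SpDecode109

open Polynomial WithZero Algebra Groth.Agent.CurvesA.Sp Groth.Agent.CurvesA.SpDecB109
  Groth.Agent.CurvesA.SpDecD109 Groth.Agent.MiscA.WCPlace Groth.Agent.MiscA.WCPlaceCrv
  Groth.Agent.MiscA.WCSep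

universe u

section K

variable {k : Type u} [Field k] {n : ℕ} {s : Fin (n + 1) → ℕ} {P : SC n k[X]}
  {A : Type u} [CommRing A] [Algebra k[X] A]
  {b : Module.Basis (Fin (n + 1)) k[X] A}
  (hs : IsWt s) (hd : IsDeg s P) (hb : IsB P b)

theorem le_primeCompl [IsDomain A] :
    nonZeroDivisors A ≤ (valA hs hd hb).supp.primeCompl := by
  intro a ha h
  rw [SetLike.mem_coe, Valuation.mem_supp_iff, valA_apply, vv_eq_zero] at h
  exact nonZeroDivisors.ne_zero ha h

variable (K : Type u) [Field K] [Algebra A K] [IsFractionRing A K]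

/-- the degree valuation on the field of fractions -/
noncomputable def vK [IsDomain A] : Valuation K ℤᵐ⁰ :=
  (valA hs hd hb).extendToLocalization (le_primeCompl hs hd hb) K

theorem vK_algebraMap [IsDomain A] (a : A) : vK hs hd hb K (algebraMap A K a) = vv s b a :=
  Valuation.extendToLocalization_apply_map_apply _ _ _ _

variable {K}

variable [Algebra k A] [IsScalarTower k k[X] A] [Algebra k K] [IsScalarTower k A K]

omit [IsFractionRing A K] in
theorem aeval_x (p : k[X]) : aeval (algebraMap A K (algebraMap k[X] A X)) p =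
    algebraMap A K (algebraMap k[X] A p) := by
  have h2 : ((IsScalarTower.toAlgHom k A K).comp (IsScalarTower.toAlgHom k k[X] A)) =
      aeval (algebraMap A K (algebraMap k[X] A X)) := by
    apply Polynomial.algHom_ext
    simp
  exact (DFunLike.congr_fun h2 p).symm

include hs hb in
omit [Algebra k K] [IsScalarTower k A K] [IsFractionRing A K] in
theorem vv_const {c : k} (hc : c ≠ 0) : vv s b (algebraMap k A c) = 1 := by
  rw [IsScalarTower.algebraMap_apply k k[X] A]
  have h1 : algebraMap k[X] A (algebraMap k k[X] c) = (C c : k[X]) • (1 : A) := by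
    rw [Algebra.smul_def, mul_one]
    rfl
  rw [h1, vv_smul, vv_one hs hb, mul_one]
  exact w_C n hc

include hs hb in
omit [Algebra k A] [IsScalarTower k k[X] A] [Algebra k K] [IsScalarTower k A K]
  [IsFractionRing A K] in
theorem vv_poly (p : k[X]) : vv s b (algebraMap k[X] A p) = w n p := by
  have h1 : algebraMap k[X] A p = p • (1 : A) := by
    rw [Algebra.smul_def, mul_one]
  rw [h1, vv_smul, vv_one hs hb, mul_one]

theorem vK_const [IsDomain A] (c : k) : vK hs hd hb K (algebraMap k K c) ≤ 1 := by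
  by_cases hc : c = 0
  · simp [hc]
  rw [IsScalarTower.algebraMap_apply k A K, vK_algebraMap, vv_const hs hb hc]

omit [Algebra k A] [IsScalarTower k k[X] A] [Algebra k K] [IsScalarTower k A K] in
theorem vK_x [IsDomain A] : vK hs hd hb K (algebraMap A K (algebraMap k[X] A X)) =
    exp ((n + 1 : ℕ) : ℤ) := by
  rw [vK_algebraMap, vv_poly hs hb, w_X]

omit [Algebra k A] [IsScalarTower k k[X] A] [Algebra k K] [IsScalarTower k A K] in
theorem one_lt_vK_x [IsDomain A] :
    1 < vK hs hd hb K (algebraMap A K (algebraMap k[X] A X)) := by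
  rw [vK_x, ← exp_zero, exp_lt_exp]
  positivity

omit [Algebra k A] [IsScalarTower k k[X] A] [Algebra k K] [IsScalarTower k A K] in
theorem exists_unif [IsDomain A] : ∃ π : K, vK hs hd hb K π = exp (-1 : ℤ) := by
  obtain ⟨i, d, hi⟩ := exists_compl hs 1
  refine ⟨algebraMap A K (b i) / algebraMap A K (algebraMap k[X] A X) ^ d, ?_⟩
  rw [map_div₀, map_pow, vK_x, vK_algebraMap, vv_basis, ← exp_nsmul, ← exp_sub]
  congr 1
  have : (1 : ℤ) + s i = (n + 1) * d := by exact_mod_cast hi
  simp only [nsmul_eq_mul]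
  push_cast
  linarith

/-- the place at infinity -/
noncomputable def plO [IsDomain A] : Place k K :=
  ⟨(vK hs hd hb K).valuationSubring, by
    intro h
    have h1 : algebraMap A K (algebraMap k[X] A X) ∈ (vK hs hd hb K).valuationSubring := by
      rw [h]
      exact ValuationSubring.mem_top _
    rw [Valuation.mem_valuationSubring_iff] at h1
    exact absurd h1 (not_le.2 (one_lt_vK_x hs hd hb)), fun c => by
    rw [Valuation.mem_valuationSubring_iff]
    exact vK_const hs hd hb c⟩

theorem mem_plO [IsDomain A] (z : K) :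
    z ∈ (plO hs hd hb : Place k K).1 ↔ vK hs hd hb K z ≤ 1 := Iff.rfl

omit [Algebra k A] [IsScalarTower k k[X] A] [IsScalarTower k A K] in
theorem isTrivialOn {Q : ValuationSubring K} (hQ : ∀ c : k, algebraMap k K c ∈ Q) :
    ∀ c : k, c ≠ 0 → Q.valuation (algebraMap k K c) = 1 := by
  intro c hc
  apply le_antisymm ((Q.valuation_le_one_iff _).2 (hQ c))
  have h2 := (Q.valuation_le_one_iff _).2 (hQ c⁻¹)
  rw [map_inv₀, map_inv₀] at h2
  have h3 : Q.valuation (algebraMap k K c) ≠ 0 := by
    rw [Valuation.ne_zero_iff]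
    simpa using hc
  rwa [inv_le_one₀ (zero_lt_iff.2 h3)] at h2

/-- The place at infinity is the only one at which `x` has a pole. -/
theorem eq_plO [IsDomain A] (Q : Place k K)
    (hQ : algebraMap A K (algebraMap k[X] A X) ∉ Q.1) : Q = plO hs hd hb := by
  have hX : 1 < (Q.1.valuation.comap (algebraMap A K)) (algebraMap k[X] A X) := by
    rw [Valuation.comap_apply, ← not_le, Q.1.valuation_le_one_iff]
    exact hQ
  have hk : (Q.1.valuation.comap (algebraMap A K)).IsTrivialOn k := by
    refine ⟨fun c hc => ?_⟩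
    rw [Valuation.comap_apply, ← IsScalarTower.algebraMap_apply k A K]
    exact isTrivialOn Q.2.2 c hc
  apply Place.ext
  ext z
  rw [mem_plO, ← Q.1.valuation_le_one_iff]
  by_cases hz : z = 0
  · simp [hz]
  obtain ⟨a, c, hc, rfl⟩ := IsFractionRing.div_surjective (A := A) z
  have hc0 : c ≠ 0 := nonZeroDivisors.ne_zero hc
  have ha0 : a ≠ 0 := by
    rintro rfl
    simp at hz
  have hcK : algebraMap A K c ≠ 0 := by
    rwa [Ne, IsFractionRing.to_map_eq_zero_iff]
  have h1 := v_le_iff (s := s) hs hd hb hk hX ha0 hc0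
  rw [Valuation.comap_apply, Valuation.comap_apply] at h1
  rw [map_div₀, map_div₀, vK_algebraMap, vK_algebraMap]
  rw [div_le_one₀ (zero_lt_iff.2 (by rwa [Valuation.ne_zero_iff])), h1,
    div_le_one₀ (zero_lt_iff.2 (fun h => hc0 (vv_eq_zero.1 h)))]

include hs hd hb in
theorem ne_plO_iff [IsDomain A] (Q : Place k K) :
    Q ≠ plO hs hd hb ↔ algebraMap A K (algebraMap k[X] A X) ∈ Q.1 := by
  constructor
  · intro h
    by_contra hcon
    exact h (eq_plO hs hd hb Q hcon)
  · rintro h rfl
    rw [mem_plO] at h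
    exact absurd h (not_le.2 (one_lt_vK_x hs hd hb))

omit [IsFractionRing A K] in
include b in
theorem algebraMap_mem (Q : Place k K)
    (hQ : algebraMap A K (algebraMap k[X] A X) ∈ Q.1) (a : A) : algebraMap A K a ∈ Q.1 := by
  have hfin : Module.Finite k[X] A := Module.Finite.of_basis b
  let : Algebra k[X] K := ((algebraMap A K).comp (algebraMap k[X] A)).toAlgebra
  have : IsScalarTower k[X] A K := IsScalarTower.of_algebraMap_eq fun _ => rfl
  have h1 : IsIntegral k[X] a := Algebra.IsIntegral.isIntegral a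
  have h2 : IsIntegral k[X] (algebraMap A K a) := h1.map (IsScalarTower.toAlgHom k[X] A K)
  refine mem_of_isIntegral Q.1 ?_ h2
  intro p
  change algebraMap A K (algebraMap k[X] A p) ∈ Q.1
  rw [← aeval_x]
  exact aeval_mem Q hQ p

include hs hd hb in
theorem mem_range_iff [IsDomain A] [IsIntegrallyClosed A] (f : K) :
    (∀ Q : Place k K, Q ≠ plO hs hd hb → f ∈ Q.1) ↔ ∃ a : A, algebraMap A K a = f := by
  constructor
  · intro h
    by_contra hcon
    have h1 : f ∉ (algebraMap A K).range := by
      rintro ⟨a, ha⟩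
      exact hcon ⟨a, ha⟩
    have h2 : IsIntegrallyClosedIn (algebraMap A K).range K := by
      rw [isIntegrallyClosedIn_iff]
      refine ⟨Subtype.val_injective, ?_⟩
      intro x hx
      have h3 : IsIntegral A x := by
        obtain ⟨p, hp, hpx⟩ := hx
        have hsurj : Function.Surjective (algebraMap A K).rangeRestrict :=
          (algebraMap A K).rangeRestrict_surjective
        obtain ⟨q, hq, -, hqm⟩ := Polynomial.lifts_and_degree_eq_and_monic
          (f := (algebraMap A K).rangeRestrict) (p := p)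
          ((Polynomial.mem_lifts _).2 (Polynomial.map_surjective _ hsurj p)) hp
        refine ⟨q, hqm, ?_⟩
        rw [← hq, Polynomial.eval₂_map] at hpx
        exact hpx
      obtain ⟨y, hy⟩ := IsIntegrallyClosed.isIntegral_iff.1 h3
      exact ⟨⟨x, ⟨y, hy⟩⟩, rfl⟩
    obtain ⟨V, hV, hfV⟩ := Subring.exists_le_valuationSubring_of_isIntegrallyClosedIn h1
    have hVk : ∀ c : k, algebraMap k K c ∈ V := by
      intro c
      rw [IsScalarTower.algebraMap_apply k A K]
      exact hV ⟨_, rfl⟩
    have hVtop : V ≠ ⊤ := by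
      rintro rfl
      exact hfV (ValuationSubring.mem_top _)
    exact hfV (h ⟨V, hVtop, hVk⟩ ((ne_plO_iff hs hd hb ⟨V, hVtop, hVk⟩).2 (hV ⟨_, rfl⟩)))
  · rintro ⟨a, rfl⟩ Q hQ
    rw [ne_plO_iff] at hQ
    exact algebraMap_mem (b := b) Q hQ a

include b in
theorem exists_sep [IsAlgClosed k] [IsDomain A] : ∃ t : K, IsSep k K t := by
  have hfin : Module.Finite k[X] A := Module.Finite.of_basis b
  have hft : Algebra.FiniteType k A := Algebra.FiniteType.trans
    (inferInstance : Algebra.FiniteType k k[X]) (inferInstance : Algebra.FiniteType k[X] A)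
  have hess1 : Algebra.EssFiniteType A K :=
    Algebra.EssFiniteType.of_isLocalization _ (nonZeroDivisors A)
  have hess : Algebra.EssFiniteType k K := Algebra.EssFiniteType.comp k A K
  apply exists_isSep_of_trdeg
  have hinj : Function.Injective (algebraMap k[X] A) := by
    have : Module.Free k[X] A := Module.Free.of_basis b
    exact FaithfulSMul.algebraMap_injective _ _
  have : FaithfulSMul k[X] A := (faithfulSMul_iff_algebraMap_injective _ _).2 hinj
  have : FaithfulSMul k A := (faithfulSMul_iff_algebraMap_injective _ _).2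
    (algebraMap k A).injective
  have h1 : Algebra.trdeg k k[X] + Algebra.trdeg k[X] A = Algebra.trdeg k A :=
    trdeg_add_eq k k[X]
  rw [Groth.Agent.CycB.TrdegFrac.trdeg_fractionField k A k K, ← h1,
    Polynomial.trdeg_of_isDomain, trdeg_eq_zero, add_zero]

theorem pres [IsAlgClosed k] [IsDomain A] [IsIntegrallyClosed A] (h : ∃ t : K, IsSep k K t) :
    Pres (crv h) (plO hs hd hb) s P (algebraMap A K (algebraMap k[X] A X))
      (fun i => algebraMap A K (b i)) := by
  have hv : (crv h).v (plO hs hd hb) = vK hs hd hb K := by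
    obtain ⟨t, ht⟩ := h
    exact ht.val_eq_of _ (exists_unif hs hd hb) rfl
  refine ⟨?_, ?_, ?_, ?_, ?_⟩
  · rw [hb.zero, map_one]
  · intro i j
    rw [← map_mul, hb.mul, map_sum]
    refine Finset.sum_congr rfl fun l _ => ?_
    rw [Algebra.smul_def, map_mul, aeval_x]
  · rw [hv, vK_x]
  · intro i
    rw [hv, vK_algebraMap, vv_basis]
  · intro f
    have h1 : (∀ Q : Place k K, Q ≠ plO hs hd hb → (crv h).v Q f ≤ 1) ↔
        (∀ Q : Place k K, Q ≠ plO hs hd hb → f ∈ Q.1) := by
      obtain ⟨t, ht⟩ := h
      exact forall_congr' fun Q => imp_congr_right fun _ => ht.val_le_one_iff Q f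
    rw [h1, mem_range_iff hs hd hb]
    constructor
    · rintro ⟨a, rfl⟩
      refine ⟨fun i => b.repr a i, ?_⟩
      conv_lhs => rw [← b.sum_repr a]
      rw [map_sum]
      refine Finset.sum_congr rfl fun l _ => ?_
      rw [Algebra.smul_def, map_mul, aeval_x]
    · rintro ⟨u, rfl⟩
      refine ⟨∑ i, u i • b i, ?_⟩
      rw [map_sum]
      refine Finset.sum_congr rfl fun l _ => ?_
      rw [Algebra.smul_def, map_mul, aeval_x]

end K

open Groth.Agent.CurvesA.SpDecA109 in
/-- Decoding. -/
theorem P3 {k : Type u} [Field k] [IsAlgClosed k] {n : ℕ} {s : Fin (n + 1) → ℕ} (hs : IsWt s)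
    (P : SC n k[X]) (hP : IsRing P) (hd : IsDeg s P) (hsm : IsSm P) :
    ∃ (K : Type u) (_ : Field K) (_ : Algebra k K) (h : ∃ t : K, IsSep k K t) (O : Place k K)
      (x : K) (e : Fin (n + 1) → K), Pres (crv h) O s P x e := by
  let A := Alg hP
  let : Algebra k A := ((algebraMap k[X] A).comp (algebraMap k k[X])).toAlgebra
  have : IsScalarTower k k[X] A := IsScalarTower.of_algebraMap_eq fun _ => rfl
  have hb : IsB P (bas hP) := ⟨bas_zero hP, bas_mul hP⟩
  have : IsDomain A := SpDecB109.isDomain hs hd hb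
  have : IsIntegrallyClosed A := SpDecC109.isIntegrallyClosed hb hsm
  have h : ∃ t : FractionRing A, IsSep k (FractionRing A) t := exists_sep (A := A) (b := bas hP)
  exact ⟨FractionRing A, inferInstance, inferInstance, h, plO hs hd hb, _, _,
    pres hs hd hb h⟩

end Groth.Agent.CurvesA.SpDecode109
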