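import Groth.Agent.CurvesA.SpAsm
import Groth.Agent.CurvesA.SpEnc108

/-!
# Every curve over an algebraically closed field has smooth structure constants
-/

set_option autoImplicit false

namespace Groth.Agent.CurvesA.SpEncode108

open Groth.Agent.CurvesA.SpAsm
open Groth.Agent.MiscA.WCPlace Groth.Agent.MiscA.WCPlaceCrv Groth.Agent.MiscA.WCPlaceRes

universe u v

theorem encode : EncodeStmt.{u, v} := fun _ _ _ _ _ _ h O =>

  SpEnc108.P4 (crv h) (crv_fin h) (l_zero_eq_one_of_isAlgClosed h) (dg0_eq_one h) O

end Groth.Agent.CurvesA.SpEncode108
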