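import Groth.Agent.CurvesA.SpP1
import Groth.Agent.CurvesA.SpDiv105

/-!
# `#Cl[ℓ] = ℓ ^ (2 g)` over an algebraic closure of a finite field
-/

set_option autoImplicit false

namespace Groth.Agent.CurvesA.SpP1Main

open Groth.Agent.MiscA.WCPlace Groth.Agent.MiscA.WCPlaceCrv Groth.Agent.CurvesA

universe u v

/-- **Torsion in class groups over the algebraic closure of a finite field.** -/
theorem P1 {k : Type u} {K : Type v} [Field k] [IsAlgClosed k] [Field K] [Algebra k K]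
    (p : ℕ) [Fact p.Prime] [CharP k p] (halg : ∀ a : k, ∃ e, 1 ≤ e ∧ a ^ (p ^ e) = a)
    (h : ∃ t : K, IsSep k K t) (ℓ : ℕ) (hℓ : ℓ.Prime) (hℓp : ℓ ≠ p) :
    Nat.card {c : ZF.Cl (crv h) // ℓ • c = 0} = ℓ ^ (2 * (crv h).i 0) := by
  refine SpP1.P1_of p halg h ℓ hℓ hℓp (SpDiv105.P1b h ℓ ?_)
  intro h0
  rw [CharP.cast_eq_zero_iff k p] at h0
  exact hℓp ((Nat.prime_dvd_prime_iff_eq Fact.out hℓ).1 h0).symm

end Groth.Agent.CurvesA.SpP1Main
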