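import Groth.Agent.CurvesA.SpPres

/-!
# Smoothness of the structure constants of a curve

The structure constants of the ring of functions on a curve minus a point satisfy `IsSm`: every
tangent space has dimension at most one.
-/

set_option autoImplicit false

namespace Groth.Agent.CurvesA.Sp

open WithZero Finsupp Polynomial
open Groth.Agent.Models.FFRR Groth.Agent.CurvesA.ZF Groth.Agent.CurvesA.SpRR

section Functionals

variable {k : Type*} [Field k] {n : ℕ}

/-- evaluation at a point -/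
noncomputable def chi (ξ : k) (ζ : Fin (n + 1) → k) : (Fin (n + 1) → k[X]) →ₗ[k] k where
  toFun u := ∑ i, (u i).eval ξ * ζ i
  map_add' u w := by
    rw [← Finset.sum_add_distrib]
    refine Finset.sum_congr rfl fun i _ => ?_
    rw [Pi.add_apply, eval_add, add_mul]
  map_smul' c u := by
    rw [RingHom.id_apply, smul_eq_mul, Finset.mul_sum]
    refine Finset.sum_congr rfl fun i _ => ?_
    rw [Pi.smul_apply, eval_smul, smul_eq_mul, mul_assoc]

/-- the derivation of a tangent vector -/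
noncomputable def der (ξ : k) (ζ : Fin (n + 1) → k) (τ : k) (t : Fin (n + 1) → k) :
    (Fin (n + 1) → k[X]) →ₗ[k] k where
  toFun u := ∑ i, ((u i).eval ξ * t i + τ * (derivative (u i)).eval ξ * ζ i)
  map_add' u w := by
    rw [← Finset.sum_add_distrib]
    refine Finset.sum_congr rfl fun i _ => ?_
    rw [Pi.add_apply, derivative_add, eval_add, eval_add]
    ring
  map_smul' c u := by
    rw [RingHom.id_apply, smul_eq_mul, Finset.mul_sum]
    refine Finset.sum_congr rfl fun i _ => ?_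
    rw [Pi.smul_apply, derivative_smul, eval_smul, eval_smul, smul_eq_mul, smul_eq_mul]
    ring

variable {ξ : k} {ζ : Fin (n + 1) → k} {τ : k} {t : Fin (n + 1) → k}

theorem chi_apply (u : Fin (n + 1) → k[X]) : chi ξ ζ u = ∑ i, (u i).eval ξ * ζ i := rfl

theorem der_apply (u : Fin (n + 1) → k[X]) : der ξ ζ τ t u =
    ∑ i, ((u i).eval ξ * t i + τ * (derivative (u i)).eval ξ * ζ i) := rfl

theorem chi_mulc {P : SC n k[X]} (h : IsPt P ξ ζ) (u w : Fin (n + 1) → k[X]) :
    chi ξ ζ (mulc P u w) = chi ξ ζ u * chi ξ ζ w := by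
  rw [chi_apply, chi_apply, chi_apply, Finset.sum_mul_sum]
  have h1 : ∀ l, (mulc P u w l).eval ξ * ζ l =
      ∑ i, ∑ j, (u i).eval ξ * (w j).eval ξ * ((P i j l).eval ξ * ζ l) := by
    intro l
    unfold mulc
    rw [eval_finsetSum, Finset.sum_mul]
    refine Finset.sum_congr rfl fun i _ => ?_
    rw [eval_finsetSum, Finset.sum_mul]
    refine Finset.sum_congr rfl fun j _ => ?_
    rw [eval_mul, eval_mul]
    ring
  simp_rw [h1]
  rw [Finset.sum_comm]
  refine Finset.sum_congr rfl fun i _ => ?_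
  rw [Finset.sum_comm]
  refine Finset.sum_congr rfl fun j _ => ?_
  rw [← Finset.mul_sum, ← h.mul i j]
  ring

theorem der_mulc {P : SC n k[X]} (h : IsPt P ξ ζ) (h' : IsTan P ξ ζ τ t)
    (u w : Fin (n + 1) → k[X]) :
    der ξ ζ τ t (mulc P u w) = chi ξ ζ u * der ξ ζ τ t w + der ξ ζ τ t u * chi ξ ζ w := by
  rw [der_apply, chi_apply, der_apply, der_apply, chi_apply, Finset.sum_mul_sum,
    Finset.sum_mul_sum, ← Finset.sum_add_distrib]
  have h1 : ∀ l, (mulc P u w l).eval ξ * t l + τ * (derivative (mulc P u w l)).eval ξ * ζ l =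
      ∑ i, ∑ j, ((u i).eval ξ * (w j).eval ξ *
          ((P i j l).eval ξ * t l + τ * (derivative (P i j l)).eval ξ * ζ l) +
        τ * ((derivative (u i)).eval ξ * (w j).eval ξ + (u i).eval ξ * (derivative (w j)).eval ξ) *
          ((P i j l).eval ξ * ζ l)) := by
    intro l
    unfold mulc
    rw [eval_finsetSum, Finset.sum_mul, derivative_sum, eval_finsetSum, Finset.mul_sum,
      Finset.sum_mul, ← Finset.sum_add_distrib]
    refine Finset.sum_congr rfl fun i _ => ?_
    rw [eval_finsetSum, Finset.sum_mul, derivative_sum, eval_finsetSum, Finset.mul_sum,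
      Finset.sum_mul, ← Finset.sum_add_distrib]
    refine Finset.sum_congr rfl fun j _ => ?_
    simp only [derivative_mul, eval_mul, eval_add]
    ring
  simp_rw [h1]
  rw [Finset.sum_comm]
  refine Finset.sum_congr rfl fun i _ => ?_
  rw [Finset.sum_comm, ← Finset.sum_add_distrib]
  refine Finset.sum_congr rfl fun j _ => ?_
  rw [Finset.sum_add_distrib, ← Finset.mul_sum, ← Finset.mul_sum, ← h.mul i j, ← h'.mul i j]
  ring

theorem chi_onec {P : SC n k[X]} (h : IsPt P ξ ζ) : chi ξ ζ (onec : Fin (n + 1) → k[X]) = 1 := by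
  rw [chi_apply, Finset.sum_eq_single 0]
  · simp [onec, h.one]
  · intro i _ hi
    simp [onec, hi]
  · intro h0
    exact absurd (Finset.mem_univ _) h0

theorem der_onec {P : SC n k[X]} (h' : IsTan P ξ ζ τ t) :
    der ξ ζ τ t (onec : Fin (n + 1) → k[X]) = 0 := by
  rw [der_apply]
  refine Finset.sum_eq_zero fun i _ => ?_
  by_cases hi : i = 0
  · subst hi
    simp [onec, h'.one]
  · simp [onec, hi]

/-- the coordinate vector of `x` -/
noncomputable def xvec : Fin (n + 1) → k[X] := fun l => if l = 0 then Polynomial.X else 0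

/-- the coordinate vector of `e i` -/
noncomputable def evec (i : Fin (n + 1)) : Fin (n + 1) → k[X] := fun l => if l = i then 1 else 0

theorem chi_xvec {P : SC n k[X]} (h : IsPt P ξ ζ) : chi ξ ζ (xvec : Fin (n + 1) → k[X]) = ξ := by
  rw [chi_apply, Finset.sum_eq_single 0]
  · simp [xvec, h.one]
  · intro i _ hi
    simp [xvec, hi]
  · intro h0
    exact absurd (Finset.mem_univ _) h0

theorem der_xvec {P : SC n k[X]} (h : IsPt P ξ ζ) (h' : IsTan P ξ ζ τ t) :
    der ξ ζ τ t (xvec : Fin (n + 1) → k[X]) = τ := by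
  rw [der_apply, Finset.sum_eq_single 0]
  · simp [xvec, h.one, h'.one]
  · intro i _ hi
    simp [xvec, hi]
  · intro h0
    exact absurd (Finset.mem_univ _) h0

theorem der_evec (i : Fin (n + 1)) :
    der ξ ζ τ t (evec i : Fin (n + 1) → k[X]) = t i := by
  rw [der_apply, Finset.sum_eq_single i]
  · simp [evec]
  · intro j _ hj
    simp [evec, hj]
  · intro h0
    exact absurd (Finset.mem_univ _) h0

end Functionals

section Geometry

variable {k K X : Type*} [Field k] [Field K] [Algebra k K] {n : ℕ}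
variable {C : Crv k K X} {O : X} {s : Fin (n + 1) → ℕ} {P : SC n k[X]} {x : K}
  {e : Fin (n + 1) → K}

theorem iota_smul (c : k) (u : Fin (n + 1) → k[X]) :
    iota x e (c • u) = c • iota x e u := by
  unfold iota
  rw [Finset.smul_sum]
  refine Finset.sum_congr rfl fun i _ => ?_
  rw [Pi.smul_apply, map_smul, smul_mul_assoc]

theorem iota_xvec (he : e 0 = 1) : iota x e (xvec : Fin (n + 1) → k[X]) = x := by
  unfold iota
  rw [Finset.sum_eq_single 0]
  · simp [xvec, he]
  · intro i _ hi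
    simp [xvec, hi]
  · intro h0
    exact absurd (Finset.mem_univ _) h0

theorem v_smul_le (Q : X) (c : k) (f : K) : C.v Q (c • f) ≤ C.v Q f := by
  by_cases hc : c = 0
  · rw [hc, zero_smul, map_zero]
    exact zero_le
  · rw [Algebra.smul_def, map_mul, C.v_const_eq Q hc, one_mul]

/-- the vectors vanishing at a place -/
noncomputable def vanish (C : Crv k K X) (x : K) (e : Fin (n + 1) → K) (Q : X) :
    Submodule k (Fin (n + 1) → k[X]) where
  carrier := {u | C.v Q (iota x e u) < 1}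
  zero_mem' := by
    change C.v Q (iota x e 0) < 1
    rw [iota_zero, map_zero]
    exact zero_lt_one
  add_mem' := by
    intro u w hu hw
    change C.v Q (iota x e (u + w)) < 1
    rw [iota_add]
    exact Valuation.map_add_lt _ hu hw
  smul_mem' := by
    intro c u hu
    change C.v Q (iota x e (c • u)) < 1
    rw [iota_smul]
    exact (v_smul_le Q c _).trans_lt hu

theorem mem_vanish {Q : X} {u : Fin (n + 1) → k[X]} :
    u ∈ vanish C x e Q ↔ C.v Q (iota x e u) < 1 := Iff.rfl

/-- Every point of the algebra is given by a place different from `O`. -/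
theorem exists_place [Infinite k] (hC : C.Fin) (h1 : C.l 0 = 1) (hdg : ∀ P, C.dg0 P = 1)
    (hs : IsWt s) (h : Pres C O s P x e) {ξ : k} {ζ : Fin (n + 1) → k} (hpt : IsPt P ξ ζ) :
    ∃ Q, Q ≠ O ∧ ∀ u : Fin (n + 1) → k[X], chi ξ ζ u = 0 ↔ C.v Q (iota x e u) < 1 := by
  classical
  have : Nonempty X := ⟨O⟩
  -- it suffices to prove one direction
  suffices hmain : ∃ Q, Q ≠ O ∧ ∀ u : Fin (n + 1) → k[X], chi ξ ζ u = 0 →
      C.v Q (iota x e u) < 1 by
    obtain ⟨Q, hQ, hm⟩ := hmain
    refine ⟨Q, hQ, fun u => ⟨hm u, fun hu => ?_⟩⟩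
    by_contra hne
    have h2 : chi ξ ζ (u - chi ξ ζ u • onec) = 0 := by
      rw [map_sub, map_smul, chi_onec hpt, smul_eq_mul, mul_one, sub_self]
    have h3 := hm _ h2
    have h4 : iota x e (chi ξ ζ u • (onec : Fin (n + 1) → k[X])) =
        algebraMap k K (chi ξ ζ u) := by
      rw [iota_smul, iota_onec h.e_zero, Algebra.smul_def, mul_one]
    have h5 : C.v Q (algebraMap k K (chi ξ ζ u)) < 1 := by
      have h6 : algebraMap k K (chi ξ ζ u) =
          iota x e u - iota x e (u - chi ξ ζ u • (onec : Fin (n + 1) → k[X])) := by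
        rw [iota_sub, h4, sub_sub_cancel]
      rw [h6]
      exact Valuation.map_sub_lt _ hu h3
    rw [C.v_const_eq Q hne] at h5
    exact lt_irrefl _ h5
  by_contra hno
  push Not at hno
  -- the kernel of `chi`
  let V : Submodule k (Fin (n + 1) → k[X]) := LinearMap.ker (chi ξ ζ)
  have hx0 : iota x e (xvec - ξ • onec : Fin (n + 1) → k[X]) = x - algebraMap k K ξ := by
    rw [iota_sub, iota_xvec h.e_zero, iota_smul, iota_onec h.e_zero, Algebra.smul_def, mul_one]
  set g₀ : Fin (n + 1) → k[X] := xvec - ξ • onec with hg₀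
  have hg₀V : g₀ ∈ V := by
    change chi ξ ζ g₀ = 0
    rw [hg₀, map_sub, map_smul, chi_onec hpt, chi_xvec hpt, smul_eq_mul, mul_one, sub_self]
  have hg₀O : C.v O (iota x e g₀) = exp ((n + 1 : ℕ) : ℤ) := by
    rw [hx0, Valuation.map_sub_eq_of_lt_left]
    · exact h.vx
    · rw [h.vx]
      refine (C.v_const O ξ).trans_lt ?_
      rw [← exp_zero, exp_lt_exp]
      omega
  have hg₀0 : iota x e g₀ ≠ 0 := by
    intro h0
    rw [h0, map_zero] at hg₀O
    exact exp_ne_zero hg₀O.symm
  have hreg : ∀ u : Fin (n + 1) → k[X], ∀ Q, Q ≠ O → C.v Q (iota x e u) ≤ 1 :=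
    fun u => (h.span _).mpr ⟨u, rfl⟩
  -- the zeros of `g₀`
  let Z : Finset X := (C.div (iota x e g₀)).support.filter fun Q => Q ≠ O
  let W : X → Submodule k V := fun Q => (vanish C x e Q).submoduleOf V
  have hW : ∀ Q ∈ Z, W Q ≠ ⊤ := by
    intro Q hQ hT
    have h2 : V ≤ vanish C x e Q := by rwa [← Submodule.submoduleOf_eq_top]
    obtain ⟨u, hu, hu'⟩ := hno Q (Finset.mem_filter.mp hQ).2
    exact absurd (h2 (show u ∈ V from hu)) (not_lt.mpr hu')
  have hbot : (⊥ : Submodule k V) ≠ ⊤ := by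
    intro hb
    have h2 : (⟨g₀, hg₀V⟩ : V) ∈ (⊤ : Submodule k V) := trivial
    rw [← hb, Submodule.mem_bot] at h2
    have h3 : g₀ = 0 := congrArg Subtype.val h2
    exact hg₀0 (by rw [h3, iota_zero])
  have hsn : (⊤ : Submodule k V) ∉ insert ⊥ (Z.image W) := by
    rw [Finset.mem_insert, Finset.mem_image, not_or]
    refine ⟨fun h => hbot h.symm, ?_⟩
    rintro ⟨Q, hQ, hQ'⟩
    exact hW Q hQ hQ'
  have hne := Subspace.biUnion_ne_univ_of_top_notMem hsn
  obtain ⟨b, hb⟩ := (Set.ne_univ_iff_exists_notMem _).mp hne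
  simp only [Set.mem_iUnion, not_exists, Finset.mem_insert, Finset.mem_image, SetLike.mem_coe] at hb
  have hb0 : b.1 ≠ 0 := by
    intro h0
    exact hb ⊥ (Or.inl rfl) (by rw [Submodule.mem_bot]; exact Subtype.ext h0)
  have hbZ : ∀ Q ∈ Z, C.v Q (iota x e b.1) = 1 := by
    intro Q hQ
    have h2 : b ∉ W Q := hb (W Q) (Or.inr ⟨Q, hQ, rfl⟩)
    refine le_antisymm (hreg b.1 Q (Finset.mem_filter.mp hQ).2) ?_
    by_contra h3
    push Not at h3
    exact h2 h3
  have hbi : iota x e b.1 ≠ 0 := by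
    intro h0
    exact hb0 (iota_injective hs h.vx h.ve (by rw [h0, iota_zero]))
  have hcop : ∀ Q, Q ≠ O → C.v Q (iota x e g₀) = 1 ∨ C.v Q (iota x e b.1) = 1 := by
    intro Q hQ
    by_cases h2 : C.div (iota x e g₀) Q = 0
    · left
      rw [C.v_eq_exp hg₀0 Q, h2, neg_zero, exp_zero]
    · right
      exact hbZ Q (Finset.mem_filter.mpr ⟨Finsupp.mem_support_iff.mpr h2, hQ⟩)
  obtain ⟨p, q, hp, hq, hpq⟩ := exists_bezout hC h1 hdg O hg₀0 hbi (hreg _) (hreg _) hcop
    (2 * (C.i 0 : ℤ) - C.div (iota x e b.1) O) (2 * (C.i 0 : ℤ) - C.div (iota x e g₀) O)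
    (by rw [C.v_eq_exp hbi O, exp_le_exp]; omega) (by rw [C.v_eq_exp hg₀0 O, exp_le_exp]; omega)
  obtain ⟨up, rfl⟩ := (h.span p).mp (mem_L_single.mp hp).1
  obtain ⟨uq, rfl⟩ := (h.span q).mp (mem_L_single.mp hq).1
  change iota x e up * iota x e g₀ + iota x e uq * iota x e b.1 = 1 at hpq
  have h6 : iota x e (mulc P up g₀ + mulc P uq b.1) = iota x e (onec : Fin (n + 1) → k[X]) := by
    rw [iota_add, iota_mulc h.mul, iota_mulc h.mul, iota_onec h.e_zero, hpq]
  have h7 := iota_injective hs h.vx h.ve h6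
  have h8 := congrArg (chi ξ ζ) h7
  rw [map_add, chi_mulc hpt, chi_mulc hpt, chi_onec hpt, show chi ξ ζ g₀ = 0 from hg₀V,
    show chi ξ ζ b.1 = 0 from b.2, mul_zero, mul_zero, add_zero] at h8
  exact zero_ne_one h8

/-- The structure constants of a curve have tangent spaces of dimension at most one. -/
theorem isSm_of_pres' [Infinite k] (hC : C.Fin) (h1 : C.l 0 = 1) (hdg : ∀ P, C.dg0 P = 1)
    (hs : IsWt s) (h : Pres C O s P x e) : IsSm P := by
  classical
  have : Nonempty X := ⟨O⟩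
  intro ξ ζ hpt τ t τ' t' ht ht'
  obtain ⟨Q, hQO, hQ⟩ := exists_place hC h1 hdg hs h hpt
  have hreg : ∀ u : Fin (n + 1) → k[X], ∀ Q, Q ≠ O → C.v Q (iota x e u) ≤ 1 :=
    fun u => (h.span _).mpr ⟨u, rfl⟩
  -- a uniformizer
  obtain ⟨π, hπ0, hπL, hπQ⟩ := exists_exact hC h1 hdg
    (D := single O (2 * (C.i 0 : ℤ) + 1) - single Q 1)
    (by rw [map_sub, deg_single' hdg, deg_single' hdg]; omega) {Q}
  have hπQ' : C.v Q π = exp (-1) := by
    rw [hπQ Q (Finset.mem_singleton_self Q), Finsupp.sub_apply, single_eq_same,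
      single_eq_of_ne hQO, zero_sub]
  have hπA : ∀ R, R ≠ O → C.v R π ≤ 1 := by
    intro R hR
    refine ((Crv.mem_L _).mp hπL R).trans ?_
    rw [Finsupp.sub_apply, single_eq_of_ne hR, zero_sub, ← exp_zero, exp_le_exp]
    by_cases hRQ : R = Q
    · subst hRQ
      rw [single_eq_same]
      omega
    · rw [single_eq_of_ne hRQ]
      omega
  obtain ⟨uπ, hπ⟩ := (h.span π).mp hπA
  change π = iota x e uπ at hπ
  have hdivQ : C.div π Q = 1 := by
    have h2 := C.v_eq_exp hπ0 Q
    rw [hπQ', exp_inj] at h2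
    omega
  -- a denominator
  obtain ⟨b, hb0, hbL, hbQ⟩ := exists_exact hC h1 hdg
    (D := - C.div π + single Q 1 + single O (2 * (C.i 0 : ℤ)))
    (by rw [map_add, map_add, map_neg, hC.deg_div hπ0, deg_single' hdg, deg_single' hdg]; omega)
    {Q}
  have hbQ' : C.v Q b = 1 := by
    rw [hbQ Q (Finset.mem_singleton_self Q), Finsupp.add_apply, Finsupp.add_apply,
      Finsupp.neg_apply, hdivQ, single_eq_same, single_eq_of_ne hQO, ← exp_zero]
    congr 1
  have hbR : ∀ R, R ≠ O → R ≠ Q → C.v R b ≤ C.v R π := by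
    intro R hR hRQ
    refine ((Crv.mem_L _).mp hbL R).trans ?_
    rw [Finsupp.add_apply, Finsupp.add_apply, Finsupp.neg_apply, single_eq_of_ne hRQ,
      single_eq_of_ne hR, add_zero, add_zero, ← C.v_eq_exp hπ0 R]
  have hbA : ∀ R, R ≠ O → C.v R b ≤ 1 := by
    intro R hR
    by_cases hRQ : R = Q
    · rw [hRQ, hbQ']
    · exact (hbR R hR hRQ).trans (hπA R hR)
  obtain ⟨ub, hb⟩ := (h.span b).mp hbA
  change b = iota x e ub at hb
  have hchiπ : chi ξ ζ uπ = 0 := by
    rw [hQ, ← hπ, hπQ', ← exp_zero, exp_lt_exp]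
    omega
  have hchib : chi ξ ζ ub ≠ 0 := by
    intro h0
    rw [hQ, ← hb, hbQ'] at h0
    exact lt_irrefl _ h0
  -- every element of the maximal ideal is proportional to the uniformizer
  have key : ∀ u : Fin (n + 1) → k[X], ∃ c : k, ∀ (σ : k) (r : Fin (n + 1) → k),
      IsTan P ξ ζ σ r → der ξ ζ σ r u = c * der ξ ζ σ r uπ := by
    intro u
    set w : Fin (n + 1) → k[X] := u - chi ξ ζ u • onec with hw
    have hw0 : chi ξ ζ w = 0 := by
      rw [hw, map_sub, map_smul, chi_onec hpt, smul_eq_mul, mul_one, sub_self]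
    have hwQ := (hQ w).mp hw0
    have hgR : ∀ R, R ≠ O → C.v R (iota x e w * b / π) ≤ 1 := by
      intro R hR
      rw [map_div₀, map_mul]
      by_cases hRQ : R = Q
      · rw [hRQ, hbQ', mul_one, hπQ']
        rcases eq_or_ne (C.v Q (iota x e w)) 0 with h5 | h5
        · rw [h5, zero_div]
          exact zero_le
        · rw [← exp_log h5, ← exp_zero, exp_lt_exp] at hwQ
          rw [← exp_log h5, ← exp_sub, ← exp_zero, exp_le_exp]
          omega
      · have h6 : C.v R (iota x e w) * C.v R b ≤ C.v R π :=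
          (mul_le_of_le_one_left' (hreg w R hR)).trans (hbR R hR hRQ)
        exact div_le_one_of_le₀ h6 zero_le
    obtain ⟨ug, hg⟩ := (h.span _).mp hgR
    change iota x e w * b / π = iota x e ug at hg
    have h9 : mulc P w ub = mulc P ug uπ := by
      apply iota_injective hs h.vx h.ve
      rw [iota_mulc h.mul, iota_mulc h.mul, ← hb, ← hπ, ← hg, div_mul_cancel₀ _ hπ0]
    refine ⟨chi ξ ζ ug / chi ξ ζ ub, fun σ r hr => ?_⟩
    have h10 := congrArg (der ξ ζ σ r) h9
    rw [der_mulc hpt hr, der_mulc hpt hr, hw0, hchiπ, zero_mul, zero_add, mul_zero, add_zero]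
      at h10
    have h11 : der ξ ζ σ r w = der ξ ζ σ r u := by
      rw [hw, map_sub, map_smul, der_onec hr, smul_zero, sub_zero]
    rw [h11] at h10
    rw [div_mul_eq_mul_div, ← h10, mul_div_cancel_right₀ _ hchib]
  have key2 : ∀ u w : Fin (n + 1) → k[X],
      der ξ ζ τ t u * der ξ ζ τ' t' w = der ξ ζ τ t w * der ξ ζ τ' t' u := by
    intro u w
    obtain ⟨c, hc⟩ := key u
    obtain ⟨d, hd⟩ := key w
    rw [hc τ t ht, hc τ' t' ht', hd τ t ht, hd τ' t' ht']
    ring
  refine ⟨fun i => ?_, fun i j => ?_⟩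
  · have h2 := key2 xvec (evec i)
    rw [der_xvec hpt ht, der_xvec hpt ht', der_evec, der_evec] at h2
    rw [h2, mul_comm]
  · have h2 := key2 (evec i) (evec j)
    rw [der_evec, der_evec, der_evec, der_evec] at h2
    exact h2

end Geometry

/-- **Smoothness of the structure constants of a curve.** -/
theorem isSm_of_pres {k K X : Type*} [Field k] [IsAlgClosed k] [Field K] [Algebra k K]
    (C : Crv k K X) (hC : C.Fin) (h1 : C.l 0 = 1) (hdg : ∀ P, C.dg0 P = 1) (O : X) {n : ℕ}
    {s : Fin (n + 1) → ℕ} {P : SC n k[X]} {x : K} {e : Fin (n + 1) → K} (hw : IsWt s)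
    (_hR : IsRing P) (hP : Pres C O s P x e) : IsSm P :=
  have : Infinite k := IsAlgClosed.instInfinite
  isSm_of_pres' hC h1 hdg hw hP

end Groth.Agent.CurvesA.Sp
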