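import Groth.Agent.CurvesA.Splitting

set_option autoImplicit false

/-!
# Fields splitting a central simple algebra embed in a similar algebra
-/

namespace Groth.Agent.CurvesA.SplitEmbed

open Module MulOpposite
open scoped TensorProduct

universe u v w

variable (k : Type u) [Field k]

/-- The division algebra in Wedderburn's theorem is central if the algebra is. -/
theorem isCentral_of_matrix (D : Type v) [Ring D] [Algebra k D] (n : ℕ) [NeZero n]
    [h : Algebra.IsCentral k (Matrix (Fin n) (Fin n) D)] : Algebra.IsCentral k D where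
  out x hx := by
    have hx' : Matrix.scalarAlgHom (Fin n) k x ∈ Subalgebra.center k (Matrix (Fin n) (Fin n) D) := by
      rw [Matrix.subalgebraCenter_eq_scalarAlgHom_map]
      exact ⟨x, hx, rfl⟩
    obtain ⟨r, hr⟩ := h.out hx'
    refine ⟨r, ?_⟩
    have := congrFun (congrFun hr 0) 0
    simpa [Algebra.ofId_apply, Matrix.algebraMap_matrix_apply, Matrix.scalar_apply] using this

/-- If `k'` splits the central simple algebra `A`, then `k'` embeds in an algebra `M_j(D)` of
dimension `[k' : k] ^ 2`, where `A = M_a(D)`. -/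
theorem exists_embed (k' : Type w) [Field k'] [Algebra k k'] [FiniteDimensional k k']
    (A : Type v) [Ring A] [Algebra k A] [IsSimpleRing A] [Algebra.IsCentral k A]
    [FiniteDimensional k A] (h : Curves.Splits k A k') :
    ∃ (D : Type v) (_ : DivisionRing D) (_ : Algebra k D) (_ : FiniteDimensional k D)
      (_ : Algebra.IsCentral k D) (a j : ℕ) (_ : NeZero a) (_ : NeZero j)
      (_ : A ≃ₐ[k] Matrix (Fin a) (Fin a) D) (_ : k' →ₐ[k] Matrix (Fin j) (Fin j) D),
      finrank k (Matrix (Fin j) (Fin j) D) = finrank k k' ^ 2 := by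
  classical
  obtain ⟨n, hn, ⟨e⟩⟩ := h
  have : NeZero n := ⟨hn⟩
  have : IsArtinianRing A := IsArtinianRing.of_finite k _
  -- the simple module
  obtain ⟨a, ha, S, hS, ⟨e1⟩⟩ := IsSimpleRing.exists_algEquiv_matrix_end_mulOpposite k A
  -- the module `V`
  let ρ : A →ₐ[k] Matrix (Fin n) (Fin n) k' :=
    (e.toAlgHom.restrictScalars k).comp Algebra.TensorProduct.includeRight
  let : Module A (Fin n → k') := Module.compHom _ ρ.toRingHom
  have hsm : ∀ (x : A) (v : Fin n → k'), x • v = ρ x • v := fun _ _ => rfl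
  have : IsScalarTower k A (Fin n → k') := ⟨fun c x v => by
    rw [hsm, hsm, map_smul, smul_assoc]⟩
  have : SMulCommClass A k' (Fin n → k') := ⟨fun x l v => by
    rw [hsm, hsm, smul_comm]⟩
  have : SMulCommClass k' A (Fin n → k') := SMulCommClass.symm _ _ _
  have : Module.Finite A (Fin n → k') := Module.Finite.of_restrictScalars_finite k A _
  obtain ⟨j, hj, ⟨f⟩⟩ := EndDim.exists_linearEquiv_fun A S (Fin n → k')
  obtain ⟨h1, h2, h3⟩ := EndDim.finrank_sq_and_isSimpleRing k A (Fin n → k')
  let e4 : (Module.End A (Fin n → k')) ≃ₐ[k] Matrix (Fin j) (Fin j) (Module.End A S) :=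
      (f.conjAlgEquiv k).trans (endVecAlgEquivMatrixEnd ..)
  let e5 : (Module.End A (Fin n → k'))ᵐᵒᵖ ≃ₐ[k] Matrix (Fin j) (Fin j) (Module.End A S)ᵐᵒᵖ :=
    (AlgEquiv.op e4).trans AlgEquiv.mopMatrix.symm
  have hA : finrank k A = n * n := by
    rw [← Module.finrank_baseChange (R := k'), e.toLinearEquiv.finrank_eq, Module.finrank_matrix]
    simp
  have hV : finrank k (Fin n → k') = n * finrank k k' := by
    rw [Module.finrank_pi_fintype]; simp
  have hn0 : 0 < n := Nat.pos_of_ne_zero hn
  have hE : finrank k (Module.End A (Fin n → k')) = finrank k k' ^ 2 := by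
    rw [hA, hV] at h1
    have : (n * n) * finrank k (Module.End A (Fin n → k')) = (n * n) * finrank k k' ^ 2 := by
      rw [← h1]; ring
    exact Nat.eq_of_mul_eq_mul_left (Nat.mul_pos hn0 hn0) this
  have : Module.Finite k (Matrix (Fin a) (Fin a) (Module.End A S)ᵐᵒᵖ) :=
    Module.Finite.equiv e1.toLinearEquiv
  have hfin : Module.Finite k (Module.End A S)ᵐᵒᵖ := .of_surjective
    (Matrix.entryLinearMap k _ (0 : Fin a) (0 : Fin a)) fun f ↦ ⟨fun _ _ ↦ f, rfl⟩
  have hcent : Algebra.IsCentral k (Matrix (Fin a) (Fin a) (Module.End A S)ᵐᵒᵖ) :=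
    Algebra.IsCentral.of_algEquiv k _ _ e1
  have hcent2 : Algebra.IsCentral k (Module.End A S)ᵐᵒᵖ := isCentral_of_matrix k _ a
  let φ : k' →ₐ[k] Module.End A (Fin n → k') :=
    { toFun := fun l =>
        { toFun := fun v => l • v
          map_add' := fun v w => smul_add _ _ _
          map_smul' := fun x v => smul_comm _ _ _ }
      map_one' := by ext v i; simp
      map_mul' := fun a b => by ext v i; simp [mul_assoc]
      map_zero' := by ext v i; simp
      map_add' := fun a b => by ext v i; simp [add_mul]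
      commutes' := fun r => by ext v i; simp [Algebra.smul_def] }
  let ψ : k' →ₐ[k] (Module.End A (Fin n → k'))ᵐᵒᵖ :=
    (AlgHom.op φ).comp (AlgEquiv.toOpposite k k').toAlgHom
  refine ⟨(Module.End A S)ᵐᵒᵖ, inferInstance, inferInstance, hfin, hcent2, a, j, ha, hj, e1,
    e5.toAlgHom.comp ψ, ?_⟩
  rw [← e5.toLinearEquiv.finrank_eq, ← hE]
  exact (MulOpposite.opLinearEquiv k).finrank_eq.symm

end Groth.Agent.CurvesA.SplitEmbed
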