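import Groth.Agent.CurvesA.MatrixDiv
import Groth.Agent.CurvesA.CSABasic
import Groth.Prelude.Def_Curves
import Mathlib.RingTheory.MatrixAlgebra
import Mathlib.Data.Matrix.Composition
import Mathlib.Algebra.Central.Matrix
import Mathlib.Algebra.Central.Basic

set_option autoImplicit false

/-!
# Splitting fields of central simple algebras
-/

namespace Groth.Agent.CurvesA.Splitting

open Module MulOpposite
open scoped TensorProduct

universe u v w

variable (k : Type u) [Field k] (k' : Type w) [Field k'] [Algebra k k']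

theorem splits_congr {A B : Type v} [Ring A] [Algebra k A] [Ring B] [Algebra k B]
    (e : A ≃ₐ[k] B) (h : Curves.Splits k A k') : Curves.Splits k B k' := by
  obtain ⟨n, hn, ⟨f⟩⟩ := h
  exact ⟨n, hn, ⟨(Algebra.TensorProduct.congr (AlgEquiv.refl : k' ≃ₐ[k'] k') e.symm).trans f⟩⟩

/-- A commutative ring is its own algebra of one by one matrices. -/
noncomputable def oneMatrix (R : Type w) [CommRing R] : R ≃ₐ[R] Matrix (Fin 1) (Fin 1) R :=
  AlgEquiv.ofBijective (Algebra.ofId R (Matrix (Fin 1) (Fin 1) R)) ⟨by
      intro a b hab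
      have := congrFun (congrFun hab 0) 0
      simpa [Algebra.ofId_apply, Matrix.algebraMap_matrix_apply] using this, by
      intro M
      refine ⟨M 0 0, ?_⟩
      ext i j
      simp [Algebra.ofId_apply, Matrix.algebraMap_matrix_apply, Subsingleton.elim i 0,
        Subsingleton.elim j 0]⟩

/-- Base change commutes with matrix algebras. -/
noncomputable def tensorMatrix (D : Type v) [Ring D] [Algebra k D] (n : ℕ) :
    k' ⊗[k] Matrix (Fin n) (Fin n) D ≃ₐ[k'] Matrix (Fin n) (Fin n) (k' ⊗[k] D) :=
  ((Algebra.TensorProduct.congr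
      (oneMatrix k')
      (AlgEquiv.refl : Matrix (Fin n) (Fin n) D ≃ₐ[k] _)).trans
    (Matrix.kroneckerTMulAlgEquiv (Fin 1) (Fin n) k k' k' D)).trans
    (Matrix.reindexAlgEquiv k' (k' ⊗[k] D) (Equiv.uniqueProd (Fin n) (Fin 1)))

theorem splits_matrix_of_splits (D : Type v) [Ring D] [Algebra k D] (n : ℕ) (hn : n ≠ 0)
    (h : Curves.Splits k D k') : Curves.Splits k (Matrix (Fin n) (Fin n) D) k' := by
  obtain ⟨r, hr, ⟨e⟩⟩ := h
  refine ⟨n * r, mul_ne_zero hn hr, ⟨?_⟩⟩
  exact (tensorMatrix k k' D n).trans <| (e.mapMatrix (m := Fin n)).trans <|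
    (Matrix.compAlgEquiv (Fin n) (Fin r) k' k').trans <|
    Matrix.reindexAlgEquiv k' k' finProdFinEquiv

theorem splits_of_splits_matrix (D : Type v) [Ring D] [Algebra k D] [IsSimpleRing D]
    [Algebra.IsCentral k D] [FiniteDimensional k D] (n : ℕ) (hn : n ≠ 0)
    (h : Curves.Splits k (Matrix (Fin n) (Fin n) D) k') : Curves.Splits k D k' := by
  obtain ⟨r, hr, ⟨e⟩⟩ := h
  have hs : IsSimpleRing (k' ⊗[k] D) := CSABasic.isSimpleRing_tensorProduct k k' D
  have : IsArtinianRing (k' ⊗[k] D) := IsArtinianRing.of_finite k' _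
  obtain ⟨s, hs0, E, _, _, _, ⟨f⟩⟩ :=
    IsSimpleRing.exists_algEquiv_matrix_divisionRing_finite k' (k' ⊗[k] D)
  have : NeZero n := ⟨hn⟩
  have : NeZero r := ⟨hr⟩
  let g : Matrix (Fin (n * s)) (Fin (n * s)) E ≃ₐ[k'] Matrix (Fin r) (Fin r) k' :=
    (Matrix.reindexAlgEquiv k' E finProdFinEquiv.symm).trans <|
    (Matrix.compAlgEquiv (Fin n) (Fin s) E k').symm.trans <|
    (f.symm.mapMatrix (m := Fin n)).trans <|
    (tensorMatrix k k' D n).symm.trans e
  obtain ⟨h⟩ := MatrixDiv.nonempty_algEquiv E (n * s) k' k' r g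
  exact ⟨s, hs0.out, ⟨f.trans h.mapMatrix⟩⟩

/-- A central simple algebra of dimension `d ^ 2` containing a field of degree `d` is split by it. -/
theorem splits_of_subfield (B : Type v) [Ring B] [Algebra k B] [IsSimpleRing B]
    [Algebra.IsCentral k B] [FiniteDimensional k B] [FiniteDimensional k k'] (φ : k' →ₐ[k] B)
    (hdim : finrank k B = finrank k k' ^ 2) : Curves.Splits k B k' := by
  let : SMul k' B := ⟨fun l x => x * φ l⟩
  have hsm : ∀ (l : k') (x : B), l • x = x * φ l := fun _ _ => rfl
  let : Module k' B :=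
    { one_smul := fun x => by rw [hsm]; simp
      mul_smul := fun a b x => by rw [hsm, hsm, hsm, mul_comm a b, map_mul, mul_assoc]
      smul_zero := fun a => by rw [hsm, zero_mul]
      smul_add := fun a x y => by rw [hsm, hsm, hsm, add_mul]
      add_smul := fun a b x => by rw [hsm, hsm, hsm, map_add, mul_add]
      zero_smul := fun x => by rw [hsm, map_zero, mul_zero] }
  have : IsScalarTower k k' B := ⟨fun a l x => by
    rw [hsm, hsm, map_smul, mul_smul_comm]⟩
  have : Module.Finite k' B := Module.Finite.of_restrictScalars_finite k k' B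
  let L : B →ₐ[k] Module.End k' B :=
    { toFun := fun b =>
        { toFun := fun x => b * x
          map_add' := fun x y => mul_add _ _ _
          map_smul' := fun l x => by
            simp only [RingHom.id_apply]
            rw [hsm, hsm, mul_assoc] }
      map_one' := by ext x; simp
      map_mul' := fun a b => by ext x; simp [mul_assoc]
      map_zero' := by ext x; simp
      map_add' := fun a b => by ext x; simp [add_mul]
      commutes' := fun r => by
        ext x
        simp only [LinearMap.coe_mk, AddHom.coe_mk, Module.algebraMap_end_apply]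
        rw [Algebra.smul_def] }
  let F : k' ⊗[k] B →ₐ[k'] Module.End k' B :=
    Algebra.TensorProduct.lift (Algebra.ofId k' (Module.End k' B)) L
      (fun x y => Algebra.commutes x (L y))
  have hs : IsSimpleRing (k' ⊗[k] B) := CSABasic.isSimpleRing_tensorProduct k k' B
  have hne : Nontrivial B := inferInstance
  have hF : Function.Injective F := RingHom.injective F.toRingHom
  have hd : 0 < finrank k k' := Module.finrank_pos
  have h1 : finrank k' B = finrank k k' := by
    have := Module.finrank_mul_finrank k k' B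
    rw [hdim, sq] at this
    exact Nat.eq_of_mul_eq_mul_left hd this
  have h2 : finrank k' (k' ⊗[k] B) = finrank k' (Module.End k' B) := by
    rw [Module.finrank_baseChange, Module.finrank_linearMap, h1, hdim, sq]
  have hF' : Function.Surjective F :=
    (LinearMap.injective_iff_surjective_of_finrank_eq_finrank (f := F.toLinearMap) h2).1 hF
  let e1 : k' ⊗[k] B ≃ₐ[k'] Module.End k' B := AlgEquiv.ofBijective F ⟨hF, hF'⟩
  refine ⟨finrank k k', hd.ne', ⟨e1.trans ?_⟩⟩
  exact algEquivMatrix (Module.finBasisOfFinrankEq k' B h1)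

end Groth.Agent.CurvesA.Splitting
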