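import Mathlib.RingTheory.NoetherNormalization
import Mathlib.RingTheory.DedekindDomain.IntegralClosure
import Mathlib.RingTheory.DedekindDomain.AdicValuation
import Mathlib.RingTheory.DedekindDomain.Factorization
import Mathlib.FieldTheory.PurelyInseparable.Exponent
import Mathlib.RingTheory.Valuation.Discrete.Basic
import Mathlib.RingTheory.Valuation.ExtendToLocalization
import Mathlib.FieldTheory.Minpoly.IsIntegrallyClosed
import Mathlib.RingTheory.Polynomial.UniqueFactorization
import Mathlib.Algebra.MvPolynomial.NoZeroDivisors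

/-!
# Units of finitely generated domains over a field

`exists_hom`: for a finitely generated domain `R` over a field `k` there is a homomorphism from
`Rˣ` to a finitely generated free abelian group, all elements of whose kernel are integral over `k`.
-/

set_option autoImplicit false

open IsDedekindDomain WithZero

namespace Groth.Agent.CurvesA.UnitThm

/-- Units of a finite extension of the fraction field of a DVR. -/
theorem exists_hom_of_dvr {A F K : Type*} [CommRing A] [IsDomain A] [IsDiscreteValuationRing A]
    [Field F] [Algebra A F] [IsFractionRing A F] [Field K] [Algebra F K] [FiniteDimensional F K]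
    [Algebra A K] [IsScalarTower A F K] :
    ∃ (n : ℕ) (φ : Kˣ →* (Fin n → Multiplicative ℤ)), ∀ u, φ u = 1 → IsIntegral A (u : K) := by
  classical
  let L := separableClosure F K
  let B := integralClosure A L
  have hDD : IsDedekindDomain B := integralClosure.isDedekindDomain A F L
  have hFR : IsFractionRing B L := IsIntegralClosure.isFractionRing_of_finite_extension A F L B
  have hint : Algebra.IsIntegral A B := IsIntegralClosure.isIntegral_algebra A L
  have hinjAB : Function.Injective (algebraMap A B) := by
    have h1 : Function.Injective (algebraMap A L) := by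
      rw [IsScalarTower.algebraMap_eq A F L]
      exact (algebraMap F L).injective.comp (IsFractionRing.injective A F)
    rw [IsScalarTower.algebraMap_eq A B L] at h1
    exact Function.Injective.of_comp (f := algebraMap B L) h1
  -- finiteness of the set of primes
  let 𝔪 := IsLocalRing.maximalIdeal A
  have h𝔪 : 𝔪 ≠ ⊥ := IsDiscreteValuationRing.not_a_field A
  have hI : 𝔪.map (algebraMap A B) ≠ 0 := by
    rw [Ideal.zero_eq_bot, Ne, Ideal.map_eq_bot_iff_of_injective hinjAB]
    exact h𝔪
  have hfin : Finite (HeightOneSpectrum B) := by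
    have h1 := Ideal.finite_factors hI
    refine Set.finite_univ_iff.mp (h1.subset ?_)
    intro w _
    rw [Set.mem_ofPred_eq, Ideal.dvd_iff_le, Ideal.map_le_iff_le_comap]
    have h2 : w.asIdeal.comap (algebraMap A B) ≠ ⊥ := by
      obtain ⟨x, hx, hx0⟩ := Submodule.exists_mem_ne_zero_of_ne_bot w.ne_bot
      exact Ideal.comap_ne_bot_of_integral_mem hx0 hx (hint.isIntegral x)
    have h3 : (w.asIdeal.comap (algebraMap A B)).IsPrime := Ideal.comap_isPrime _ _
    have h4 : (w.asIdeal.comap (algebraMap A B)).IsMaximal := h3.isMaximal h2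
    rw [IsLocalRing.eq_maximalIdeal h4]
  obtain ⟨n, ⟨e⟩⟩ := Finite.exists_equiv_fin (HeightOneSpectrum B)
  obtain ⟨p, hp⟩ := ExpChar.exists L
  let fr : K →+* L := IsPurelyInseparable.iterateFrobenius L K p
    (n := IsPurelyInseparable.exponent L K) le_rfl
  let φ : Kˣ →* (Fin n → Multiplicative ℤ) := MonoidHom.pi fun i =>
    (WithZero.unitsWithZeroEquiv (α := Multiplicative ℤ)).toMonoidHom.comp
      ((Units.map ((e.symm i).valuation L : L →* ℤᵐ⁰)).comp (Units.map (fr : K →* L)))
  refine ⟨n, φ, ?_⟩
  intro u hu
  have h1 : ∀ w : HeightOneSpectrum B, w.valuation L (fr u) ≤ 1 := by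
    intro w
    have h2 := congrFun hu (e w)
    have h5 : WithZero.unitsWithZeroEquiv (Units.map (((e.symm (e w)).valuation L : L →* ℤᵐ⁰))
        (Units.map (fr : K →* L) u)) = 1 := h2
    rw [e.symm_apply_apply] at h5
    have h6 := (MulEquiv.map_eq_one_iff _).mp h5
    have h7 := congrArg Units.val h6
    exact le_of_eq h7
  obtain ⟨b, hb⟩ := HeightOneSpectrum.mem_integers_of_valuation_le_one L (fr u) h1
  have htow : IsScalarTower A L K := IsScalarTower.of_algebraMap_eq fun x => rfl
  have h3 : IsIntegral A ((u : K) ^ p ^ IsPurelyInseparable.exponent L K) := by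
    have h4 : algebraMap L K (fr u) = (u : K) ^ p ^ IsPurelyInseparable.exponent L K :=
      IsPurelyInseparable.algebraMap_iterateFrobenius L p le_rfl (u : K)
    rw [← h4, ← hb]
    exact (b.2).algebraMap
  exact h3.of_pow (expChar_pow_pos L p _)

section deg

variable (σ k : Type*) [Field k]

open Classical in
/-- The valuation `exp (totalDegree)` on a polynomial ring. -/
noncomputable def degVal : Valuation (MvPolynomial σ k) ℤᵐ⁰ where
  toFun p := if p = 0 then 0 else WithZero.exp (p.totalDegree : ℤ)
  map_zero' := by simp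
  map_one' := by simp
  map_mul' p q := by
    by_cases hp : p = 0
    · simp [hp]
    by_cases hq : q = 0
    · simp [hq]
    rw [if_neg hp, if_neg hq, if_neg (mul_ne_zero hp hq),
      MvPolynomial.totalDegree_mul_of_isDomain hp hq, ← WithZero.exp_add]
    push_cast
    rfl
  map_add_le_max' p q := by
    by_cases hp : p = 0
    · simp [hp]
    by_cases hq : q = 0
    · simp [hq]
    by_cases hpq : p + q = 0
    · simp [hpq]
    rw [if_neg hp, if_neg hq, if_neg hpq]
    have h1 := MvPolynomial.totalDegree_add p q
    rcases le_total q.totalDegree p.totalDegree with h | h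
    · rw [max_eq_left h] at h1
      exact le_max_of_le_left (by rw [WithZero.exp_le_exp]; exact_mod_cast h1)
    · rw [max_eq_right h] at h1
      exact le_max_of_le_right (by rw [WithZero.exp_le_exp]; exact_mod_cast h1)

open Classical in
theorem degVal_apply (p : MvPolynomial σ k) :
    degVal σ k p = if p = 0 then 0 else WithZero.exp (p.totalDegree : ℤ) := rfl

theorem degVal_ne_zero {p : MvPolynomial σ k} (hp : p ≠ 0) : degVal σ k p ≠ 0 := by
  rw [degVal_apply, if_neg hp]
  exact WithZero.exp_ne_zero

open MonoidWithZeroHom in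
theorem exists_dvr (F : Type*) [Field F] [Algebra (MvPolynomial σ k) F]
    [IsFractionRing (MvPolynomial σ k) F] (i₀ : σ) :
    ∃ A : ValuationSubring F, IsDiscreteValuationRing A ∧
      ∀ p : MvPolynomial σ k, algebraMap _ F p ∈ A → ∃ c : k, p = MvPolynomial.C c := by
  have hS : nonZeroDivisors (MvPolynomial σ k) ≤ (degVal σ k).supp.primeCompl := by
    intro p hp
    change p ∉ (degVal σ k).supp
    rw [Valuation.mem_supp_iff]
    exact degVal_ne_zero σ k (nonZeroDivisors.ne_zero hp)
  let v : Valuation F ℤᵐ⁰ := (degVal σ k).extendToLocalization hS F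
  have hv : ∀ p, v (algebraMap _ F p) = degVal σ k p :=
    fun p => Valuation.extendToLocalization_apply_map_apply _ hS F p
  have hX : v (algebraMap (MvPolynomial σ k) F (MvPolynomial.X i₀)) = WithZero.exp (1 : ℤ) := by
    rw [hv, degVal_apply, if_neg (MvPolynomial.X_ne_zero (R := k) i₀), MvPolynomial.totalDegree_X]
    rfl
  have hnt : Nontrivial (valueGroup (MonoidWithZeroHom.ofClass v)) := by
    have h1 : Units.mk0 (WithZero.exp (1 : ℤ)) WithZero.exp_ne_zero ∈
        valueGroup (MonoidWithZeroHom.ofClass v) :=
      mem_valueGroup _ ⟨_, hX⟩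
    refine ⟨⟨⟨_, h1⟩, 1, ?_⟩⟩
    intro h
    have h2 := congrArg (fun x : valueGroup (MonoidWithZeroHom.ofClass v) => ((x : (ℤᵐ⁰)ˣ) : ℤᵐ⁰)) h
    simp at h2
  refine ⟨v.valuationSubring, inferInstance, ?_⟩
  intro p hp
  have h1 : v (algebraMap _ F p) ≤ 1 := hp
  rw [hv] at h1
  by_cases hp0 : p = 0
  · exact ⟨0, by simp [hp0]⟩
  rw [degVal_apply, if_neg hp0, ← WithZero.exp_zero, WithZero.exp_le_exp] at h1
  have h2 : p.totalDegree = 0 := by omega
  exact ⟨_, MvPolynomial.totalDegree_eq_zero_iff_eq_C.mp h2⟩

end deg

/-- **The unit theorem**. -/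
theorem exists_hom (k R : Type*) [Field k] [CommRing R] [IsDomain R] [Algebra k R]
    [Algebra.FiniteType k R] :
    ∃ (n : ℕ) (φ : Rˣ →* (Fin n → Multiplicative ℤ)), ∀ u, φ u = 1 → IsIntegral k (u : R) := by
  obtain ⟨s, g, hinj, hint⟩ := exists_finite_inj_algHom_of_fg k R
  let P := MvPolynomial (Fin s) k
  let : Algebra P R := g.toRingHom.toAlgebra
  have htow : IsScalarTower k P R := IsScalarTower.of_algebraMap_eq fun r => (g.commutes r).symm
  have hfin : Module.Finite P R := hint
  have hintPR : Algebra.IsIntegral P R := inferInstance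
  rcases Nat.eq_zero_or_pos s with hs | hs
  · subst hs
    refine ⟨0, 1, fun u _ => ?_⟩
    have h1 : Algebra.IsIntegral k P := ⟨fun p => by
      obtain ⟨c, rfl⟩ := MvPolynomial.C_surjective (Fin 0) p
      exact isIntegral_algebraMap⟩
    exact isIntegral_trans (A := P) _ (hintPR.isIntegral (u : R))
  let F := FractionRing P
  let K := FractionRing R
  have hinjPR : Function.Injective (algebraMap P R) := hinj
  have hfs : FaithfulSMul P R := (faithfulSMul_iff_algebraMap_injective P R).mpr hinjPR
  let : Algebra F K := FractionRing.liftAlgebra P K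
  have htow2 : IsScalarTower P F K := inferInstance
  have hFK : FiniteDimensional F K := .of_isLocalization P R (nonZeroDivisors P)
  obtain ⟨A, hA, hAP⟩ := exists_dvr (Fin s) k F ⟨0, hs⟩
  let : Algebra A K := ((algebraMap F K).comp (algebraMap A F)).toAlgebra
  have htow3 : IsScalarTower A F K := IsScalarTower.of_algebraMap_eq fun _ => rfl
  obtain ⟨n, φ, hφ⟩ := exists_hom_of_dvr (A := A) (F := F) (K := K)
  refine ⟨n, φ.comp (Units.map (algebraMap R K : R →* K)), fun u hu => ?_⟩
  have h1 : IsIntegral A (algebraMap R K (u : R)) := hφ _ hu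
  have h2 : IsIntegral P (u : R) := hintPR.isIntegral _
  have e1 : minpoly F (algebraMap R K (u : R)) = (minpoly P (u : R)).map (algebraMap P F) :=
    minpoly.isIntegrallyClosed_eq_field_fractions F K h2
  have e2 : minpoly F (algebraMap R K (u : R)) =
      (minpoly A (algebraMap R K (u : R))).map (algebraMap A F) :=
    minpoly.isIntegrallyClosed_eq_field_fractions' F h1
  have h3 : ∀ j, ∃ c : k, (minpoly P (u : R)).coeff j = MvPolynomial.C c := by
    intro j
    apply hAP
    have e3 := congrArg (fun q => Polynomial.coeff q j) (e1.symm.trans e2)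
    simp only [Polynomial.coeff_map] at e3
    rw [e3]
    exact ((minpoly A (algebraMap R K (u : R))).coeff j).2
  have h4 : minpoly P (u : R) ∈ Polynomial.lifts (MvPolynomial.C : k →+* P) := by
    rw [Polynomial.lifts_iff_coeff_lifts]
    intro j
    obtain ⟨c, hc⟩ := h3 j
    exact ⟨c, hc.symm⟩
  obtain ⟨q, hq1, -, hq3⟩ := Polynomial.lifts_and_natDegree_eq_and_monic h4 (minpoly.monic h2)
  refine ⟨q, hq3, ?_⟩
  have h5 : algebraMap k R = (algebraMap P R).comp (MvPolynomial.C : k →+* P) :=
    IsScalarTower.algebraMap_eq k P R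
  rw [h5, ← Polynomial.eval₂_map, hq1]
  exact minpoly.aeval P (u : R)

end Groth.Agent.CurvesA.UnitThm
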