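import Groth.Agent.S0670
import Groth.Prelude.Def_CohTop

/-!
# Zariski sheaves one universe up, as sheaves on a lifted topological space

For a scheme `S : Scheme.{u}` the Zariski sheaves `EtZar.Ab S` have values in `AddCommGrpCat.{u + 1}`.  They are
the sheaves on the space `up S = ULift.{u + 1} S : TopCat.{u + 1}`; this transports `EtZar.H` to `CohTop.H`.
-/

set_option autoImplicit false
universe u

open CategoryTheory CategoryTheory.Limits AlgebraicGeometry Opposite TopologicalSpace

noncomputable section

namespace Groth.Agent.CurvesA.UpTop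

/-- The lifted space. -/
abbrev up (X : Type u) [TopologicalSpace X] : TopCat.{u + 1} := TopCat.of (ULift.{u + 1} X)

/-- The equivalence of sites. -/
def eqv (X : Type u) [TopologicalSpace X] : Opens X ≌ Opens (up X) :=
  (Homeomorph.ulift.{u + 1} (X := X)).symm.opensCongr.equivalence

/-- The functor on opens. -/
abbrev upF (X : Type u) [TopologicalSpace X] : Opens X ⥤ Opens (up X) := (eqv X).functor

theorem mem_upF {X : Type u} [TopologicalSpace X] (U : Opens X) (x : up X) :
    x ∈ (upF X).obj U ↔ x.down ∈ U := Iff.rfl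

instance isDenseSubsite (X : Type u) [TopologicalSpace X] :
    (upF X).IsDenseSubsite (Opens.grothendieckTopology X) (Opens.grothendieckTopology (up X)) where
  functorPushforward_mem_iff {V R} := by
    constructor
    · intro h x hx
      obtain ⟨Y, g, ⟨W, i, j, hi, hj⟩, hy⟩ := h ⟨x⟩ hx
      exact ⟨W, i, hi, j.le hy⟩
    · intro h x hx
      obtain ⟨W, i, hi, hxW⟩ := h x.down hx
      exact ⟨_, (upF X).map i, Sieve.image_mem_functorPushforward _ _ hi, hxW⟩

/-- top is terminal, also after `upF` -/
def upTop (X : Type u) [TopologicalSpace X] : IsTerminal ((upF X).obj ⊤) :=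
  IsTerminal.ofUniqueHom (fun _ => homOfLE (fun _ _ => trivial)) (fun _ _ => Subsingleton.elim _ _)

/-- Restriction of sheaves. -/
abbrev resUp (X : Type u) [TopologicalSpace X] :
    CohTop.Ab (up X) ⥤ Sheaf (Opens.grothendieckTopology X) AddCommGrpCat.{u + 1} :=
  (upF X).sheafPushforwardContinuous AddCommGrpCat.{u + 1} (Opens.grothendieckTopology X)
    (Opens.grothendieckTopology (up X))

/-- Zariski cohomology one universe up is the cohomology of the lifted space. -/
theorem nonempty_equiv (S : Scheme.{u}) (B : CohTop.Ab (up S)) (G : EtZar.Ab S)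
    (e : (resUp S).obj B ≅ G) (i : ℕ) :
    Nonempty (CohTop.H B i ≃+ EtZar.H G i) := by
  have hl : ∀ X, HasLimitsOfShape (StructuredArrow X (upF S).op) AddCommGrpCat.{u + 1} := by
    intro X
    infer_instance
  have h1 : (resUp S).IsEquivalence := inferInstance
  have h2 : (resUp S).Additive := { }
  let e' := (equivCommuteConstant' (Opens.grothendieckTopology S) AddCommGrpCat.{u + 1}
    (Opens.grothendieckTopology (up S)) (upF S) (T := (⊤ : Opens S)) isTerminalTop (upTop S)).app
      (AddCommGrpCat.of (ULift.{u + 1} ℤ))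
  obtain ⟨a⟩ := S0670.extEquiv (resUp S) _ _ e' B i
  exact ⟨a.trans (CohtopA.FreeYo.extCongrRight _ e i)⟩

/-- The constant sheaves correspond. -/
theorem nonempty_constIso (S : Scheme.{u}) (A : AddCommGrpCat.{u + 1}) :
    Nonempty ((resUp S).obj ((constantSheaf (Opens.grothendieckTopology (up S)) _).obj A) ≅
      (constantSheaf (Opens.grothendieckTopology S) _).obj A) :=
  ⟨((equivCommuteConstant' (Opens.grothendieckTopology S) AddCommGrpCat.{u + 1}
    (Opens.grothendieckTopology (up S)) (upF S) (T := (⊤ : Opens S)) isTerminalTop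
      (upTop S)).app A).symm⟩

/-- For a scheme all of whose local rings are strictly henselian, the étale cohomology of a constant sheaf is the
cohomology of the constant sheaf on the lifted topological space. -/
theorem nonempty_H_const (S : Scheme.{u})
    (hS : ∀ s : S, EtCoh.IsStrictlyHenselianLocalRing (S.presheaf.stalk s))
    (A : AddCommGrpCat.{u + 1}) (i : ℕ) :
    Nonempty (EtCoh.H S ((constantSheaf S.smallEtaleTopology AddCommGrpCat.{u + 1}).obj A) i ≃+
      CohTop.H ((constantSheaf (Opens.grothendieckTopology (up S)) AddCommGrpCat.{u + 1}).obj A) i) := by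
  have := Etbase.ZarDense.isDenseSubsite S hS
  let e := (equivCommuteConstant' (Opens.grothendieckTopology S) AddCommGrpCat.{u + 1}
    S.smallEtaleTopology (EtZar.zarToEt S) (T := (⊤ : S.Opens)) isTerminalTop (S0670.zarTop S)).app A
  obtain ⟨e'⟩ := nonempty_constIso S A
  obtain ⟨a⟩ := S0670.result S hS ((constantSheaf S.smallEtaleTopology AddCommGrpCat.{u + 1}).obj A) i
  obtain ⟨b⟩ := nonempty_equiv S ((constantSheaf (Opens.grothendieckTopology (up S)) _).obj A)
    ((EtZar.resZar S).obj ((constantSheaf S.smallEtaleTopology AddCommGrpCat.{u + 1}).obj A))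
    (e' ≪≫ e) i
  exact ⟨a.trans b.symm⟩

end Groth.Agent.CurvesA.UpTop
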